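import Cfsg.Agent.Lib.Invol.Aschbacher.Last.Setting

/-!
# Pairs and middles in the last configuration

An element fixing two points and centralising the members at one of them centralises the members at the other and
the swappers.  An outside involution has one middle at each point it moves, and an element commuting with it which
fixes that point centralises a member at a fixed point of the involution.
-/

set_option autoImplicit false
set_option linter.unusedSectionVars false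

namespace Cfsg.Agent.Invol.Aschbacher.Last

open MulAction Subgroup
open Cfsg.Agent.Invol.Bender (pairStab mem_pair conj_smul_smul)
open scoped Pointwise

universe u

variable {G : Type u} [Group G] [Finite G] {Ω : Type u} [MulAction G Ω] {Z : Set G}

namespace Setting

variable (X : Setting G Ω Z)
include X

/-- If a subgroup contains all members at one point and one at another, it contains all at the other. -/
theorem all_of_one {M : Subgroup G} {a b : Ω} (ha : ∀ z ∈ zAt Z a, z ∈ M) {s : G} (hs : s ∈ zAt Z b)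
    (hsM : s ∈ M) {t : G} (ht : t ∈ zAt Z b) : t ∈ M := by
  have S := X.hyp
  rcases eq_or_ne a b with rfl | hab
  · exact ha t ht
  obtain ⟨r, hr⟩ := S.zAt_nonempty a
  have hnt : (zCen Ω Z M).Nontrivial :=
    ⟨a, ⟨r, hr.1, ha r hr, hr.2⟩, b, ⟨s, hs.1, hsM, hs.2⟩, hab⟩
  let a' : S.zAct M := ⟨a, r, hr.1, ha r hr, hr.2⟩
  let b' : S.zAct M := ⟨b, s, hs.1, hsM, hs.2⟩
  have key : ∀ c' : S.zAct M, Nat.card ↥(zAt {z : M | (z : G) ∈ Z} c') =
      ({z | z ∈ zAt Z (c' : Ω) ∧ z ∈ M} : Set G).ncard := fun c' => by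
    rw [← Nat.card_coe_set_eq]
    refine Nat.card_congr ⟨fun z => ⟨z.1.1, ⟨z.2.1, congrArg Subtype.val z.2.2⟩, z.1.2⟩,
      fun z => ⟨⟨z.1, z.2.2⟩, z.2.1.1, Subtype.ext z.2.1.2⟩, fun z => rfl, fun z => rfl⟩
  have h := (key a').symm.trans (((S.sub hnt).card_zAt a' b').trans (key b'))
  have h1 : ({z | z ∈ zAt Z a ∧ z ∈ M} : Set G) = zAt Z a := Set.ext fun z => ⟨And.left, fun hz => ⟨hz, ha z hz⟩⟩
  have h2 : ({z | z ∈ zAt Z b ∧ z ∈ M} : Set G) = zAt Z b := by
    refine Set.eq_of_subset_of_ncard_le (fun z hz => hz.1) ?_ (Set.toFinite _)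
    rw [← h, h1, ← Nat.card_coe_set_eq, ← Nat.card_coe_set_eq, S.card_zAt a b]
  have h3 : t ∈ ({z | z ∈ zAt Z b ∧ z ∈ M} : Set G) := by rw [h2]; exact ht
  exact h3.2

/-- An element centralising the members at one point and one at another centralises all at the other. -/
theorem commute_all {a b : Ω} {k : G} (ha : ∀ z ∈ zAt Z a, Commute z k) {s : G} (hs : s ∈ zAt Z b)
    (hsk : Commute s k) {t : G} (ht : t ∈ zAt Z b) : Commute t k := by
  have h := X.all_of_one (M := Subgroup.centralizer ({k} : Set G))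
    (fun z hz => Subgroup.mem_centralizer_singleton_iff.2 (ha z hz).eq) hs
    (Subgroup.mem_centralizer_singleton_iff.2 hsk.eq) ht
  exact Subgroup.mem_centralizer_singleton_iff.1 h

/-- The case of prime power order. -/
theorem commute_other_pgroup {p : ℕ} [hp : Fact p.Prime] {a b : Ω} (hab : a ≠ b) {k : G} (hk : k ∈ cPair Z a b)
    (hkp : IsPGroup p (Subgroup.zpowers k)) {s : G} (hs : s ∈ zAt Z b) : Commute s k := by
  classical
  have S := X.hyp
  obtain ⟨hka, hkb, hkc⟩ := mem_cPair.1 hk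
  suffices h : ∃ s₀ ∈ zAt Z b, Commute s₀ k by
    obtain ⟨s₀, hs₀, h₀⟩ := h
    exact X.commute_all hkc hs₀ h₀ hs
  by_cases hp2 : p = 2
  · subst hp2
    obtain ⟨c, hc, hcc⟩ := S.exists_partner hkp (Subgroup.zpowers_le.2 (mem_stabilizer_iff.2 hkb))
    exact ⟨c, hc, hcc k (Subgroup.mem_zpowers k)⟩
  have hkD : Subgroup.zpowers k ≤ pairStab G a b := Subgroup.zpowers_le.2 (mem_pair.2 ⟨hka, hkb⟩)
  obtain ⟨P₀, hP₀⟩ := (hkp.of_equiv (subgroupOfEquivOfLe hkD).symm).exists_le_sylow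
  obtain ⟨P, hPdef⟩ : ∃ P, P = (P₀ : Subgroup (pairStab G a b)).map (pairStab G a b).subtype := ⟨_, rfl⟩
  have hP : Grp.IsSylowIn p P (pairStab G a b) := Grp.isSylowIn_iff.2 ⟨P₀, hPdef.symm⟩
  have hkP : k ∈ P := hPdef ▸
    ⟨⟨k, hkD (Subgroup.mem_zpowers k)⟩, hP₀ (Subgroup.mem_subgroupOf.2 (Subgroup.mem_zpowers k)), rfl⟩
  obtain ⟨w, hw, hwP⟩ := S.exists_swapper_normalizer hp2 hab hP
  have hw2 := S.invol w hw.1
  have hww := mul_self_of_orderOf_two hw2
  have hwi := inv_of_orderOf_two hw2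
  have hwb : w • b = a := by rw [← hw.2, ← mul_smul, hww, one_smul]
  have hconjat : ∀ {t : G}, t ∈ zAt Z a → w * t * w⁻¹ ∈ zAt Z b := fun {t} ht => by
    have h0 := S.zAt_conj (g := w) ht
    rwa [hw.2] at h0
  have hconjbt : ∀ {t : G}, t ∈ zAt Z b → w * t * w⁻¹ ∈ zAt Z a := fun {t} ht => by
    have h0 := S.zAt_conj (g := w) ht
    rwa [hwb] at h0
  have hback : ∀ g : G, w * (w * g * w⁻¹) * w⁻¹ = g := fun g => by
    calc w * (w * g * w⁻¹) * w⁻¹ = (w * w) * g * (w * w)⁻¹ := by group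
      _ = g := by rw [hww, one_mul, inv_one, mul_one]
  obtain ⟨k', hk'def⟩ : ∃ k', k' = w * k * w⁻¹ := ⟨_, rfl⟩
  have hk'P : k' ∈ P := hk'def ▸ conj_mem_of_norm hwP hkP
  have hwk' : w * k' * w⁻¹ = k := by rw [hk'def, hback]
  have hk'b : ∀ t ∈ zAt Z b, Commute t k' := fun t ht => by
    have h0 := (hkc _ (hconjbt ht)).map (MulAut.conj w).toMonoidHom
    simp only [MulEquiv.coe_toMonoidHom, MulAut.conj_apply] at h0
    rwa [hback, ← hk'def] at h0
  -- the part centralising the members at both points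
  obtain ⟨C, hC⟩ : ∃ C : Subgroup G, C = P ⊓ Subgroup.centralizer (zAt Z a ∪ zAt Z b) := ⟨_, rfl⟩
  have hmemC : ∀ {g : G}, g ∈ C ↔ g ∈ P ∧ (∀ t ∈ zAt Z a, Commute t g) ∧ ∀ t ∈ zAt Z b, Commute t g := by
    intro g
    rw [hC, Subgroup.mem_inf, Subgroup.mem_centralizer_iff]
    exact and_congr_right fun _ => ⟨fun h => ⟨fun t ht => h t (Or.inl ht), fun t ht => h t (Or.inr ht)⟩,
      fun h t ht => ht.elim (h.1 t) (h.2 t)⟩
  have hPodd : Odd (Nat.card P) := QOdd.odd_of_isPGroup hp2 hP.2.1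
  have hCodd : Odd (Nat.card C) := hPodd.of_dvd_nat (Subgroup.card_dvd_of_le fun g hg => (hmemC.1 hg).1)
  have hconjfix : ∀ {g t : G} {c : Ω}, g • c = c → t ∈ zAt Z c → g⁻¹ * t * g ∈ zAt Z c := fun {g t c} hg ht => by
    have h0 := S.zAt_conj (g := g⁻¹) ht
    rwa [inv_inv, inv_smul_eq_iff.2 hg.symm] at h0
  have hk'D := mem_pair.1 (hP.1 hk'P)
  have hmove : ∀ {g h : G} {c : Ω}, (∀ t ∈ zAt Z c, Commute t g) → h • c = c →
      ∀ t ∈ zAt Z c, Commute t (h * g * h⁻¹) := fun {g h c} hg hh t ht => by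
    have h4 := (hg _ (hconjfix hh ht)).map (MulAut.conj h).toMonoidHom
    simp only [MulEquiv.coe_toMonoidHom, MulAut.conj_apply] at h4
    rwa [show h * (h⁻¹ * t * h) * h⁻¹ = t by group] at h4
  have hcomm : w * (k * k') * w⁻¹ * (k * k')⁻¹ ∈ C := by
    have e : w * (k * k') * w⁻¹ * (k * k')⁻¹ = k' * k * k'⁻¹ * k⁻¹ := by
      calc w * (k * k') * w⁻¹ * (k * k')⁻¹ = (w * k * w⁻¹) * (w * k' * w⁻¹) * k'⁻¹ * k⁻¹ := by group
        _ = _ := by rw [← hk'def, hwk']
    rw [e]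
    refine hmemC.2 ⟨mul_mem (mul_mem (mul_mem hk'P hkP) (inv_mem hk'P)) (inv_mem hkP), fun t ht => ?_,
      fun t ht => ?_⟩
    · exact (hmove hkc hk'D.1 t ht).mul_right (hkc t ht).inv_right
    · rw [show k' * k * k'⁻¹ * k⁻¹ = k' * (k * k' * k⁻¹)⁻¹ by group]
      exact (hk'b t ht).mul_right (hmove hk'b hkb t ht).inv_right
  obtain ⟨r, hr, c, hcw, hrc⟩ := exists_mul_fixed hw2 hCodd hcomm
  obtain ⟨hrP, hra, -⟩ := hmemC.1 hr
  have hcP : c ∈ P := by
    have h1 : r⁻¹ * (k * k') ∈ P := mul_mem (inv_mem hrP) (mul_mem hkP hk'P)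
    rwa [hrc, inv_mul_cancel_left] at h1
  obtain ⟨t, ht, htc⟩ := S.good_odd X.realFree hab hw _ (Subgroup.zpowers c) rfl
    (hPodd.of_dvd_nat (Subgroup.card_dvd_of_le (Subgroup.zpowers_le.2 hcP)))
    (Subgroup.zpowers_le.2 (hP.1 hcP)) (fun g hg => by
      obtain ⟨i, rfl⟩ := Subgroup.mem_zpowers_iff.1 hg
      exact hcw.zpow_left i)
  have htk' : Commute t k' := by
    have h1 : Commute t (k * k') := hrc ▸ (hra t ht).mul_right (htc c (Subgroup.mem_zpowers c)).symm
    have h2 : k' * t * k'⁻¹ ∈ zAt Z a := by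
      have h0 := S.zAt_conj (g := k') ht
      rwa [hk'D.1] at h0
    have h3 : k * (k' * t * k'⁻¹) * k⁻¹ = t := by
      calc k * (k' * t * k'⁻¹) * k⁻¹ = (k * k') * t * (k * k')⁻¹ := by group
        _ = t := by rw [← h1.eq, mul_inv_cancel_right]
    rw [← (hkc _ h2).eq, mul_inv_cancel_right] at h3
    exact (mul_inv_eq_iff_eq_mul.1 h3).symm
  refine ⟨w * t * w⁻¹, hconjat ht, ?_⟩
  have h4 := htk'.map (MulAut.conj w).toMonoidHom
  simp only [MulEquiv.coe_toMonoidHom, MulAut.conj_apply] at h4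
  rwa [hwk'] at h4

/-- An element centralising the members at one point of a pair which it fixes centralises those at the other. -/
theorem commute_other {a b : Ω} (hab : a ≠ b) {k : G} (hk : k ∈ cPair Z a b) {s : G} (hs : s ∈ zAt Z b) :
    Commute s k := by
  classical
  obtain ⟨K, hK⟩ : ∃ K : Subgroup G, K = cPair Z a b ⊓ Subgroup.centralizer ({s} : Set G) := ⟨_, rfl⟩
  have hle : K ≤ cPair Z a b := hK ▸ inf_le_left
  suffices h : K = cPair Z a b by
    rw [← h, hK] at hk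
    exact (Subgroup.mem_centralizer_singleton_iff.1 hk.2).symm
  refine Subgroup.eq_of_le_of_card_ge hle (Nat.le_of_dvd Nat.card_pos ?_)
  rw [← Nat.factorization_le_iff_dvd Nat.card_pos.ne' Nat.card_pos.ne']
  intro p
  by_cases hp : p.Prime
  swap
  · simp [Nat.factorization_eq_zero_of_not_prime _ hp]
  have := Fact.mk hp
  obtain ⟨P, hP⟩ := Grp.exists_isSylowIn p (cPair Z a b)
  have hPK : P ≤ K := fun g hg => hK ▸ ⟨hP.1 hg, Subgroup.mem_centralizer_singleton_iff.2
    (X.commute_other_pgroup hab (hP.1 hg) (hP.2.1.to_le (Subgroup.zpowers_le.2 hg)) hs).eq.symm⟩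
  have h1 := (Nat.factorization_le_iff_dvd Nat.card_pos.ne' Nat.card_pos.ne').2 (Subgroup.card_dvd_of_le hPK) p
  rwa [hP.card, hp.factorization_pow, Finsupp.single_eq_same] at h1

theorem cPair_comm {a b : Ω} (hab : a ≠ b) : cPair Z a b = cPair Z b a := by
  refine le_antisymm (fun k hk => ?_) fun k hk => ?_
  · obtain ⟨h1, h2, -⟩ := mem_cPair.1 hk
    exact mem_cPair.2 ⟨h2, h1, fun s hs => X.commute_other hab hk hs⟩
  · obtain ⟨h1, h2, -⟩ := mem_cPair.1 hk
    exact mem_cPair.2 ⟨h2, h1, fun s hs => X.commute_other hab.symm hk hs⟩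

/-- Such an element centralises the swappers. -/
theorem commute_swap {a b : Ω} (hab : a ≠ b) {k : G} (hk : k ∈ cPair Z a b) {w : G} (hw : w ∈ zSwap Z a b) :
    Commute w k := by
  have S := X.hyp
  obtain ⟨hka, hkb, hkc⟩ := mem_cPair.1 hk
  obtain ⟨t, ht⟩ := S.zAt_nonempty a
  have hw' : k * w * k⁻¹ ∈ zSwap Z a b :=
    ⟨S.conj_mem k w hw.1, by rw [mul_smul, mul_smul, inv_smul_eq_iff.2 hka.symm, hw.2, hkb]⟩
  have hs : w * t * w⁻¹ ∈ zAt Z b := by
    have h0 := S.zAt_conj (g := w) ht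
    rwa [hw.2] at h0
  have e : k * w * k⁻¹ * t * (k * w * k⁻¹)⁻¹ = w * t * w⁻¹ := by
    calc k * w * k⁻¹ * t * (k * w * k⁻¹)⁻¹ = k * w * (k⁻¹ * (t * k)) * w⁻¹ * k⁻¹ := by group
      _ = k * (w * t * w⁻¹) * k⁻¹ := by rw [(hkc t ht).eq]; group
      _ = w * t * w⁻¹ := by rw [← (X.commute_other hab hk hs).eq, mul_inv_cancel_right]
  exact (mul_inv_eq_iff_eq_mul.1 (S.zSwap_conj_inj hab hw' hw ht e)).symm

/-- The members at a fixed point of an outside involution commute with it. -/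
theorem mem_lgen_of_fix {u z : G} {a : Ω} (hu : orderOf u = 2) (huZ : u ∉ Z) (ha : u • a = a) (hz : z ∈ zAt Z a) :
    z ∈ lgen Z u := mem_lgen hz.1 (X.cent u hu huZ a ha z hz)

theorem invol_mem_cPair {u : G} (hu : orderOf u = 2) {a b : Ω} (ha : u • a = a) (hb : u • b = b) :
    u ∈ cPair Z a b := mem_cPair.2 ⟨ha, hb, (mem_cHull.1 (X.invol_mem_cHull hu ha)).2⟩

theorem swap_mem_lgen {u w : G} {a b : Ω} (hu : orderOf u = 2) (hab : a ≠ b) (ha : u • a = a) (hb : u • b = b)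
    (hw : w ∈ zSwap Z a b) : w ∈ lgen Z u :=
  mem_lgen hw.1 (X.commute_swap hab (X.invol_mem_cPair hu ha hb) hw)

/-- An outside involution has only one middle at a point it moves. -/
theorem middle_fix_unique {u : G} (hu : orderOf u = 2) (huZ : u ∉ Z) {b : Ω} (hub : u • b ≠ b) {w w' : G}
    (hw : w ∈ Z) (hwu : Commute w u) (hb : (u * w) • b = b) (hw' : w' ∈ Z) (hwu' : Commute w' u)
    (hb' : (u * w') • b = b) : w = w' := by
  have S := X.hyp
  obtain ⟨x, hx⟩ := S.zAt_nonempty b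
  obtain ⟨h1, h2, -⟩ := S.mul_notMem hu huZ hw hwu
  obtain ⟨h1', h2', -⟩ := S.mul_notMem hu huZ hw' hwu'
  exact S.middle_unique hu huZ hub hx hw hwu (X.cent _ h1 h2 b hb x hx).symm hw' hwu'
    (X.cent _ h1' h2' b hb' x hx).symm

/-- An element commuting with `u` and fixing a point moved by `u` commutes with a member at a fixed point of `u`
commuting with `u`. -/
theorem exists_middle_fix {u g : G} (hu : orderOf u = 2) (huZ : u ∉ Z) {b : Ω} (hub : u • b ≠ b)
    (hgu : Commute g u) (hgb : g • b = b) : ∃ w ∈ Z, Commute w u ∧ Commute g w ∧ (u * w) • b = b := by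
  have S := X.hyp
  obtain ⟨w, hw, hwu, hb, -⟩ := S.exists_mul_fix hu huZ b hub
  refine ⟨w, hw, hwu, ?_, hb⟩
  have h1 : Commute (g * w * g⁻¹) u := by
    have h0 := hwu.map (MulAut.conj g).toMonoidHom
    simp only [MulEquiv.coe_toMonoidHom, MulAut.conj_apply] at h0
    rwa [hgu.eq, mul_inv_cancel_right] at h0
  have h2 : (u * (g * w * g⁻¹)) • b = b := by
    rw [show u * (g * w * g⁻¹) = g * (u * w) * g⁻¹ by
      calc u * (g * w * g⁻¹) = (u * g) * w * g⁻¹ := by group
        _ = g * (u * w) * g⁻¹ := by rw [← hgu.eq]; group]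
    rw [mul_smul, mul_smul, inv_smul_eq_iff.2 hgb.symm, hb, hgb]
  exact mul_inv_eq_iff_eq_mul.1 (X.middle_fix_unique hu huZ hub (S.conj_mem g w hw) h1 h2 hw hwu hb)

/-- An element fixing two points, commuting with an outside involution fixing both and centralising no member at
either, fixes only these two outside the fixed points of the involution. -/
theorem fix_of_free {u g : G} (hu : orderOf u = 2) (huZ : u ∉ Z) (hgu : Commute g u)
    (hfree : ∀ c : Ω, u • c = c → g • c = c → ∀ z ∈ zAt Z c, ¬ Commute g z) {x : Ω} (hgx : g • x = x) :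
    u • x = x := by
  by_contra hux
  obtain ⟨w, hw, hwu, hgw, -⟩ := X.exists_middle_fix hu huZ hux hgu hgx
  obtain ⟨c, hc⟩ := X.hyp.exists_fix hw
  exact hfree c (X.hyp.fix_of_commute hw hc hwu.symm) (X.hyp.fix_of_commute hw hc hgw) w ⟨hw, hc⟩ hgw

end Setting

end Cfsg.Agent.Invol.Aschbacher.Last
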