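import Cfsg.Agent.Lib.Invol.Aschbacher.RealFix
import Cfsg.Agent.Lib.Invol.Bender.Complement

/-!
# The two part of a point stabiliser in a generated subgroup

If real elements fix one point, the kernel of a subgroup generated by members on its centres is central.  Hence the
elements of two-power order fixing a centre form a group regular on the other centres and centralised by the members
there.
-/

set_option autoImplicit false
set_option linter.unusedSectionVars false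

namespace Cfsg.Agent.Invol.Aschbacher

open MulAction Subgroup
open Cfsg.Agent.Invol.Bender (cen ker mem_ker ker_le invAt pairStab mem_pair SplitAt mem_cen_smul conj_smul_smul
  ker_conj_mem)

universe u v

variable {G : Type u} [Group G] [Finite G] {Ω : Type v} [MulAction G Ω] {Z : Set G}

namespace SubData

variable {M : Subgroup G} (T : SubData Z Ω M)
include T

/-- An element of two-power order fixing a centre lies in the normal two part. -/
theorem mem_of_two_pow {d : Ω} {Q : Subgroup G} (hQ : SplitAt M d Q) {g : G} (hg : g ∈ M) (hgd : g • d = d)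
    {k : ℕ} (hk : g ^ 2 ^ k = 1) : g ∈ Q := by
  obtain ⟨e, hec, he⟩ := T.exists_other d
  obtain ⟨q, hq, x, hx, hgx⟩ := T.exists_mul hQ hec he hg hgd
  obtain ⟨hxM, hxp⟩ := Subgroup.mem_inf.1 hx
  have hodd : Odd (orderOf x) := (hQ.odd_pair e hec he).of_dvd_nat (Subgroup.orderOf_dvd_natCard _ hx)
  let N := M ⊓ stabilizer G d
  let Q' := Q.subgroupOf N
  have : Q'.Normal := ⟨fun a ha c => by
    rw [Subgroup.mem_subgroupOf] at ha ⊢
    simpa using hQ.conj_mem _ c.2 _ ha⟩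
  let g' : N := ⟨g, Subgroup.mem_inf.2 ⟨hg, mem_stabilizer_iff.2 hgd⟩⟩
  let x' : N := ⟨x, Subgroup.mem_inf.2 ⟨hxM, mem_stabilizer_iff.2 (mem_pair.1 hxp).1⟩⟩
  have h1 : QuotientGroup.mk' Q' g' = QuotientGroup.mk' Q' x' := by
    refine (QuotientGroup.eq.2 ?_).symm
    rw [Subgroup.mem_subgroupOf, Subgroup.coe_mul, Subgroup.coe_inv]
    show x⁻¹ * g ∈ Q
    have := hQ.conj_mem x⁻¹ (InvMemClass.inv_mem x'.2) q hq
    rw [hgx]
    simpa [mul_assoc] using this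
  have h2 : QuotientGroup.mk' Q' g' = 1 := by
    refine Bender.eq_one_of_two_pow_of_odd (s := k) (hodd.of_dvd_nat ?_) ?_
    · rw [h1]
      exact (orderOf_map_dvd _ x').trans (by rw [← Subgroup.orderOf_coe])
    · rw [← map_pow, show g' ^ 2 ^ k = 1 from Subtype.ext (by
        rw [SubmonoidClass.coe_pow]; exact hk), map_one]
  exact (QuotientGroup.eq_one_iff g').1 h2

/-- Members commute with the kernel. -/
theorem commute_ker (hF : RealFree Z Ω) {z : G} (hz : z ∈ Z) (hzM : z ∈ M) {x : G} (hx : x ∈ ker Ω M) :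
    Commute z x := by
  have S := T.hyp
  obtain ⟨d, hd⟩ := S.exists_fix hz
  have hdM : d ∈ cen Ω M := ⟨z, hzM, S.invol z hz, hd⟩
  obtain ⟨e, he, hed⟩ := T.exists_other d
  obtain ⟨r, hr⟩ : ∃ r, r = z * x * z⁻¹ * x⁻¹ := ⟨_, rfl⟩
  have hrK : r ∈ ker Ω M := hr ▸ mul_mem (ker_conj_mem hzM hx) (InvMemClass.inv_mem hx)
  suffices h : r = 1 by
    rw [hr] at h
    exact (mul_inv_eq_iff_eq_mul.1 (mul_inv_eq_one.1 h))
  by_contra hne
  refine hF z r d e ⟨hz, hd⟩ ⟨?_, hne⟩ (T.odd_ker.of_dvd_nat (Subgroup.orderOf_dvd_natCard _ hrK))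
    ((mem_ker.1 hrK).2 d hdM) hed ((mem_ker.1 hrK).2 e he)
  have hzi := inv_of_orderOf_two (S.invol z hz)
  rw [hr, hzi]
  calc z * (z * x * z * x⁻¹) * z = (z * z) * x * z * x⁻¹ * z := by group
    _ = (z * x * z * x⁻¹)⁻¹ := by
      rw [mul_self_of_orderOf_two (S.invol z hz), one_mul, _root_.mul_inv_rev, _root_.mul_inv_rev,
        _root_.mul_inv_rev, inv_inv, hzi]
      group

/-- The kernel is central. -/
theorem commute_ker_of_gen (hF : RealFree Z Ω) (hgen : M ≤ Subgroup.closure {z | z ∈ Z ∧ z ∈ M}) {g x : G}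
    (hg : g ∈ M) (hx : x ∈ ker Ω M) : Commute g x :=
  Subgroup.mem_centralizer_singleton_iff.1
    ((Subgroup.closure_le (Subgroup.centralizer ({x} : Set G))).2
      (fun _ hz => Subgroup.mem_centralizer_singleton_iff.2 (T.commute_ker hF hz.1 hz.2 hx).eq) (hgen hg))

/-- The elements of two-power order fixing a centre form a group regular on the others. -/
theorem exists_twoPart (hF : RealFree Z Ω) (hgen : M ≤ Subgroup.closure {z | z ∈ Z ∧ z ∈ M}) {d : Ω}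
    (hd : d ∈ cen Ω M) : ∃ P : Subgroup G,
      (∀ g, g ∈ P ↔ g ∈ M ∧ g • d = d ∧ ∃ k : ℕ, g ^ 2 ^ k = 1) ∧ IsPGroup 2 P ∧
      Nat.card P = {x : Ω | x ∈ cen Ω M ∧ x ≠ d}.ncard ∧
      (∀ x ∈ cen Ω M, x ≠ d → ∀ y ∈ cen Ω M, y ≠ d → ∃ g ∈ P, g • x = y) ∧
      (∀ g ∈ P, ∀ x ∈ cen Ω M, x ≠ d → g • x = x → g = 1) ∧
      ∀ g ∈ P, ∀ z ∈ zAt Z d, z ∈ M → Commute z g := by
  classical
  have : Fact (Nat.Prime 2) := ⟨Nat.prime_two⟩
  have := T.hyp.finite_points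
  obtain ⟨w, hwM, hw⟩ := hd
  have hdM : d ∈ cen Ω M := ⟨w, hwM, hw⟩
  obtain ⟨Q, hQ⟩ := T.split d hdM
  obtain ⟨k, hQk, hck⟩ := T.others_card hQ
  have hQM : ∀ {g : G}, g ∈ Q → g ∈ M ∧ g • d = d := fun hg =>
    ⟨(Subgroup.mem_inf.1 (hQ.le hg)).1, mem_stabilizer_iff.1 (Subgroup.mem_inf.1 (hQ.le hg)).2⟩
  have key : ∀ {z : G}, z ∈ M → z ∈ invAt G d → ∃ P : Subgroup G, IsPGroup 2 P ∧ (∀ t ∈ P, Commute t z) ∧
      Nat.card P = 2 ^ k ∧ ∀ g, g ∈ P ↔ g ∈ M ∧ g • d = d ∧ ∃ k : ℕ, g ^ 2 ^ k = 1 := by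
    intro z hzM hz
    obtain ⟨P, hP, hPle, -, hPz, hPcard⟩ := T.exists_regular hzM hz
    have hPk : Nat.card P = 2 ^ k := hPcard.trans hck
    refine ⟨P, hP, hPz, hPk, fun g => ⟨fun hg => ?_, fun ⟨hgM, hgd, j, hj⟩ => ?_⟩⟩
    · obtain ⟨h1, h2⟩ := Subgroup.mem_inf.1 (hPle hg)
      obtain ⟨j, hj⟩ := hP ⟨g, hg⟩
      exact ⟨h1, mem_stabilizer_iff.1 h2, j, congrArg Subtype.val hj⟩
    have hPQ : P ≤ Q := fun t ht => by
      obtain ⟨h1, h2⟩ := Subgroup.mem_inf.1 (hPle ht)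
      obtain ⟨i, hi⟩ := hP ⟨t, ht⟩
      exact T.mem_of_two_pow hQ h1 (mem_stabilizer_iff.1 h2) (congrArg Subtype.val hi)
    have hinj : Function.Injective (fun p : ker Ω M × P => (⟨p.1.1 * p.2.1,
        mul_mem (hQ.ker_le p.1.2) (hPQ p.2.2)⟩ : Q)) := by
      rintro ⟨⟨x, hx⟩, ⟨p, hp⟩⟩ ⟨⟨x', hx'⟩, ⟨p', hp'⟩⟩ h
      have h' : x * p = x' * p' := congrArg Subtype.val h
      have h1 : x'⁻¹ * x = p' * p⁻¹ := by
        calc x'⁻¹ * x = x'⁻¹ * (x * p) * p⁻¹ := by group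
          _ = p' * p⁻¹ := by rw [h']; group
      have h2 : p' * p⁻¹ = 1 := by
        have hmem : p' * p⁻¹ ∈ P := mul_mem hp' (InvMemClass.inv_mem hp)
        obtain ⟨i, hi⟩ := hP ⟨_, hmem⟩
        refine Bender.eq_one_of_two_pow_of_odd (s := i) ?_ (congrArg Subtype.val hi)
        exact T.odd_ker.of_dvd_nat (Subgroup.orderOf_dvd_natCard _ (h1 ▸ mul_mem (InvMemClass.inv_mem hx') hx))
      have hpp : p = p' := (mul_inv_eq_one.1 h2).symm
      subst hpp
      have hxx : x = x' := mul_right_cancel h'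
      subst hxx
      rfl
    have hsurj := ((Nat.bijective_iff_injective_and_card _).2 ⟨hinj, by
      rw [Nat.card_prod, hQk, hPk]⟩).surjective
    obtain ⟨⟨⟨x, hx⟩, ⟨p, hp⟩⟩, hxp⟩ := hsurj ⟨g, T.mem_of_two_pow hQ hgM hgd hj⟩
    have hgxp : x * p = g := congrArg Subtype.val hxp
    have hc : Commute x p := (T.commute_ker_of_gen hF hgen (hQM (hPQ hp)).1 hx).symm
    have hp0 : x = 1 := by
      obtain ⟨i, hi⟩ := hP ⟨p, hp⟩
      have hpi : p ^ 2 ^ i = 1 := congrArg Subtype.val hi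
      refine Bender.eq_one_of_two_pow_of_odd (s := j + i)
        (T.odd_ker.of_dvd_nat (Subgroup.orderOf_dvd_natCard _ hx)) ?_
      have h1 : g ^ 2 ^ (j + i) = 1 := by rw [pow_add, pow_mul, hj, one_pow]
      rwa [← hgxp, hc.mul_pow, show p ^ 2 ^ (j + i) = 1 by
        rw [add_comm j i, pow_add, pow_mul, hpi, one_pow], mul_one] at h1
    rw [← hgxp, hp0, one_mul]
    exact hp
  obtain ⟨P, hP, -, hPk, hmem⟩ := key hwM hw
  have hfree : ∀ g ∈ P, ∀ x ∈ cen Ω M, x ≠ d → g • x = x → g = 1 := fun g hg x hx hxd hgx => by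
    obtain ⟨hgM, hgd, i, hi⟩ := (hmem g).1 hg
    exact Bender.eq_one_of_two_pow_of_odd ((hQ.odd_pair x hx hxd).of_dvd_nat
      (Subgroup.orderOf_dvd_natCard _ (Subgroup.mem_inf.2 ⟨hgM, mem_pair.2 ⟨hgd, hgx⟩⟩))) hi
  refine ⟨P, hmem, hP, hPk.trans hck.symm, fun x hx hxd y hy hyd => ?_, hfree, fun g hg z hz hzM => ?_⟩
  · obtain ⟨s, hs⟩ : ∃ s, s = {p : Ω | p ∈ cen Ω M ∧ p ≠ d} := ⟨_, rfl⟩
    have hinj : Function.Injective (fun g : P => (⟨(g : G) • x, hs ▸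
        ⟨mem_cen_smul ((hmem g).1 g.2).1 hx,
          fun h => hxd (smul_left_cancel (g : G) (h.trans ((hmem g).1 g.2).2.1.symm))⟩⟩ : s)) := by
      intro g g' h
      have h' : (g : G) • x = (g' : G) • x := congrArg Subtype.val h
      exact Subtype.ext (inv_mul_eq_one.1 (hfree _ (mul_mem (InvMemClass.inv_mem g.2) g'.2) x hx hxd
        (by rw [mul_smul, ← h', inv_smul_smul])))
    obtain ⟨g, hg⟩ := ((Nat.bijective_iff_injective_and_card _).2 ⟨hinj, by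
      rw [Nat.card_coe_set_eq, hs, hPk, hck]⟩).surjective ⟨y, hs ▸ ⟨hy, hyd⟩⟩
    exact ⟨g, g.2, congrArg Subtype.val hg⟩
  · obtain ⟨P', -, hP'z, -, hmem'⟩ := key hzM (T.mem_invAt hz)
    exact (hP'z g ((hmem' g).2 ((hmem g).1 hg))).symm

end SubData

end Cfsg.Agent.Invol.Aschbacher
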