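import Cfsg.Agent.Lib.Invol.Aschbacher.LStruct
import Cfsg.Agent.Lib.Invol.Aschbacher.Last.Basics
import Cfsg.Agent.Lib.Invol.Aschbacher.Last.TwoPart
import Cfsg.Agent.Lib.Transfer.RankOne.QShape
import Cfsg.Agent.Lib.Transfer.RankOne.SquareCase
import Cfsg.Agent.Lib.Transfer.RankOne.VBot
import Cfsg.Agent.Lib.Transfer.RankOne.CubeFix

/-!
# The group of an outside involution at two of its fixed points

For an involution `u` outside `Z` fixing `a` and `b` the group `lgen Z u` is a simple rank one group on the fixed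
points of `u`.  `Q` is its two part at `a`, `J` the torus of the two points; there are three cases for the order of
`Q`.
-/

set_option autoImplicit false
set_option linter.unusedSectionVars false

namespace Cfsg.Agent.Invol.Aschbacher.Last

open MulAction Subgroup
open Cfsg.Agent.Invol.Bender (cenAct pairStab mem_pair conj_smul_smul TwoRank)

universe u

variable {G : Type u} [Group G] [Finite G] {Ω : Type u} [MulAction G Ω] {Z : Set G}

/-- The two part and the torus of the group of `u` at two fixed points. -/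
structure LineData (Z : Set G) (u : G) (a b : Ω) (Q J : Subgroup G) : Prop where
  mem_q : ∀ g, g ∈ Q ↔ g ∈ lgen Z u ∧ g • a = a ∧ ∃ k : ℕ, g ^ 2 ^ k = 1
  el_le : el Z a ≤ Q
  q_pGroup : IsPGroup 2 Q
  q_card : Nat.card Q = (others u a).ncard
  q_conj : ∀ g : G, Commute g u → g • a = a → ∀ x ∈ Q, g * x * g⁻¹ ∈ Q
  q_trans : ∀ c : Ω, u • c = c → c ≠ a → ∃ q ∈ Q, q • b = c
  q_semireg : ∀ q ∈ Q, ∀ c : Ω, u • c = c → c ≠ a → q • c = c → q = 1
  central : ∀ e ∈ el Z a, ∀ x ∈ Q, Commute e x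
  invol_mem : ∀ x ∈ Q, x * x = 1 → x ∈ el Z a
  sq_mem : ∀ x ∈ Q, x * x ∈ el Z a
  comm_mem : ∀ x ∈ Q, ∀ y ∈ Q, x⁻¹ * y⁻¹ * x * y ∈ el Z a
  mem_j : ∀ k, k ∈ J ↔ k ∈ lgen Z u ∧ k • a = a ∧ k • b = b ∧ ∀ v ∈ zSwap Z a b, v * k * v = k⁻¹
  j_cyclic : IsCyclic J
  j_card : Nat.card J + 1 = Nat.card (el Z a)
  four_le : 4 ≤ Nat.card (el Z a)
  j_trans : ∀ e ∈ zAt Z a, ∀ e' ∈ zAt Z a, ∃ k ∈ J, k * e * k⁻¹ = e'
  j_fpf : ∀ k ∈ J, k ≠ 1 → ∀ x ∈ Q, Commute k x → x = 1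
  j_coset_fpf : ∀ k ∈ J, k ≠ 1 → ∀ x ∈ Q, x⁻¹ * (k * x * k⁻¹) ∈ el Z a → x ∈ el Z a
  j_fix : ∀ k ∈ J, k ≠ 1 → ∀ x : Ω, k • x = x → x = a ∨ x = b

/-- The case of a two part of order `q`. -/
def LineSmall (Z : Set G) (u : G) (a b : Ω) (Q J : Subgroup G) : Prop :=
  Nat.card Q = Nat.card (el Z a) ∧ ∀ g ∈ lgen Z u, g • a = a → g • b = b → g ∈ J

/-- The case of a two part of order `q ^ 2`. -/
def LineSquare (Z : Set G) (u : G) (a b : Ω) (Q J : Subgroup G) : Prop :=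
  Nat.card Q = Nat.card (el Z a) ^ 2 ∧ (∀ g ∈ lgen Z u, g • a = a → g • b = b → g ∈ J) ∧
    (∃ x ∈ Q, ∃ y ∈ Q, x * y ≠ y * x) ∧
    ∀ x ∈ Q, x ∉ el Z a → ∀ y ∈ Q, y ∉ el Z a → ∃ k ∈ J, ∃ e ∈ el Z a, y = k * x * k⁻¹ * e

/-- The case of a two part of order `q ^ 3`. -/
def LineCube (Z : Set G) (u : G) (a b : Ω) (Q J : Subgroup G) : Prop :=
  Nat.card Q = Nat.card (el Z a) ^ 3 ∧ (∃ x ∈ Q, ∃ y ∈ Q, x * y ≠ y * x) ∧
    ∃ w : G, (orderOf w).Prime ∧ Odd (orderOf w) ∧ w ∈ lgen Z u ∧ w ∈ cPair Z a b ∧ (∀ k ∈ J, Commute k w) ∧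
      (∀ x ∈ Q, Commute w x → x ∈ el Z a) ∧
      ∀ x : Ω, u • x = x → w • x = x → x = a ∨ ∃ e ∈ el Z a, x = e • b

namespace Setting

variable (X : Setting G Ω Z)
include X

theorem twoRank {u : G} (hu : orderOf u = 2) (huZ : u ∉ Z) {a : Ω} (ha : u • a = a) : TwoRank (lgen Z u) := by
  obtain ⟨x, hx, y, hy, hxy, hc⟩ := X.four a
  exact ⟨x, mem_lgen hx.1 (X.cent u hu huZ a ha x hx), y, mem_lgen hy.1 (X.cent u hu huZ a ha y hy),
    X.hyp.invol x hx.1, X.hyp.invol y hy.1, hxy, hc⟩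

/-- The facts on the group of an outside involution. -/
theorem exists_lineData {u : G} (hu : orderOf u = 2) (huZ : u ∉ Z) {a b : Ω} (hab : a ≠ b) (ha : u • a = a)
    (hb : u • b = b) : ∃ Q J : Subgroup G, LineData Z u a b Q J ∧
      (LineSmall Z u a b Q J ∨ LineSquare Z u a b Q J ∨ LineCube Z u a b Q J) := by
  classical
  haveI := X.faithful
  haveI : Fact (Nat.Prime 2) := ⟨Nat.prime_two⟩
  have S := X.hyp
  have h2 := X.twoRank hu huZ ha
  have F := S.frame_centralizer X.closed hu huZ h2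
  have hcen := S.cen_lgen hu F.sub.zonly
  haveI := S.faithful_lgen X.closed hu huZ h2
  obtain ⟨a', v, Q', ha', hva, hv2, hsimp, R⟩ := S.exists_rankOne_pair X.closed hu huZ h2 ha hb hab.symm
  haveI := hsimp
  have hb' : ((v • a' : cenAct Ω (lgen Z u)) : Ω) = b := by
    show (v : G) • (a' : Ω) = b
    rw [ha', hva]
  have hfixa : ∀ g : lgen Z u, g • a' = a' ↔ (g : G) • a = a := fun g => by
    rw [Subtype.ext_iff]
    show (g : G) • (a' : Ω) = a' ↔ _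
    rw [ha']
  have hfixb : ∀ g : lgen Z u, g • v • a' = v • a' ↔ (g : G) • b = b := fun g => by
    rw [Subtype.ext_iff]
    show (g : G) • ((v • a' : cenAct Ω (lgen Z u)) : Ω) = ((v • a' : cenAct Ω (lgen Z u)) : Ω) ↔ _
    rw [hb']
  have hmemD : ∀ g : lgen Z u, g ∈ Transfer.RankOne.dGrp a' v ↔ (g : G) • a = a ∧ (g : G) • b = b := fun g => by
    rw [Subgroup.mem_inf, mem_stabilizer_iff, mem_stabilizer_iff, hfixa, hfixb]
  -- the members at the point are the involutions of `Q'`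
  have hzG : ∀ g : lgen Z u, g ∈ Transfer.RankOne.zGrp (lgen Z u) a' ↔ (g : G) ∈ el Z a := fun g => by
    rw [Transfer.RankOne.mem_zGrp R, X.mem_el, mem_stabilizer_iff, hfixa]
    refine ⟨fun h => (eq_or_ne (g : G) 1).imp id fun hne => ⟨F.sub.zonly g g.2 (orderOf_two_iff.2
      ⟨congrArg Subtype.val h.2, hne⟩), h.1⟩, ?_⟩
    rintro (h | h)
    · exact ⟨by rw [h, one_smul], Subtype.ext (by rw [Subgroup.coe_mul, h, one_mul]; rfl)⟩
    · exact ⟨h.2, Subtype.ext (mul_self_of_orderOf_two (S.invol _ h.1))⟩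
  have hzL : ∀ {e : G}, e ∈ el Z a → e ∈ lgen Z u := fun {e} he =>
    (X.mem_el.1 he).elim (fun h => h ▸ one_mem _) fun h => X.mem_lgen_of_fix hu huZ ha h
  have hzcard : Nat.card (el Z a) = Nat.card (Transfer.RankOne.zGrp (lgen Z u) a') := Nat.card_congr
    { toFun := fun e => ⟨⟨e, hzL e.2⟩, (hzG _).2 e.2⟩
      invFun := fun g => ⟨(g : lgen Z u), (hzG _).1 g.2⟩
      left_inv := fun _ => rfl
      right_inv := fun _ => rfl }
  obtain ⟨hQ2, hcases⟩ := Transfer.RankOne.struct_all R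
  obtain ⟨Q, hQ⟩ : ∃ Q, Q = Q'.map (lgen Z u).subtype := ⟨_, rfl⟩
  obtain ⟨J, hJ⟩ : ∃ J, J = (Transfer.RankOne.kGrp a' v).map (lgen Z u).subtype := ⟨_, rfl⟩
  have hmQ : ∀ g : lgen Z u, (g : G) ∈ Q ↔ g ∈ Q' := fun g => by
    rw [hQ]; exact Subgroup.mem_map_iff_mem (lgen Z u).subtype_injective
  have hmJ : ∀ g : lgen Z u, (g : G) ∈ J ↔ g ∈ Transfer.RankOne.kGrp a' v := fun g => by
    rw [hJ]; exact Subgroup.mem_map_iff_mem (lgen Z u).subtype_injective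
  have hQle : Q ≤ lgen Z u := hQ ▸ Subgroup.map_subtype_le _
  have hJle : J ≤ lgen Z u := hJ ▸ Subgroup.map_subtype_le _
  have hQcard : Nat.card Q = Nat.card Q' := by rw [hQ, Subgroup.card_map_of_injective (lgen Z u).subtype_injective]
  -- the two part at the point
  obtain ⟨P, hP, hPp, hPcard, hPtr, hPfree, -⟩ := F.sub.exists_twoPart X.realFree
    (fun g hg => (Subgroup.closure_mono fun z hz => (⟨hz.1, mem_lgen hz.1 hz.2⟩ : z ∈ Z ∧ z ∈ lgen Z u)) hg)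
    (d := a) (by rw [hcen]; exact ha)
  have hPo : Nat.card P = (others u a).ncard := by rw [hPcard, hcen]; rfl
  have hQP : Q = P := by
    refine Subgroup.eq_of_le_of_card_ge (fun g hg => ?_) ?_
    · obtain ⟨g, rfl⟩ : ∃ g' : lgen Z u, (g' : G) = g := ⟨⟨g, hQle hg⟩, rfl⟩
      have hgQ := (hmQ g).1 hg
      obtain ⟨k, hk⟩ := hQ2 ⟨g, hgQ⟩
      exact (hP _).2 ⟨g.2, (hfixa g).1 (Lie.RankOne.q_fix R.setup hgQ), k,
        congrArg (fun x : Q' => ((x : lgen Z u) : G)) hk⟩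
    · rw [hQcard, hPo, ← Nat.card_coe_set_eq]
      refine Nat.card_le_card_of_surjective (fun q => ⟨((q : lgen Z u) • v • a' : cenAct Ω (lgen Z u)), ?_⟩) ?_
      · refine ⟨hcen.le ((q : lgen Z u) • v • a').2, fun e => Lie.RankOne.b_ne R.setup
          (smul_left_cancel _ ((Subtype.ext (e.trans ha'.symm)).trans (Lie.RankOne.q_fix R.setup q.2).symm))⟩
      · rintro ⟨x, hx, hxa⟩
        obtain ⟨q, hq, hqx⟩ := Lie.RankOne.exists_q R.setup (c := ⟨x, hcen.ge hx⟩)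
          (fun e => hxa ((congrArg Subtype.val e).trans ha'))
        exact ⟨⟨q, hq⟩, Subtype.ext (congrArg Subtype.val hqx :)⟩
  -- every swapper inverts the torus
  have hinv : ∀ k ∈ Transfer.RankOne.kGrp a' v, ∀ v' ∈ zSwap Z a b, v' * (k : G) * v' = (k : G)⁻¹ := by
    intro k hk v' hv'
    obtain ⟨w, rfl⟩ : ∃ w : lgen Z u, (w : G) = v' := ⟨⟨v', X.swap_mem_lgen hu hab ha hb hv'⟩, rfl⟩
    have hw2 : w * w = 1 := Subtype.ext (mul_self_of_orderOf_two (S.invol _ hv'.1))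
    have hd : v * w ∈ Transfer.RankOne.dGrp a' v := by
      rw [hmemD, Subgroup.coe_mul, mul_smul, mul_smul, hv'.2, ← hva, Bender.swap_symm hv2 rfl,
        Bender.swap_symm (S.invol _ hv'.1) (hv'.2.trans hva.symm)]
      exact ⟨rfl, rfl⟩
    obtain ⟨j, hj, x, hx, e⟩ := Transfer.RankOne.exists_decomp R hd
    have hw : w = v * j * x := by
      rw [mul_assoc, ← e, ← mul_assoc, R.setup.mul_self, one_mul]
    have h3 : x * x ∈ Transfer.RankOne.kGrp a' v := by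
      have hc : v * x = x * v := ((Transfer.RankOne.mem_vGrp).1 hx).2.symm
      have h4 : j⁻¹ * (x * j * x⁻¹) * (x * x) = 1 := by
        rw [← Transfer.RankOne.t_k R hj]
        calc v * j * v * (x * j * x⁻¹) * (x * x) = v * j * (v * x) * j * x := by group
          _ = v * j * (x * v) * j * x := by rw [hc]
          _ = (v * j * x) * (v * j * x) := by group
          _ = 1 := by rw [← hw, hw2]
      rw [mul_eq_one_iff_inv_eq] at h4
      rw [← h4]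
      exact inv_mem (mul_mem (inv_mem hj) (Transfer.RankOne.conj_kGrp R (Transfer.RankOne.vGrp_le_dGrp hx) hj))
    have hx1 : x = 1 := Lie.RankOne.eq_one_of_sq R.setup.odd_card (Transfer.RankOne.vGrp_le_dGrp hx)
      (Transfer.RankOne.k_inter_v R h3 (mul_mem hx hx))
    have hjk : j * k = k * j := Transfer.RankOne.kGrp_comm R hj hk
    have h5 : w * k * w = k⁻¹ := by
      have hwi : w = j⁻¹ * v := by
        rw [← inv_eq_of_mul_eq_one_right hw2, hw, hx1, mul_one, mul_inv_rev,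
          inv_eq_of_mul_eq_one_right R.setup.mul_self]
      nth_rewrite 2 [hwi]
      rw [hw, hx1, mul_one]
      calc v * j * k * (j⁻¹ * v) = v * (j * k) * j⁻¹ * v := by group
        _ = v * (k * j) * j⁻¹ * v := by rw [hjk]
        _ = v * k * v := by group
        _ = k⁻¹ := Transfer.RankOne.t_k R hk
    exact congrArg Subtype.val h5
  have hmem_j : ∀ k, k ∈ J ↔ k ∈ lgen Z u ∧ k • a = a ∧ k • b = b ∧ ∀ v ∈ zSwap Z a b, v * k * v = k⁻¹ := by
    intro k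
    refine ⟨fun hk => ?_, fun ⟨hkL, hka, hkb, hkv⟩ => ?_⟩
    · obtain ⟨k, rfl⟩ : ∃ k' : lgen Z u, (k' : G) = k := ⟨⟨k, hJle hk⟩, rfl⟩
      have hkK := (hmJ k).1 hk
      obtain ⟨h1, h3⟩ := (hmemD k).1 (Transfer.RankOne.kGrp_le_dGrp R hkK)
      exact ⟨k.2, h1, h3, hinv k hkK⟩
    · refine (hmJ ⟨k, hkL⟩).2 ((Transfer.RankOne.mem_kGrp R).2 ⟨(hmemD _).2 ⟨hka, hkb⟩, ?_⟩)
      rw [inv_eq_of_mul_eq_one_right R.setup.mul_self]
      exact Subtype.ext (hkv v ⟨F.sub.zonly v v.2 hv2, hva⟩)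
  have hfpf : ∀ k ∈ J, k ≠ 1 → ∀ x ∈ Q, Commute k x → x = 1 := fun k hk hne x hx hc => by
    obtain ⟨k, rfl⟩ : ∃ k' : lgen Z u, (k' : G) = k := ⟨⟨k, hJle hk⟩, rfl⟩
    obtain ⟨x, rfl⟩ : ∃ x' : lgen Z u, (x' : G) = x := ⟨⟨x, hQle hx⟩, rfl⟩
    exact congrArg Subtype.val (Transfer.RankOne.kGrp_fpf R ((hmJ k).1 hk) (fun e => hne (by rw [e]; rfl))
      ((hmQ x).1 hx) (Subtype.ext hc.eq))
  have hel : el Z a ≤ Q := fun e he => (hmQ ⟨e, hzL he⟩).2 (Transfer.RankOne.zGrp_le R ((hzG _).2 he))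
  refine ⟨Q, J, ⟨fun g => by rw [hQP]; exact hP g, hel, hQP ▸ hPp, hQP ▸ hPo, ?_, ?_, ?_, ?_, ?_, ?_, ?_,
    hmem_j, ?_, ?_, ?_, ?_, hfpf, ?_, ?_⟩, ?_⟩
  · -- conjugation
    intro g hgu hga x hx
    rw [hQP, hP] at hx ⊢
    obtain ⟨hxL, hxa, k, hk⟩ := hx
    refine ⟨?_, ?_, k, by rw [conj_pow, hk, mul_one, mul_inv_cancel]⟩
    · have hle : lgen Z u ≤ (lgen Z u).comap (MulAut.conj g).toMonoidHom :=
        (Subgroup.closure_le _).2 fun z hz => mem_lgen (S.conj_mem g z hz.1)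
          (show Commute (g * z * g⁻¹) u from (hgu.mul_left hz.2).mul_left hgu.inv_left)
      exact hle hxL
    · rw [mul_smul, mul_smul, inv_smul_eq_iff.2 hga.symm, hxa, hga]
  · intro c hc hca
    rw [hQP]
    exact hPtr b (hcen.ge hb) hab.symm c (hcen.ge hc) hca
  · intro q hq c hc hca hqc
    exact hPfree q (hQP ▸ hq) c (hcen.ge hc) hca hqc
  · intro e he x hx
    exact (congrArg Subtype.val (Transfer.RankOne.zGrp_central R ((hzG ⟨e, hzL he⟩).2 he)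
      ((hmQ ⟨x, hQle hx⟩).1 hx)) :)
  · intro x hx h
    exact (hzG ⟨x, hQle hx⟩).1 ((Transfer.RankOne.mem_zGrp' R).2 ⟨(hmQ _).1 hx, Subtype.ext h⟩)
  · intro x hx
    obtain ⟨x, rfl⟩ : ∃ x' : lgen Z u, (x' : G) = x := ⟨⟨x, hQle hx⟩, rfl⟩
    rcases hcases with h | ⟨hna, -⟩
    · have hxz : x ∈ Transfer.RankOne.zGrp (lgen Z u) a' := by
        rw [Subgroup.eq_of_le_of_card_ge (Transfer.RankOne.zGrp_le R) h.le]; exact (hmQ x).1 hx
      exact mul_mem ((hzG x).1 hxz) ((hzG x).1 hxz)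
    · exact (hzG (x * x)).1 ((Transfer.RankOne.q_shape R hQ2 hna).2 x ((hmQ x).1 hx))
  · intro x hx y hy
    obtain ⟨x, rfl⟩ : ∃ x' : lgen Z u, (x' : G) = x := ⟨⟨x, hQle hx⟩, rfl⟩
    obtain ⟨y, rfl⟩ : ∃ y' : lgen Z u, (y' : G) = y := ⟨⟨y, hQle hy⟩, rfl⟩
    rcases hcases with h | ⟨hna, -⟩
    · have hz : ∀ z : lgen Z u, (z : G) ∈ Q → (z : G) ∈ el Z a := fun z hz => (hzG z).1 (by
        rw [Subgroup.eq_of_le_of_card_ge (Transfer.RankOne.zGrp_le R) h.le]; exact (hmQ z).1 hz)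
      exact mul_mem (mul_mem (mul_mem (inv_mem (hz x hx)) (inv_mem (hz y hy))) (hz x hx)) (hz y hy)
    · exact (hzG (x⁻¹ * y⁻¹ * x * y)).1
        ((Transfer.RankOne.q_shape R hQ2 hna).1 x ((hmQ x).1 hx) y ((hmQ y).1 hy))
  · obtain ⟨k₀, -, hk₀⟩ := Transfer.RankOne.exists_k_gen R
    rw [hJ, hk₀, MonoidHom.map_zpowers]
    exact Subgroup.isCyclic_zpowers _
  · rw [hzcard, hJ, Subgroup.card_map_of_injective (lgen Z u).subtype_injective]
    exact Transfer.RankOne.card_kGrp R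
  · rw [hzcard]; exact Transfer.RankOne.four_le_q R
  · intro e he e' he'
    have key : ∀ {z : G} (hz : z ∈ zAt Z a), (⟨z, X.mem_lgen_of_fix hu huZ ha hz⟩ : lgen Z u) ∈
        Cfsg.involutionsIn (stabilizer (lgen Z u) a' : Set (lgen Z u)) := fun {z} hz => by
      obtain ⟨h1, h0⟩ := orderOf_two_iff.1 (S.invol _ hz.1)
      exact ⟨mem_stabilizer_iff.2 ((hfixa _).2 hz.2), fun h => h0 (congrArg Subtype.val h), Subtype.ext h1⟩
    obtain ⟨k, hk, hke⟩ := Transfer.RankOne.exists_k_conj R (key he) (key he')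
    exact ⟨k, (hmJ k).2 hk, (congrArg Subtype.val hke :)⟩
  · intro k hk hne x hx h
    obtain ⟨k, rfl⟩ : ∃ k' : lgen Z u, (k' : G) = k := ⟨⟨k, hJle hk⟩, rfl⟩
    obtain ⟨x, rfl⟩ : ∃ x' : lgen Z u, (x' : G) = x := ⟨⟨x, hQle hx⟩, rfl⟩
    exact (hzG x).1 (Transfer.RankOne.k_coset_fpf R ((hmJ k).1 hk) (fun e => hne (by rw [e]; rfl)) ((hmQ x).1 hx)
      ((hzG _).2 h))
  · intro k hk hne x hkx
    obtain ⟨hkL, hka, hkb, hkv⟩ := (hmem_j k).1 hk
    have hline : ∀ c : Ω, u • c = c → k • c = c → c = a ∨ c = b := by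
      intro c hc hkc
      by_contra h
      push Not at h
      obtain ⟨k', rfl⟩ : ∃ k' : lgen Z u, (k' : G) = k := ⟨⟨k, hkL⟩, rfl⟩
      refine hne (congrArg Subtype.val (Transfer.RankOne.k_fix_third R ((hmJ k').1 hk) (c := ⟨c, hcen.ge hc⟩)
        (fun e => h.1 ((congrArg Subtype.val e).trans ha'))
        (fun e => h.2 ((congrArg Subtype.val e).trans hb')) (Subtype.ext hkc)) :)
    refine hline x (X.fix_of_free hu huZ (commute_of_mem_lgen hkL) (fun c hc hkc z hz hkz => ?_) hkx) hkx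
    have hzQ : ∀ t ∈ zAt Z a, ¬ Commute k t := fun t ht h => by
      have := hfpf k hk hne t (hel (X.mem_el.2 (Or.inr ht))) h
      obtain ⟨-, h0⟩ := orderOf_two_iff.1 (S.invol _ ht.1)
      exact h0 this
    rcases hline c hc hkc with rfl | rfl
    · exact hzQ z hz hkz
    · have hvZ : (v : G) ∈ Z := F.sub.zonly v v.2 hv2
      refine hzQ ((v : G) * z * (v : G)⁻¹) (by
        have h0 := S.zAt_conj (g := (v : G)) hz
        rwa [Bender.swap_symm hv2 hva] at h0) ?_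
      have h1 := hkz.map (MulAut.conj (v : G)).toMonoidHom
      simp only [MulEquiv.coe_toMonoidHom, MulAut.conj_apply] at h1
      rw [inv_of_orderOf_two hv2] at h1 ⊢
      rw [hkv v ⟨hvZ, hva⟩] at h1
      exact inv_inv k ▸ h1.inv_left
  -- the three cases
  have hstab : Transfer.RankOne.vGrp a' v = ⊥ → ∀ g ∈ lgen Z u, g • a = a → g • b = b → g ∈ J := by
    intro hV g hg hga hgb
    obtain ⟨k, hk, y, hy, e⟩ := Transfer.RankOne.exists_decomp R (d := ⟨g, hg⟩) ((hmemD _).2 ⟨hga, hgb⟩)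
    rw [hV, Subgroup.mem_bot] at hy
    rw [hy, mul_one] at e
    exact (hmJ ⟨g, hg⟩).2 (e ▸ hk)
  have hna' : (∃ x ∈ Q', ∃ y ∈ Q', x * y ≠ y * x) → ∃ x ∈ Q, ∃ y ∈ Q, x * y ≠ y * x := by
    rintro ⟨x, hx, y, hy, hne⟩
    exact ⟨x, (hmQ x).2 hx, y, (hmQ y).2 hy, fun e => hne (Subtype.ext e)⟩
  rcases hcases with h | ⟨hna, h | ⟨h, hW⟩⟩
  · exact Or.inl ⟨by rw [hQcard, hzcard, h], hstab (Transfer.RankOne.v_bot_of_small R h)⟩
  · refine Or.inr (Or.inl ⟨by rw [hQcard, hzcard, h], hstab (Transfer.RankOne.v_bot_square R hQ2 hna h), hna' hna,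
      fun x hx hxe y hy hye => ?_⟩)
    obtain ⟨k, hk, e, he, h1⟩ := Transfer.RankOne.exists_k_coset R h (x := ⟨x, hQle hx⟩) (y := ⟨y, hQle hy⟩)
      ((hmQ _).1 hx) (fun h' => hxe ((hzG _).1 h')) ((hmQ _).1 hy) (fun h' => hye ((hzG _).1 h'))
    exact ⟨k, (hmJ k).2 hk, e, (hzG e).1 he, (congrArg Subtype.val h1 :)⟩
  · refine Or.inr (Or.inr ⟨by rw [hQcard, hzcard, h], hna' hna, ?_⟩)
    obtain ⟨n, K, i1, i2, -, -, -, ⟨E⟩⟩ := Transfer.RankOne.exists_env R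
    obtain ⟨p, hp, hpd⟩ := Nat.exists_prime_and_dvd (n := Nat.card (Transfer.RankOne.wGrp a' v))
      (fun h1 => hW (Subgroup.card_eq_one.1 h1))
    haveI := Fact.mk hp
    obtain ⟨⟨w, hw⟩, hord⟩ := exists_prime_orderOf_dvd_card' (G := Transfer.RankOne.wGrp a' v) p hpd
    rw [Subgroup.orderOf_mk] at hord
    have hw1 : w ≠ 1 := fun e => hp.one_lt.ne' (by rw [← hord, e, orderOf_one])
    have hwV := Transfer.RankOne.wGrp_le_vGrp hw
    have hrz := Transfer.RankOne.r_mem_cube E hQ2 hna h hw hw1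
    obtain ⟨hwa, hwb⟩ := (hmemD w).1 (Transfer.RankOne.vGrp_le_dGrp hwV)
    refine ⟨w, by rw [Subgroup.orderOf_coe, hord]; exact hp, ?_, w.2, mem_cPair.2 ⟨hwa, hwb, fun z hz => ?_⟩,
      fun k hk => ?_, fun x hx hc => ?_, fun x hx hwx => ?_⟩
    · rw [Subgroup.orderOf_coe]
      exact (Transfer.RankOne.odd_vGrp R).of_dvd_nat (Subgroup.orderOf_dvd_natCard _ hwV)
    · exact (congrArg Subtype.val (Transfer.RankOne.w_comm_z E hQ2 hna hw
        ((hzG ⟨z, X.mem_lgen_of_fix hu huZ ha hz⟩).2 (X.mem_el.2 (Or.inr hz)))) :)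
    · exact (congrArg Subtype.val ((Transfer.RankOne.mem_wGrp.1 hw).2 ⟨k, hJle hk⟩ ((hmJ _).1 hk)) :)
    · exact (hzG ⟨x, hQle hx⟩).1 (Transfer.RankOne.cq_w E hQ2 hna h hw hw1 ((hmQ _).1 hx) (Subtype.ext hc.eq))
    · rcases (Transfer.RankOne.fix_w E hQ2 hna h hrz hw hw1 (c := ⟨x, hcen.ge hx⟩)).1 (Subtype.ext hwx) with
        e | ⟨z, hz, e⟩
      · exact Or.inl ((congrArg Subtype.val e).trans ha')
      · exact Or.inr ⟨z, (hzG z).1 hz, (congrArg Subtype.val e).trans (by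
          show (z : G) • ((v • a' : cenAct Ω (lgen Z u)) : Ω) = _
          rw [hb'])⟩

end Setting

end Cfsg.Agent.Invol.Aschbacher.Last
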