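import Cfsg.Agent.Lib.Invol.Aschbacher.Reduce
import Cfsg.Agent.Lib.Invol.Aschbacher.SqrtCase
import Cfsg.Agent.Lib.Invol.Aschbacher.Last.Facts

/-!
# From a minimal counterexample to the last configuration

A minimal counterexample gives a `Setting`, and there all involutions outside `Z` have `q`, `q ^ 2` or `q ^ 3`
fixed points besides a given one.
-/

set_option autoImplicit false
set_option linter.unusedSectionVars false

namespace Cfsg.Agent.Invol.Aschbacher.Last

open MulAction Subgroup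

universe u

variable {G : Type u} [Group G] [Finite G] {Ω : Type u} [MulAction G Ω] {Z : Set G}

/-- Every involution outside `Z` has `q ^ k` fixed points besides a given one. -/
def OthersPow (Z : Set G) (Ω : Type u) [MulAction G Ω] (k : ℕ) : Prop :=
  ∀ u : G, orderOf u = 2 → u ∉ Z → ∀ a : Ω, u • a = a → (others u a).ncard = Nat.card (el Z a) ^ k

/-- A minimal counterexample gives a `Setting`. -/
theorem exists_setting [FaithfulSMul G Ω] (S : Hyp G Ω Z) (hb : Below.{u, u} (Nat.card G)) (hG : ¬ Goal Z) :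
    ∃ (Ω' : Type u) (_ : MulAction G Ω'), Setting G Ω' Z := by
  have hgen := S.gen_of_not_goal hb hG
  obtain ⟨u₀, hu₀, hu₀Z⟩ : ∃ u : G, orderOf u = 2 ∧ u ∉ Z := by
    by_contra h
    push Not at h
    exact hG fun r _ hr2 => h r hr2
  obtain ⟨Ω', hact, hf, S', hA, hfour⟩ := S.exists_commAt hb (S.fourAt_of_not_goal hgen hu₀ hu₀Z)
  letI := hact
  haveI := hf
  have hB := S'.closedBelow hb
  refine ⟨Ω', hact, S', hf, hB, hgen, hA, hfour, fun a b a' b' hab hab' => ?_, fun u hu huZ a ha => ?_,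
    ⟨u₀, hu₀, hu₀Z⟩⟩
  · exact S'.doubly_transitive (S'.subFrames hB) hfour hab hab'
  · exact S'.cent_of_counterexample hB hgen hA hfour hu huZ ha

namespace Setting

variable (X : Setting G Ω Z)
include X

/-- There is one case for all involutions outside `Z`. -/
theorem othersPow : OthersPow Z Ω 1 ∨ OthersPow Z Ω 2 ∨ OthersPow Z Ω 3 := by
  classical
  haveI := X.faithful
  have S := X.hyp
  obtain ⟨v, hv, hvZ⟩ := X.exists_out
  obtain ⟨a, ha⟩ := S.exists_fix_invol hv
  obtain ⟨b, hb, hba⟩ := S.exists_other_fix hv hvZ a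
  obtain ⟨Q, J, D, hcases⟩ := X.exists_lineData hv hvZ hba.symm ha hb
  have hel : ∀ c : Ω, Nat.card (el Z c) = (zAt Z c).ncard + 1 := fun c => by
    rw [← Set.ncard_insert_of_notMem (a := (1 : G)) (fun h => ?_) (Set.toFinite _), ← Nat.card_coe_set_eq]
    · exact Nat.card_congr (Equiv.subtypeEquivRight fun g => X.mem_el)
    · have := S.invol 1 h.1
      rw [orderOf_one] at this
      omega
  have hm : ∀ c : Ω, 2 ≤ (zAt Z c).ncard := fun c => by
    obtain ⟨x, hx, y, hy, hxy, -⟩ := X.four c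
    exact (Set.one_lt_ncard (Set.toFinite _)).2 ⟨x, hx, y, hy, hxy⟩
  have key : ∀ k : ℕ, Nat.card Q = Nat.card (el Z a) ^ k → OthersPow Z Ω k := by
    intro k hk u hu huZ c hc
    rw [S.others_eq_others X.closed X.comm hu huZ hv hvZ hc ha (hm c) (X.cent u hu huZ c hc)
      (X.cent v hv hvZ a ha), ← D.q_card, hk, hel, hel, ← Nat.card_coe_set_eq, ← Nat.card_coe_set_eq, S.card_zAt c a]
  rcases hcases with h | h | h
  · exact Or.inl (key 1 (by rw [pow_one]; exact h.1))
  · exact Or.inr (Or.inl (key 2 h.1))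
  · exact Or.inr (Or.inr (key 3 h.1))

/-- In each case the line data have the corresponding shape. -/
theorem exists_lineData_pow {k : ℕ} (hk : OthersPow Z Ω k) {u : G} (hu : orderOf u = 2) (huZ : u ∉ Z) {a b : Ω}
    (hab : a ≠ b) (ha : u • a = a) (hb : u • b = b) : ∃ Q J : Subgroup G, LineData Z u a b Q J ∧
      (k = 1 → LineSmall Z u a b Q J) ∧ (k = 2 → LineSquare Z u a b Q J) ∧ (k = 3 → LineCube Z u a b Q J) := by
  obtain ⟨Q, J, D, hcases⟩ := X.exists_lineData hu huZ hab ha hb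
  have h1 : Nat.card Q = Nat.card (el Z a) ^ k := D.q_card.trans (hk u hu huZ a ha)
  have hlt : 1 < Nat.card (el Z a) := by have := D.four_le; omega
  refine ⟨Q, J, D, ?_⟩
  rcases hcases with h | h | h
  · have := (Nat.pow_right_injective hlt) (h1.symm.trans (h.1.trans (pow_one _).symm))
    exact ⟨fun _ => h, fun e => by omega, fun e => by omega⟩
  · have := (Nat.pow_right_injective hlt) (h1.symm.trans h.1)
    exact ⟨fun e => by omega, fun _ => h, fun e => by omega⟩
  · have := (Nat.pow_right_injective hlt) (h1.symm.trans h.1)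
    exact ⟨fun e => by omega, fun e => by omega, fun _ => h⟩

/-- In the first case the stabiliser of a fixed point in the group of the involution is the product of the members
and a cyclic subgroup regular on them. -/
theorem exists_torus_small (hk : OthersPow Z Ω 1) {u : G} (hu : orderOf u = 2) (huZ : u ∉ Z) {a b : Ω}
    (hab : a ≠ b) (ha : u • a = a) (hb : u • b = b) :
    ∃ A : Subgroup G, A ≤ lgen Z u ∧ IsCyclic A ∧ (∀ t ∈ A, t • a = a ∧ t • b = b) ∧
      (∀ z ∈ zAt Z a, ∀ t ∈ zAt Z a, ∃! g : G, g ∈ A ∧ g * z * g⁻¹ = t) ∧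
      ∀ g ∈ lgen Z u, g • a = a → ∃ e ∈ el Z a, ∃ t ∈ A, g = e * t := by
  obtain ⟨Q, J, D, h1, -, -⟩ := X.exists_lineData_pow hk hu huZ hab ha hb
  obtain ⟨hQ, hstab⟩ := h1 rfl
  have hQe : el Z a = Q := Subgroup.eq_of_le_of_card_ge D.el_le hQ.le
  have hJ : ∀ t ∈ J, t ∈ lgen Z u ∧ t • a = a ∧ t • b = b := fun t ht =>
    ⟨((D.mem_j t).1 ht).1, ((D.mem_j t).1 ht).2.1, ((D.mem_j t).1 ht).2.2.1⟩
  refine ⟨J, fun t ht => (hJ t ht).1, D.j_cyclic, fun t ht => (hJ t ht).2, fun z hz t ht => ?_, fun g hg hga => ?_⟩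
  · obtain ⟨k, hk', hkz⟩ := D.j_trans z hz t ht
    refine ⟨k, ⟨hk', hkz⟩, fun l hl => ?_⟩
    by_contra hne
    have h2 : Commute (k⁻¹ * l) z := by
      show k⁻¹ * l * z = z * (k⁻¹ * l)
      calc k⁻¹ * l * z = k⁻¹ * (l * z * l⁻¹) * l := by group
        _ = k⁻¹ * (k * z * k⁻¹) * l := by rw [hl.2, hkz]
        _ = z * (k⁻¹ * l) := by group
    have h3 := D.j_fpf _ (mul_mem (inv_mem hk') hl.1) (fun e => hne (inv_mul_eq_one.1 e).symm) z
      (D.el_le (X.mem_el.2 (Or.inr hz))) h2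
    obtain ⟨-, h0⟩ := orderOf_two_iff.1 (X.hyp.invol z hz.1)
    exact h0 h3
  · have hgb : u • g • b = g • b := by rw [← mul_smul, ← (commute_of_mem_lgen hg).eq, mul_smul, hb]
    have hgb' : g • b ≠ a := fun e => hab.symm (smul_left_cancel g (e.trans hga.symm))
    obtain ⟨q, hq, hqb⟩ := D.q_trans _ hgb hgb'
    obtain ⟨hqL, hqa, -⟩ := (D.mem_q q).1 hq
    refine ⟨q, hQe ▸ hq, q⁻¹ * g, hstab _ (mul_mem (inv_mem hqL) hg)
      (by rw [mul_smul, hga, inv_smul_eq_iff, hqa]) (by rw [mul_smul, ← hqb, inv_smul_smul]),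
      (mul_inv_cancel_left q g).symm⟩

end Setting

end Cfsg.Agent.Invol.Aschbacher.Last
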