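import Cfsg.Agent.Lib.Invol.Aschbacher.Kernel
import Cfsg.Agent.Lib.Invol.Aschbacher.Last.Glue

/-!
# The criterion from its three last cases

Induction on the order: a counterexample is generated by its members, its kernel is trivial, and it gives a
`Setting` in one of the three cases.
-/

set_option autoImplicit false
set_option linter.unusedSectionVars false

namespace Cfsg.Agent.Invol.Aschbacher.Last

open MulAction Subgroup
open Cfsg.Agent.Invol.Bender (toImage toImage_surjective)

universe u

/-- One of the last cases cannot occur. -/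
def NoCase (k : ℕ) : Prop :=
  ∀ (G Ω : Type u) [Group G] [Finite G] [MulAction G Ω] (Z : Set G), Setting G Ω Z → OthersPow Z Ω k → False

/-- The criterion, given that none of the last cases occurs. -/
theorem goal_of_cases (h1 : NoCase.{u} 1) (h2 : NoCase.{u} 2) (h3 : NoCase.{u} 3) (n : ℕ) :
    Below.{u, u} n := by
  induction n using Nat.strong_induction_on with
  | _ n ih =>
    intro G Ω _ _ _ Z hlt S
    by_contra hG
    have hb : Below.{u, u} (Nat.card G) := ih _ hlt
    have hgen := S.gen_of_not_goal hb hG
    have hK := S.odd_kernel hgen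
    rcases eq_or_ne (MulAction.toPermHom G Ω).ker ⊥ with hbot | hbot
    · haveI : FaithfulSMul G Ω := ⟨fun {g h} hgh => by
        have h0 : h⁻¹ * g ∈ (MulAction.toPermHom G Ω).ker := MonoidHom.mem_ker.2 (Equiv.ext fun x => by
          show (h⁻¹ * g) • x = x
          rw [mul_smul, hgh, inv_smul_smul])
        rw [hbot, Subgroup.mem_bot, inv_mul_eq_one] at h0
        exact h0.symm⟩
      obtain ⟨Ω', hact, X⟩ := exists_setting S hb hG
      letI := hact
      rcases X.othersPow with h | h | h
      · exact h1 G Ω' Z X h
      · exact h2 G Ω' Z X h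
      · exact h3 G Ω' Z X h
    · refine hG (S.goal_of_image hK (hb _ Ω _ ?_ (S.image hK)))
      have hne : Subsingleton (MulAction.toPermHom G Ω).ker → False := fun hs => hbot
        ((Subgroup.eq_bot_iff_forall _).2 fun x hx => congrArg Subtype.val (hs.elim ⟨x, hx⟩ 1))
      haveI : Nontrivial (MulAction.toPermHom G Ω).ker := not_subsingleton_iff_nontrivial.1 hne
      have h4 := Subgroup.card_mul_index (MulAction.toPermHom G Ω).ker
      rw [Subgroup.index_ker] at h4
      have h5 : 1 < Nat.card (MulAction.toPermHom G Ω).ker := Finite.one_lt_card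
      calc Nat.card (Bender.image G Ω) = Nat.card (MulAction.toPermHom G Ω).range := rfl
        _ < Nat.card (MulAction.toPermHom G Ω).ker * Nat.card (MulAction.toPermHom G Ω).range :=
            lt_mul_of_one_lt_left Nat.card_pos h5
        _ = Nat.card G := h4

/-- The criterion for every setting. -/
theorem goal (h1 : NoCase.{u} 1) (h2 : NoCase.{u} 2) (h3 : NoCase.{u} 3) {G Ω : Type u} [Group G] [Finite G]
    [MulAction G Ω] {Z : Set G} (S : Hyp G Ω Z) : Goal Z :=
  goal_of_cases h1 h2 h3 (Nat.card G + 1) G Ω Z (Nat.lt_succ_self _) S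

end Cfsg.Agent.Invol.Aschbacher.Last
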