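import Cfsg.Agent.Lib.Invol.Aschbacher.Last.LineMiddle
import Cfsg.Agent.Lib.Grp.FpfInvolution
import Cfsg.Agent.Lib.Grp.Cores

/-!
# The action on the orbits of `cHull` in even rank

With orbits of `q ^ 2` points the stabiliser of `a` is two-transitive on them, with kernel `cHull`, trivial `O_2`,
commutators of the stabiliser of an orbit semiregular on the others and a torus element of order three.
-/

set_option autoImplicit false
set_option linter.unusedSectionVars false

namespace Cfsg.Agent.Invol.Aschbacher.Last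

open MulAction Subgroup
open Cfsg.Agent.Invol.Bender (pairStab mem_pair conj_smul_smul)

universe u

variable {G : Type u} [Group G] [Finite G] {Ω : Type u} [MulAction G Ω] {Z : Set G}

/-- The orbits of `cHull` on the other points. -/
def Blocks (Z : Set G) (a : Ω) : Type u := {O : Set Ω // ∃ y, y ≠ a ∧ O = orb (cHull Z a) y}

namespace Setting

variable (X : Setting G Ω Z) {u : G} {a b : Ω} {A : Subgroup G}
include X

/-- The orbit of `q ^ 2` points does not occur in even rank. -/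
theorem false_of_square_even (hs : Short Z Ω) (L : LineSetup Z u a b A)
    (ho : (orb (cHull Z a) b).ncard = Nat.card (el Z a) ^ 2) {m : ℕ}
    (hq : Nat.card (el Z a) = 2 ^ (2 * m)) : False := by
  classical
  haveI : Fact (Nat.Prime 2) := ⟨Nat.prime_two⟩
  haveI := X.hyp.finite_points
  obtain ⟨T, W⟩ := X.exists_lineTwo hs L
  have hq4 := X.four_le_card_el a
  haveI hfinY : Finite (Blocks Z a) := inferInstanceAs (Finite {O : Set Ω // ∃ y, y ≠ a ∧ O = orb (cHull Z a) y})
  let mk : ∀ y : Ω, y ≠ a → Blocks Z a := fun y hy => ⟨orb (cHull Z a) y, y, hy, rfl⟩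
  have hmk : ∀ P : Blocks Z a, ∃ y, ∃ hy : y ≠ a, P = mk y hy := fun P => by
    obtain ⟨O, y, hy, rfl⟩ := P
    exact ⟨y, hy, rfl⟩
  have hmkeq : ∀ {y z : Ω} (hy : y ≠ a) (hz : z ≠ a), mk y hy = mk z hz ↔ y ∈ orb (cHull Z a) z := fun {y z} hy hz =>
    ⟨fun h => by
      have h1 : orb (cHull Z a) y = orb (cHull Z a) z := congrArg Subtype.val h
      rw [← h1]; exact mem_orb_self _ _, fun h => Subtype.ext (orb_eq_of_mem h)⟩
  obtain ⟨B₀, hB₀⟩ : ∃ P : Blocks Z a, P = mk b L.ne.symm := ⟨_, rfl⟩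
  -- the number of orbits
  have hY : Nat.card (Blocks Z a) = Nat.card (el Z a) := by
    haveI := Fintype.ofFinite (Blocks Z a)
    have h2 : Nat.card (Σ P : Blocks Z a, ↥(P.1 : Set Ω)) = Nat.card {y : Ω | y ≠ a} := by
      refine (Nat.card_eq_of_bijective (fun y : {y : Ω | y ≠ a} =>
        (⟨mk y y.2, ⟨y, mem_orb_self _ _⟩⟩ : Σ P : Blocks Z a, ↥(P.1 : Set Ω))) ⟨fun y z h => ?_, ?_⟩).symm
      · exact Subtype.ext (congrArg (fun s : Σ P : Blocks Z a, ↥(P.1 : Set Ω) => ((s.2 : Ω))) h)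
      · rintro ⟨P, x, hx⟩
        obtain ⟨y, hy, rfl⟩ := hmk P
        have hxy : x ∈ orb (cHull Z a) y := hx
        have hxa : x ≠ a := fun h => X.notMem_orb hy (h ▸ hxy)
        refine ⟨⟨x, hxa⟩, Sigma.subtype_ext ?_ rfl⟩
        exact (hmkeq hxa hy).2 hxy
    have hc : ∀ P : Blocks Z a, Nat.card ↥(P.1 : Set Ω) = Nat.card (el Z a) ^ 2 := fun P => by
      obtain ⟨y, hy, rfl⟩ := hmk P
      rw [Nat.card_coe_set_eq, X.ncard_orb_eq L.ne.symm hy, ho]
    rw [Nat.card_sigma, Finset.sum_congr rfl fun P _ => hc P, Finset.sum_const, Finset.card_univ, smul_eq_mul,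
      Nat.card_coe_set_eq, show ({y : Ω | y ≠ a}) = {a}ᶜ from rfl, Set.ncard_compl, Set.ncard_singleton,
      X.card_points hs L.invol L.notMem L.fix_a, Nat.add_sub_cancel, pow_succ' _ 2, ← Nat.card_eq_fintype_card] at h2
    exact Nat.eq_of_mul_eq_mul_right (pow_pos Nat.card_pos 2) h2
  -- the action
  have hne : ∀ {g : G}, g • a = a → ∀ {y : Ω}, y ≠ a → g • y ≠ a := fun {g} hg {y} hy h =>
    hy (MulAction.injective g (h.trans hg.symm))
  have hstab : ∀ g : stabilizer G a, (g : G) • a = a := fun g => mem_stabilizer_iff.1 g.2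
  letI : MulAction (stabilizer G a) (Blocks Z a) :=
    { smul := fun g P => ⟨((g : G) • ·) '' P.1, by
        obtain ⟨y, hy, rfl⟩ := hmk P
        exact ⟨(g : G) • y, hne (hstab g) hy, (X.orb_conj (hstab g)).symm⟩⟩
      one_smul := fun P => Subtype.ext (by
        show ((1 : G) • ·) '' P.1 = P.1
        simp only [one_smul, Set.image_id'])
      mul_smul := fun g h P => Subtype.ext (by
        show (((g : G) * h) • ·) '' P.1 = ((g : G) • ·) '' (((h : G) • ·) '' P.1)
        rw [Set.image_image]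
        simp only [mul_smul]) }
  have hact : ∀ (g : stabilizer G a) {y : Ω} (hy : y ≠ a), g • mk y hy = mk ((g : G) • y) (hne (hstab g) hy) :=
    fun g {y} hy => Subtype.ext (X.orb_conj (hstab g)).symm
  have hfix : ∀ g : stabilizer G a, (g : G) ∈ cHull Z a → ∀ P : Blocks Z a, g • P = P := fun g hg P => by
    obtain ⟨y, hy, rfl⟩ := hmk P
    rw [hact g hy, hmkeq (hne (hstab g) hy) hy]
    exact ⟨g, hg, rfl⟩
  -- the torus
  obtain ⟨At, hAt⟩ : ∃ f : A → stabilizer G a, f = fun t => ⟨t, mem_stabilizer_iff.2 (L.fix t t.2).1⟩ := ⟨_, rfl⟩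
  have hAtv : ∀ t : A, ((At t : stabilizer G a) : G) = t := fun t => by rw [hAt]
  have hB₀t : ∀ t : A, At t • B₀ = B₀ := fun t => by
    rw [hB₀, hact _ L.ne.symm, hmkeq (hne (hstab _) L.ne.symm) L.ne.symm, hAtv, (L.fix t t.2).2]
    exact mem_orb_self _ _
  have hfree : ∀ t : A, ∀ P : Blocks Z a, P ≠ B₀ → At t • P = P → t = 1 := by
    intro t P hP htP
    by_contra ht1
    have ht1' : (t : G) ≠ 1 := fun h => ht1 (Subtype.ext h)
    obtain ⟨p, hp, hpd⟩ := Nat.exists_prime_and_dvd (fun h1 => ht1' (orderOf_eq_one_iff.1 h1))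
    haveI := Fact.mk hp
    obtain ⟨r, hr⟩ : ∃ r, r = (t : G) ^ (orderOf (t : G) / p) := ⟨_, rfl⟩
    have hrp : orderOf r = p := hr ▸ orderOf_pow_orderOf_div (orderOf_pos _).ne' hpd
    have hstep : ∀ x ∈ P.1, (t : G) • x ∈ P.1 := fun x hx => by
      have := congrArg Subtype.val htP
      rw [← this, ← hAtv t]
      exact ⟨x, hx, rfl⟩
    have hpow : ∀ k : ℕ, ∀ x ∈ P.1, ((t : G) ^ k) • x ∈ P.1 := by
      intro k
      induction k with
      | zero => intro x hx; rwa [pow_zero, one_smul]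
      | succ k ih => intro x hx; rw [pow_succ, mul_smul]; exact ih _ (hstep x hx)
    have hzp : ∀ k ∈ Subgroup.zpowers r, ∀ x ∈ P.1, k • x ∈ P.1 := by
      intro k hk
      obtain ⟨i, rfl⟩ : ∃ i : ℕ, r ^ i = k := mem_powers_iff_mem_zpowers.2 hk
      rw [hr, ← pow_mul]
      exact hpow _
    letI : MulAction (Subgroup.zpowers r) ↥(P.1 : Set Ω) :=
      { smul := fun k x => ⟨(k : G) • (x : Ω), hzp k k.2 x x.2⟩
        one_smul := fun x => Subtype.ext (one_smul G (x : Ω))
        mul_smul := fun k k' x => Subtype.ext (mul_smul (k : G) (k' : G) (x : Ω)) }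
    have hPg : IsPGroup p (Subgroup.zpowers r) := IsPGroup.of_card (n := 1) (by rw [Nat.card_zpowers, hrp, pow_one])
    obtain ⟨y, hy, rfl⟩ := hmk P
    have hnd : ¬ p ∣ Nat.card ↥((mk y hy).1 : Set Ω) := by
      show ¬ p ∣ Nat.card ↥(orb (cHull Z a) y)
      rw [Nat.card_coe_set_eq, X.ncard_orb_eq L.ne.symm hy, ho]
      intro hd
      have h1 : p ∣ Nat.card (el Z a) - 1 := by
        rw [← X.card_torus L]
        exact hpd.trans ((Subgroup.orderOf_coe t).symm ▸ orderOf_dvd_natCard t)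
      have h2 := Nat.dvd_sub (hp.dvd_of_dvd_pow hd) h1
      rw [show Nat.card (el Z a) - (Nat.card (el Z a) - 1) = 1 by omega] at h2
      exact hp.one_lt.ne' (Nat.dvd_one.1 h2)
    obtain ⟨⟨z, hz⟩, hzf⟩ := hPg.nonempty_fixed_point_of_prime_not_dvd_card _ hnd
    have hrz : r • z = z := congrArg Subtype.val (hzf ⟨r, Subgroup.mem_zpowers r⟩)
    rcases X.torus_fix hs L (hr ▸ pow_mem t.2 _) (fun h => hp.one_lt.ne' (by rw [← hrp, h, orderOf_one])) hrz
      with rfl | rfl
    · exact X.notMem_orb hy hz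
    · exact hP (hB₀.symm ▸ ((hmkeq L.ne.symm hy).2 hz).symm)
  have hAtrans : ∀ P Q : Blocks Z a, P ≠ B₀ → Q ≠ B₀ → ∃ t : A, At t • P = Q := by
    intro P Q hP hQ
    have hcard : Nat.card A = Nat.card {R : Blocks Z a // R ≠ B₀} := by
      rw [X.card_torus L, ← hY]
      have := Nat.card_congr (Equiv.sumCompl fun R : Blocks Z a => R = B₀)
      rw [Nat.card_sum, Nat.card_unique] at this
      simp only [ne_eq]
      omega
    have hmem : ∀ t : A, At t • P ≠ B₀ := fun t h => hP (MulAction.injective (At t) (h.trans (hB₀t t).symm))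
    have hinj : Function.Injective (fun t : A => (⟨At t • P, hmem t⟩ : {R : Blocks Z a // R ≠ B₀})) := fun s t h => by
      have h' : At s • P = At t • P := congrArg Subtype.val h
      have h1 := hfree (t⁻¹ * s) P hP (by
        rw [show At (t⁻¹ * s) = (At t)⁻¹ * At s from Subtype.ext (by simp [hAt]), mul_smul, h', inv_smul_smul])
      exact (inv_mul_eq_one.1 h1).symm
    haveI := Fintype.ofFinite A
    haveI := Fintype.ofFinite {R : Blocks Z a // R ≠ B₀}
    obtain ⟨t, ht⟩ := ((Fintype.bijective_iff_injective_and_card _).2 ⟨hinj, by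
      rwa [Nat.card_eq_fintype_card, Nat.card_eq_fintype_card] at hcard⟩).2 ⟨Q, hQ⟩
    exact ⟨t, congrArg Subtype.val ht⟩
  have htrans : ∀ P : Blocks Z a, ∃ g : stabilizer G a, g • B₀ = P := fun P => by
    obtain ⟨y, hy, rfl⟩ := hmk P
    obtain ⟨g, hga, hgb⟩ := X.exists_stab_smul L.ne.symm hy
    refine ⟨⟨g, mem_stabilizer_iff.2 hga⟩, ?_⟩
    rw [hB₀, hact _ L.ne.symm, hmkeq (hne (hstab _) L.ne.symm) hy]
    show g • b ∈ _
    rw [hgb]
    exact mem_orb_self _ _
  have htwo : ∀ P Q P' Q' : Blocks Z a, P ≠ Q → P' ≠ Q' → ∃ g : stabilizer G a, g • P = P' ∧ g • Q = Q' := by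
    intro P Q P' Q' h h'
    obtain ⟨g, hg⟩ := htrans P
    obtain ⟨g', hg'⟩ := htrans P'
    have h1 : g⁻¹ • Q ≠ B₀ := fun e => h (by rw [← hg, ← e, smul_inv_smul])
    have h2 : g'⁻¹ • Q' ≠ B₀ := fun e => h' (by rw [← hg', ← e, smul_inv_smul])
    obtain ⟨t, ht⟩ := hAtrans _ _ h1 h2
    refine ⟨g' * At t * g⁻¹, ?_, ?_⟩
    · rw [mul_smul, mul_smul, inv_smul_eq_iff.2 hg.symm, hB₀t, hg']
    · rw [mul_smul, mul_smul, ht, smul_inv_smul]
  -- lifting to the pair stabiliser
  have hlift : ∀ g : stabilizer G a, g • B₀ = B₀ →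
      ∃ x : stabilizer G a, (x : G) • b = b ∧ ∀ P : Blocks Z a, x • P = g • P := by
    intro g hg
    rw [hB₀, hact g L.ne.symm, hmkeq (hne (hstab g) L.ne.symm) L.ne.symm] at hg
    obtain ⟨k, hk, hkb⟩ := hg
    have hka : k ∈ stabilizer G a := mem_stabilizer_iff.2 (mem_cHull.1 hk).1
    refine ⟨⟨k, hka⟩⁻¹ * g, ?_, fun P => ?_⟩
    · show (k⁻¹ * (g : G)) • b = b
      rw [mul_smul, ← hkb, inv_smul_smul]
    · rw [mul_smul, inv_smul_eq_iff, hfix ⟨k, hka⟩ hk]
  have hcommu : ∀ x : stabilizer G a, (x : G) • b = b → Commute (x : G) u := by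
    intro x hxb
    have h1 : (x : G) * u * (x : G)⁻¹ ∈ cPair Z a b := by
      refine X.invol_mem_cPair ?_ ?_ ?_
      · rw [← MulAut.conj_apply, MulEquiv.orderOf_eq, L.invol]
      · rw [mul_smul, mul_smul, inv_smul_eq_iff.2 (hstab x).symm, L.fix_a, hstab x]
      · rw [mul_smul, mul_smul, inv_smul_eq_iff.2 hxb.symm, L.fix_b, hxb]
    rcases X.mem_cPair_two hs L W ho h1 with h2 | h2
    · exfalso
      have hu1 : u = 1 := by
        calc u = (x : G)⁻¹ * ((x : G) * u * (x : G)⁻¹) * x := by group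
          _ = 1 := by rw [h2, mul_one, inv_mul_cancel]
      have := L.invol
      rw [hu1, orderOf_one] at this
      omega
    · exact mul_inv_eq_iff_eq_mul.1 h2
  have hnormA : ∀ x : stabilizer G a, (x : G) • b = b → (x : G) ∈ normalizer (A : Set G) := fun x hxb =>
    X.norm_torus L (hcommu x hxb) (hstab x) hxb
  -- an element centralising the torus acts as one of its elements
  have hcent : ∀ x : stabilizer G a, (x : G) • b = b → (∀ t ∈ A, Commute t (x : G)) →
      ∃ t : A, (∀ P : Blocks Z a, x • P = At t • P) ∧ (t = 1 → (x : G) ∈ cHull Z a) := by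
    intro x hxb hxA
    obtain ⟨t, ht, htK⟩ := X.exists_torus_mul L (hstab x) hxb hxA
    refine ⟨⟨t, ht⟩, fun P => ?_, fun h => ?_⟩
    · have e := hfix ((At ⟨t, ht⟩)⁻¹ * x) (by
        rw [Subgroup.coe_mul, Subgroup.coe_inv, hAtv]
        exact X.cPair_le_cHull a b htK) P
      rwa [mul_smul, inv_smul_eq_iff] at e
    · rw [show t = 1 from congrArg Subtype.val h, inv_one, one_mul] at htK
      exact X.cPair_le_cHull a b htK
  -- commutators at `B₀`
  have hfree₀ : ∀ g h : stabilizer G a, g • B₀ = B₀ → h • B₀ = B₀ → ∀ R : Blocks Z a, R ≠ B₀ →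
      (g * h * g⁻¹ * h⁻¹) • R = R → ∀ P : Blocks Z a, (g * h * g⁻¹ * h⁻¹) • P = P := by
    intro g h hg hh R hR hfixR
    obtain ⟨x, hxb, hx⟩ := hlift g hg
    obtain ⟨y, hyb, hy⟩ := hlift h hh
    have hxi : ∀ P : Blocks Z a, x⁻¹ • P = g⁻¹ • P := fun P => by rw [inv_smul_eq_iff, hx, smul_inv_smul]
    have hyi : ∀ P : Blocks Z a, y⁻¹ • P = h⁻¹ • P := fun P => by rw [inv_smul_eq_iff, hy, smul_inv_smul]
    have hsame : ∀ P : Blocks Z a, (x * y * x⁻¹ * y⁻¹) • P = (g * h * g⁻¹ * h⁻¹) • P := fun P => by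
      simp only [mul_smul, hx, hy, hxi, hyi]
    obtain ⟨t, ht, -⟩ := hcent (x * y * x⁻¹ * y⁻¹) (by
        show ((x : G) * y * (x : G)⁻¹ * (y : G)⁻¹) • b = b
        rw [mul_smul, mul_smul, mul_smul, inv_smul_eq_iff.2 hyb.symm, inv_smul_eq_iff.2 hxb.symm, hyb, hxb])
      fun t ht => (X.comm_torus L (hnormA x hxb) (hnormA y hyb) ht).symm
    have ht1 := hfree t R hR (by rw [← ht, hsame, hfixR])
    intro P
    rw [← hsame, ht, ht1, show At 1 = 1 from Subtype.ext (by rw [hAtv]; rfl), one_smul]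
  -- the kernel
  have hker : ∀ g : stabilizer G a, (∀ P : Blocks Z a, g • P = P) → (g : G) ∈ cHull Z a := by
    intro g hg
    have hg₀ := hg B₀
    rw [hB₀, hact g L.ne.symm, hmkeq (hne (hstab g) L.ne.symm) L.ne.symm] at hg₀
    obtain ⟨k, hk, hkb⟩ := hg₀
    have hka : k ∈ stabilizer G a := mem_stabilizer_iff.2 (mem_cHull.1 hk).1
    obtain ⟨x, hx⟩ : ∃ x, x = (⟨k, hka⟩ : stabilizer G a)⁻¹ * g := ⟨_, rfl⟩
    have hxb : (x : G) • b = b := by
      rw [hx]
      show (k⁻¹ * (g : G)) • b = b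
      rw [mul_smul, ← hkb, inv_smul_smul]
    have hxP : ∀ P : Blocks Z a, x • P = P := fun P => by
      rw [hx, mul_smul, hg, inv_smul_eq_iff, hfix ⟨k, hka⟩ hk]
    obtain ⟨R, hR⟩ : ∃ R : Blocks Z a, R ≠ B₀ := by
      obtain ⟨y, hy, hyo⟩ := X.exists_other_orbit hs L ho
      exact ⟨mk y hy, fun e => hyo ((hmkeq hy L.ne.symm).1 (e.trans hB₀))⟩
    have hxA : ∀ t ∈ A, Commute t (x : G) := fun t ht => by
      obtain ⟨c, hc⟩ : ∃ c, c = (x : G) * t * (x : G)⁻¹ * t⁻¹ := ⟨_, rfl⟩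
      have hcA : c ∈ A := hc ▸ mul_mem (conj_mem_normalizer (hnormA x hxb) ht) (inv_mem ht)
      have h1 := hfree ⟨c, hcA⟩ R hR (by
        rw [show At ⟨c, hcA⟩ = x * At ⟨t, ht⟩ * x⁻¹ * (At ⟨t, ht⟩)⁻¹ from
          Subtype.ext (by rw [hAtv]; simp [hc, hAt]), mul_smul, mul_smul, mul_smul, inv_smul_eq_iff.2 (hxP _).symm,
          smul_inv_smul, hxP])
      have h2 : c = 1 := congrArg Subtype.val h1
      rw [hc, mul_inv_eq_one] at h2
      exact (mul_inv_eq_iff_eq_mul.1 h2).symm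
    obtain ⟨t, ht, hth⟩ := hcent x hxb hxA
    have hxH := hth (hfree t R hR (by rw [← ht, hxP]))
    have := mul_mem hk hxH
    rwa [hx, Subgroup.coe_mul, Subgroup.coe_inv, mul_inv_cancel_left] at this
  -- the image
  obtain ⟨π, hπ⟩ : ∃ π : stabilizer G a →* Equiv.Perm (Blocks Z a),
      π = MulAction.toPermHom (stabilizer G a) (Blocks Z a) := ⟨_, rfl⟩
  have hπapp : ∀ (g : stabilizer G a) (P : Blocks Z a), (π.rangeRestrict g : π.range) • P = g • P := fun g P => by
    show π g P = g • P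
    rw [hπ]
    rfl
  -- an element of order three
  obtain ⟨⟨ω, hω⟩, hω3⟩ := exists_prime_orderOf_dvd_card' (G := A) 3 (by
    rw [X.card_torus L, hq, pow_mul, show (2 : ℕ) ^ 2 = 4 from rfl]
    simpa using Nat.sub_one_dvd_pow_sub_one 4 m)
  have hωP : ∀ P : Blocks Z a, P ≠ B₀ → At ⟨ω, hω⟩ • P ≠ P := fun P hP h => by
    rw [hfree ⟨ω, hω⟩ P hP h, orderOf_one] at hω3
    omega
  have hS : Grp.FpfInvolution.Setting π.range (Blocks Z a) := by
    refine ⟨fun P Q P' Q' h h' => ?_, fun P Q hQP => ?_, fun P Q hPQ => ?_⟩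
    · obtain ⟨g, h1, h2⟩ := htwo P Q P' Q' h h'
      exact ⟨π.rangeRestrict g, (hπapp g P).trans h1, (hπapp g Q).trans h2⟩
    · intro g h hgP hhP hfixQ
      obtain ⟨g, rfl⟩ := π.rangeRestrict_surjective g
      obtain ⟨h, rfl⟩ := π.rangeRestrict_surjective h
      rw [← map_inv, ← map_inv, ← map_mul, ← map_mul, ← map_mul, hπapp] at hfixQ
      rw [hπapp] at hgP hhP
      obtain ⟨k, hk⟩ := htrans P
      have hk' : k⁻¹ • P = B₀ := inv_smul_eq_iff.2 hk.symm
      have h0 := hfree₀ (k⁻¹ * g * k) (k⁻¹ * h * k) (by rw [mul_smul, mul_smul, hk, hgP, hk'])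
        (by rw [mul_smul, mul_smul, hk, hhP, hk']) (k⁻¹ • Q)
        (fun e => hQP (by rw [← hk, ← e, smul_inv_smul])) (by
          rw [show k⁻¹ * g * k * (k⁻¹ * h * k) * (k⁻¹ * g * k)⁻¹ * (k⁻¹ * h * k)⁻¹ =
            k⁻¹ * (g * h * g⁻¹ * h⁻¹) * k by group, mul_smul, smul_inv_smul, mul_smul, hfixQ])
      refine Subtype.ext (Equiv.ext fun R => ?_)
      rw [← map_inv, ← map_inv, ← map_mul, ← map_mul, ← map_mul]
      refine (hπapp (g * h * g⁻¹ * h⁻¹) R).trans ?_
      have h1 := h0 (k⁻¹ • R)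
      rw [show k⁻¹ * g * k * (k⁻¹ * h * k) * (k⁻¹ * g * k)⁻¹ * (k⁻¹ * h * k)⁻¹ =
            k⁻¹ * (g * h * g⁻¹ * h⁻¹) * k by group, mul_smul, smul_inv_smul, mul_smul, smul_left_cancel_iff] at h1
      exact h1
    · obtain ⟨k, hk⟩ := htrans P
      have hk' : k⁻¹ • P = B₀ := inv_smul_eq_iff.2 hk.symm
      have hkQ : k⁻¹ • Q ≠ B₀ := fun e => hPQ (by rw [← hk, ← e, smul_inv_smul])
      obtain ⟨w, hw⟩ : ∃ w, w = k * At ⟨ω, hω⟩ * k⁻¹ := ⟨_, rfl⟩
      have hwQ : w • Q ≠ Q := fun e => hωP _ hkQ (by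
        rw [hw, mul_smul, mul_smul, ← eq_inv_smul_iff] at e
        exact e)
      have hw3 : orderOf (π.rangeRestrict w) = 3 := by
        refine orderOf_eq_prime ?_ fun e => hwQ (by rw [← hπapp, e, one_smul])
        rw [← map_pow, hw, conj_pow,
          show At ⟨ω, hω⟩ ^ 3 = 1 from Subtype.ext (by
            rw [SubmonoidClass.coe_pow, hAtv, ← hω3]
            show ω ^ orderOf (⟨ω, hω⟩ : A) = 1
            rw [Subgroup.orderOf_mk, pow_orderOf_eq_one]),
          mul_one, mul_inv_cancel, map_one]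
      refine Grp.FpfInvolution.third_of_order_three hw3 ?_ (by rw [hπapp]; exact hwQ) hPQ fun g hgP => ?_
      · rw [hπapp, hw, mul_smul, mul_smul, hk', hB₀t, hk]
      obtain ⟨g, rfl⟩ := π.rangeRestrict_surjective g
      rw [hπapp] at hgP
      obtain ⟨x, hxb, hx⟩ := hlift (k⁻¹ * g * k) (by rw [mul_smul, mul_smul, hk, hgP, hk'])
      have hsame : π.rangeRestrict x = π.rangeRestrict (k⁻¹ * g * k) :=
        Subtype.ext (Equiv.ext fun R => by
          show (π.rangeRestrict x : π.range) • R = (π.rangeRestrict (k⁻¹ * g * k) : π.range) • R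
          rw [hπapp, hπapp]; exact hx R)
      -- the conjugate is `ω` or its inverse
      have hcube : (x : G) * ω * (x : G)⁻¹ = ω ∨ (x : G) * ω * (x : G)⁻¹ = ω⁻¹ := by
        by_contra hcon
        push Not at hcon
        haveI := L.cyclic
        haveI := Fintype.ofFinite A
        have hxA := conj_mem_normalizer (hnormA x hxb) hω
        have hω3' : ω ^ 3 = 1 := by
          rw [← hω3, Subgroup.orderOf_mk, pow_orderOf_eq_one]
        have hω1 : ω ≠ 1 := fun e => by rw [Subgroup.orderOf_mk, e, orderOf_one] at hω3; omega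
        have hωω : ω ≠ ω⁻¹ := fun e => hω1 (by
          have h2 : ω * ω = 1 := by nth_rw 2 [e]; rw [mul_inv_cancel]
          rwa [pow_succ, pow_two, h2, one_mul] at hω3')
        have h1 := IsCyclic.card_pow_eq_one_le (α := A) (show 0 < 3 by norm_num)
        have h2 : ({1, ⟨ω, hω⟩, ⟨ω, hω⟩⁻¹, ⟨_, hxA⟩} : Finset A) ⊆
            Finset.univ.filter fun t : A => t ^ 3 = 1 := by
          intro t ht
          simp only [Finset.mem_insert, Finset.mem_singleton] at ht
          simp only [Finset.mem_filter, Finset.mem_univ, true_and]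
          refine Subtype.ext ?_
          rw [SubmonoidClass.coe_pow]
          rcases ht with rfl | rfl | rfl | rfl
          · exact one_pow 3
          · exact hω3'
          · show (ω⁻¹) ^ 3 = 1
            rw [inv_pow, hω3', inv_one]
          · show ((x : G) * ω * (x : G)⁻¹) ^ 3 = 1
            rw [conj_pow, hω3', mul_one, mul_inv_cancel]
        have h3 := (Finset.card_le_card h2).trans h1
        rw [Finset.card_insert_of_notMem, Finset.card_insert_of_notMem, Finset.card_pair] at h3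
        · omega
        · exact fun e => hcon.2 (congrArg Subtype.val e).symm
        · simp only [Finset.mem_insert, Finset.mem_singleton, not_or]
          exact ⟨fun e => hωω (congrArg Subtype.val e), fun e => hcon.1 (congrArg Subtype.val e).symm⟩
        · simp only [Finset.mem_insert, Finset.mem_singleton, not_or]
          refine ⟨fun e => hω1 (congrArg Subtype.val e).symm, fun e => hω1 ?_, fun e => hω1 ?_⟩
          · exact inv_eq_one.1 (congrArg Subtype.val e).symm
          · exact conj_eq_one_iff.1 (congrArg Subtype.val e).symm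
      have hgx : π.rangeRestrict g = π.rangeRestrict k * π.rangeRestrict x * (π.rangeRestrict k)⁻¹ := by
        rw [hsame, ← map_inv, ← map_mul, ← map_mul, show k * (k⁻¹ * g * k) * k⁻¹ = g by group]
      rw [hgx, ← map_inv, ← map_mul, ← map_mul, ← map_inv, ← map_mul, ← map_mul, ← map_inv, hw,
        show k * x * k⁻¹ * (k * At ⟨ω, hω⟩ * k⁻¹) * (k * x * k⁻¹)⁻¹ = k * (x * At ⟨ω, hω⟩ * x⁻¹) * k⁻¹ by group,
        show (k * At ⟨ω, hω⟩ * k⁻¹)⁻¹ = k * (At ⟨ω, hω⟩)⁻¹ * k⁻¹ by group]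
      rcases hcube with h | h
      · left
        rw [show x * At ⟨ω, hω⟩ * x⁻¹ = At ⟨ω, hω⟩ from Subtype.ext (by simp [hAt, h])]
      · right
        rw [show x * At ⟨ω, hω⟩ * x⁻¹ = (At ⟨ω, hω⟩)⁻¹ from Subtype.ext (by simp [hAt, h])]
  -- `O_2` is trivial
  have hcore : Cfsg.pCore 2 π.range = ⊥ := by
    obtain ⟨N, hN⟩ : ∃ N, N = (Cfsg.pCore 2 π.range).comap π.rangeRestrict := ⟨_, rfl⟩
    haveI : (Cfsg.pCore 2 π.range).Normal := Grp.pCore_isNormal
    haveI hNn : N.Normal := hN ▸ inferInstance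
    have hH : IsPGroup 2 (cHull Z a) := W.sylow.2.1.to_le fun g hg => (X.cHull_le_fam hs L W ho hg).1
    have hker' : ∀ g : π.rangeRestrict.ker, ((g : stabilizer G a) : G) ∈ cHull Z a := fun g => hker _ fun P => by
      rw [← hπapp, MonoidHom.mem_ker.1 g.2, one_smul]
    have hNp : IsPGroup 2 N := hN ▸ Grp.pCore_isPGroup.comap_of_ker_isPGroup _ (fun g => by
      obtain ⟨k, hk⟩ := hH ⟨_, hker' g⟩
      refine ⟨k, Subtype.ext (Subtype.ext ?_)⟩
      simpa using congrArg Subtype.val hk)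
    obtain ⟨z, hz, hzN⟩ : ∃ z ∈ zAt Z a, ∀ g ∈ N, ((g : stabilizer G a) : G) * z * ((g : stabilizer G a) : G)⁻¹ = z := by
      have hmem : ∀ (g : stabilizer G a) (z : G), z ∈ zAt Z a → (g : G) * z * (g : G)⁻¹ ∈ zAt Z a := fun g z hz => by
        have h := X.hyp.zAt_conj (g := (g : G)) hz
        rwa [hstab g] at h
      letI : MulAction N (zAt Z a) :=
        { smul := fun g z => ⟨((g : stabilizer G a) : G) * z * ((g : stabilizer G a) : G)⁻¹, hmem g z z.2⟩
          one_smul := fun z => Subtype.ext (by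
            show (1 : G) * z * (1 : G)⁻¹ = z
            group)
          mul_smul := fun g h z => Subtype.ext (by
            show ((g : stabilizer G a) : G) * h * z * (((g : stabilizer G a) : G) * h)⁻¹ =
              ((g : stabilizer G a) : G) * (((h : stabilizer G a) : G) * z * ((h : stabilizer G a) : G)⁻¹) *
                ((g : stabilizer G a) : G)⁻¹
            group) }
      obtain ⟨z, hz⟩ := hNp.nonempty_fixed_point_of_prime_not_dvd_card (zAt Z a) (by
        have h1 := X.card_el a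
        rw [hq] at h1
        rw [Nat.card_coe_set_eq]
        intro hd
        obtain ⟨c, hc⟩ := hd
        have hm0 : 2 * m ≠ 0 := fun e => by rw [hq, e, pow_zero] at hq4; omega
        obtain ⟨d, hd⟩ := dvd_pow_self 2 hm0
        omega)
      exact ⟨z, z.2, fun g hg => congrArg Subtype.val (hz ⟨g, hg⟩)⟩
    have hle : ∀ g ∈ N, ((g : stabilizer G a) : G) ∈ cHull Z a := fun g hg => by
      refine mem_cHull.2 ⟨hstab g, fun w hw => ?_⟩
      obtain ⟨t, ⟨ht, htw⟩, -⟩ := L.regular z hz w hw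
      have h := hzN _ (hNn.conj_mem g hg (At ⟨t, ht⟩)⁻¹)
      simp only [Subgroup.coe_mul, Subgroup.coe_inv, inv_inv, hAtv] at h
      refine (mul_inv_eq_iff_eq_mul.1 (?_ : (g : G) * w * (g : G)⁻¹ = w)).symm
      rw [← htw]
      calc (g : G) * (t * z * t⁻¹) * (g : G)⁻¹ = t * (t⁻¹ * (g : G) * t * z * (t⁻¹ * (g : G) * t)⁻¹) * t⁻¹ := by group
        _ = _ := by rw [h]
    refine (Subgroup.eq_bot_iff_forall _).2 fun g hg => ?_
    obtain ⟨g, rfl⟩ := π.rangeRestrict_surjective g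
    refine Subtype.ext (Equiv.ext fun P => ?_)
    exact (hπapp g P).trans (hfix g (hle g (hN ▸ hg)) P)
  exact hS.false_of_pCore (hY.trans hq) (fun e => by rw [hq, e, pow_zero] at hq4; omega) hcore

end Setting

end Cfsg.Agent.Invol.Aschbacher.Last
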