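import Cfsg.Agent.Lib.Invol.Aschbacher.Last.LineFamily
import Cfsg.Agent.Lib.Invol.Aschbacher.Transfer

/-!
# No short line with `cHull` transitive on the other points

A Sylow 2-subgroup of the point stabiliser is `M S` with `S` a Sylow 2-subgroup of the pair stabiliser, and is abelian
modulo `M`; the conjugates of `u` in it are conjugate there, against the transfer.
-/

set_option autoImplicit false
set_option linter.unusedSectionVars false

namespace Cfsg.Agent.Invol.Aschbacher.Last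

open MulAction Subgroup
open scoped commutatorElement Pointwise
open Cfsg.Agent.Invol.Bender (pairStab mem_pair conj_smul_smul)

universe u

variable {G : Type u} [Group G] [Finite G] {Ω : Type u} [MulAction G Ω] {Z : Set G}

namespace Setting

variable (X : Setting G Ω Z) {u : G} {a b : Ω} {A T : Subgroup G}
include X

/-- The torus invariant Sylow subgroup may be chosen normalised by a 2-subgroup of the pair stabiliser. -/
theorem exists_lineTwo_norm (hs : Short Z Ω) (L : LineSetup Z u a b A) (W : LineTwo Z u a A T) {P : Subgroup G}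
    (hP : IsPGroup 2 P) (hPD : P ≤ pairStab G a b) (hu : u ∈ P) :
    ∃ T', LineTwo Z u a A T' ∧ P ≤ normalizer (T' : Set G) := by
  classical
  haveI : Fact (Nat.Prime 2) := ⟨Nat.prime_two⟩
  letI := Grp.conjActSubgroup G
  obtain ⟨F, hF⟩ : ∃ F : Set (Subgroup G),
      F = {Y | Grp.IsSylowIn 2 Y (cHull Z a) ∧ A ≤ normalizer (Y : Set G)} := ⟨_, rfl⟩
  have hTF : T ∈ F := hF ▸ ⟨W.sylow, W.norm⟩
  have hAn : A ≤ normalizer (cHull Z a : Set G) := fun t ht => by
    obtain ⟨hta, -⟩ := L.fix t ht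
    refine Subgroup.mem_normalizer_iff.2 fun h => ⟨fun hh => X.conj_cHull hta hh, fun hh => ?_⟩
    have := X.conj_cHull (inv_smul_eq_iff.2 hta.symm) hh
    rwa [show t⁻¹ * (t * h * t⁻¹) * t⁻¹⁻¹ = h by group] at this
  have hPn : P ≤ normalizer (cHull Z a : Set G) := fun s hs' => by
    obtain ⟨hsa, -⟩ := mem_pair.1 (hPD hs')
    refine Subgroup.mem_normalizer_iff.2 fun h => ⟨fun hh => X.conj_cHull hsa hh, fun hh => ?_⟩
    have := X.conj_cHull (inv_smul_eq_iff.2 hsa.symm) hh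
    rwa [show s⁻¹ * (s * h * s⁻¹) * s⁻¹⁻¹ = h by group] at this
  have hPA : ∀ s ∈ P, s ∈ normalizer (A : Set G) := fun s hs' =>
    X.norm_torus L (X.pgroup_commute hs L W hP hPD hu hs') (mem_pair.1 (hPD hs')).1 (mem_pair.1 (hPD hs')).2
  -- conjugate under the centraliser of the torus
  obtain ⟨C, hC⟩ : ∃ C : Subgroup G, C = cHull Z a ⊓ Subgroup.centralizer (A : Set G) := ⟨_, rfl⟩
  have hCK : C ≤ cPair Z a b := by
    intro c hc
    rw [hC] at hc
    obtain ⟨hca, hcc⟩ := mem_cHull.1 hc.1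
    refine mem_cPair.2 ⟨hca, ?_, hcc⟩
    have h3 : 1 < Nat.card A := by rw [X.card_torus L]; have := X.four_le_card_el a; omega
    haveI := Finite.one_lt_card_iff_nontrivial.1 h3
    obtain ⟨⟨t, ht⟩, ht1⟩ := exists_ne (1 : A)
    have h1 : t • c • b = c • b := by
      rw [← mul_smul, Subgroup.mem_centralizer_iff.1 hc.2 t ht, mul_smul, (L.fix t ht).2]
    rcases X.torus_fix hs L ht (fun h => ht1 (Subtype.ext h)) h1 with h | h
    · exact absurd (MulAction.injective c (h.trans hca.symm)) L.ne.symm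
    · exact h
  have huC : u ∈ C := by
    rw [hC]
    exact Subgroup.mem_inf.2 ⟨X.invol_mem_cHull L.invol L.fix_a,
      Subgroup.mem_centralizer_iff.2 fun t ht => (commute_of_mem_lgen (L.le ht)).eq⟩
  have horb : orb C T = F := by
    ext Y
    rw [hF]
    constructor
    · rintro ⟨c, hc, rfl⟩
      rw [hC] at hc
      refine ⟨W.sylow.smul (Grp.conj_smul_eq_self_of_mem hc.1), fun t ht => ?_⟩
      rw [Grp.mem_normalizer_iff_smul]
      show MulAut.conj t • MulAut.conj c • T = MulAut.conj c • T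
      rw [Grp.conj_smul_conj_smul, Subgroup.mem_centralizer_iff.1 hc.2 t ht, ← Grp.conj_smul_conj_smul,
        Grp.normalizer_le_smul W.norm ht]
    · rintro ⟨hY, hYA⟩
      obtain ⟨c, hc, hcY⟩ := Grp.invariant_sylow_conj A (cHull Z a) hAn (X.coprime_torus_cHull hs L)
        (Or.inl (isSolvable_of_comm fun s t => Subtype.ext (L.comm s s.2 t t.2))) W.sylow hY W.norm hYA
      exact ⟨c, hC ▸ hc, hcY⟩
  have hodd : ¬ 2 ∣ Nat.card F := by
    obtain ⟨m, hm, hK⟩ := X.card_cPair hs L W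
    intro hd
    have h1 := ncard_orb_mul C T
    rw [horb, ← Nat.card_coe_set_eq] at h1
    have h2 : 2 ∣ Nat.card ↥(C ⊓ MulAction.stabilizer G T) := by
      have hust : u ∈ C ⊓ MulAction.stabilizer G T :=
        Subgroup.mem_inf.2 ⟨huC, mem_stabilizer_iff.2 (Grp.conj_smul_eq_self_of_mem W.mem)⟩
      exact L.invol ▸ Subgroup.orderOf_mk u hust ▸ orderOf_dvd_natCard (⟨u, hust⟩ : ↥(C ⊓ MulAction.stabilizer G T))
    have h3 : 2 * 2 ∣ 2 * m := hK ▸ (h1 ▸ mul_dvd_mul hd h2).trans (Subgroup.card_dvd_of_le hCK)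
    exact Nat.not_even_iff_odd.2 hm (even_iff_two_dvd.2 ((Nat.mul_dvd_mul_iff_left two_pos).1 h3))
  letI : MulAction P F :=
    { smul := fun s Y => ⟨(s : G) • (Y : Subgroup G), by
        obtain ⟨Y, hY⟩ := Y
        show (s : G) • Y ∈ F
        rw [hF] at hY ⊢
        refine ⟨hY.1.smul (Grp.normalizer_le_smul hPn s.2), fun t ht => ?_⟩
        rw [Grp.mem_normalizer_iff_smul]
        show MulAut.conj t • MulAut.conj (s : G) • Y = MulAut.conj (s : G) • Y
        have ht' : (s : G)⁻¹ * t * s ∈ A := by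
          have := conj_mem_normalizer (inv_mem (hPA s s.2)) ht
          rwa [inv_inv] at this
        rw [Grp.conj_smul_conj_smul, show t * (s : G) = s * ((s : G)⁻¹ * t * s) by group,
          ← Grp.conj_smul_conj_smul, Grp.normalizer_le_smul hY.2 ht']⟩
      one_smul := fun Y => Subtype.ext (one_smul G (Y : Subgroup G))
      mul_smul := fun s t Y => Subtype.ext (mul_smul (s : G) (t : G) (Y : Subgroup G)) }
  obtain ⟨⟨Y, hY⟩, hfix⟩ := hP.nonempty_fixed_point_of_prime_not_dvd_card F hodd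
  rw [hF] at hY
  have hPY : P ≤ normalizer (Y : Set G) := fun s hs' =>
    Grp.mem_normalizer_iff_smul.2 (congrArg Subtype.val (hfix ⟨s, hs'⟩))
  refine ⟨Y, ⟨hY.1, hY.2, ?_⟩, hPY⟩
  have hu2 : IsPGroup 2 (Subgroup.zpowers u) := hP.to_le (Subgroup.zpowers_le.2 hu)
  have h := hY.1.eq_of_le le_sup_left (sup_le hY.1.1 (Subgroup.zpowers_le.2 (X.invol_mem_cHull L.invol L.fix_a)))
    (hY.1.2.1.to_sup_of_normal_left' hu2 (Subgroup.zpowers_le.2 (hPY hu)))
  rw [h]
  exact Subgroup.mem_sup_right (Subgroup.mem_zpowers u)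

/-- The orbit of `q ^ 3` points does not occur. -/
theorem false_of_cube (hs : Short Z Ω) (L : LineSetup Z u a b A)
    (ho : (orb (cHull Z a) b).ncard = Nat.card (el Z a) ^ 3) : False := by
  classical
  haveI : Fact (Nat.Prime 2) := ⟨Nat.prime_two⟩
  haveI := X.hyp.finite_points
  obtain ⟨T₀, W₀⟩ := X.exists_lineTwo hs L
  -- a Sylow subgroup of the pair stabiliser with the involution
  obtain ⟨S, hS, huS⟩ : ∃ S, Grp.IsSylowIn 2 S (pairStab G a b) ∧ u ∈ S := by
    have hu2 : IsPGroup 2 (Subgroup.zpowers u) := IsPGroup.of_card (n := 1) (by rw [Nat.card_zpowers, L.invol, pow_one])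
    obtain ⟨P, hP⟩ := (hu2.comap_subtype (K := pairStab G a b)).exists_le_sylow
    refine ⟨_, Grp.isSylowIn_iff.2 ⟨P, rfl⟩, ⟨⟨u, mem_pair.2 ⟨L.fix_a, L.fix_b⟩⟩, hP ?_, rfl⟩⟩
    exact Subgroup.mem_zpowers u
  obtain ⟨T, W, hST⟩ := X.exists_lineTwo_norm hs L W₀ hS.2.1 hS.1 huS
  obtain ⟨M, hM⟩ : ∃ M, M = trLarge Z a b A T := ⟨_, rfl⟩
  have hfix : ∀ s ∈ S, s • a = a ∧ s • b = b := fun s hs' => mem_pair.1 (hS.1 hs')
  have hline : ∀ s ∈ S, ∀ g ∈ lineTwo Z a b T, s * g * s⁻¹ ∈ lineTwo Z a b T := by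
    intro s hs' g hg
    obtain ⟨hsa, hsb⟩ := hfix s hs'
    obtain ⟨hgT, e, he, hge⟩ := (X.mem_lineTwo W L.ne.symm).1 hg
    refine (X.mem_lineTwo W L.ne.symm).2 ⟨conj_mem_normalizer (hST hs') hgT, s * e * s⁻¹, X.conj_el hsa he, ?_⟩
    rw [mul_smul, mul_smul, mul_smul, mul_smul, inv_smul_eq_iff.2 hsb.symm, hge]
  have hfamS : ∀ s ∈ S, ∀ g ∈ famTwo Z a b T, s * g * s⁻¹ ∈ famTwo Z a b T := by
    intro s hs' g hg
    have hsn : s ∈ normalizer (lineTwo Z a b T : Set G) :=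
      Subgroup.mem_normalizer_iff.2 fun x => ⟨hline s hs' x, fun hx => by
        have := hline s⁻¹ (inv_mem hs') _ hx
        rwa [show s⁻¹ * (s * x * s⁻¹) * s⁻¹⁻¹ = x by group] at this⟩
    exact Subgroup.mem_inf.2 ⟨conj_mem_normalizer (hST hs') hg.1, mul_mem (mul_mem hsn hg.2) (inv_mem hsn)⟩
  have hSA : ∀ s ∈ S, s ∈ normalizer (A : Set G) := fun s hs' =>
    X.norm_torus L (X.pgroup_commute hs L W hS.2.1 hS.1 huS hs') (hfix s hs').1 (hfix s hs').2
  have hSM : ∀ s ∈ S, ∀ m ∈ M, s * m * s⁻¹ ∈ M := fun s hs' => by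
    have hle : M ≤ M.comap (MulAut.conj s).toMonoidHom := by
      rw [hM]
      refine sup_le (fun v hv => Subgroup.mem_sup_left
        (X.conj_trTwo hs L W (hfix s hs').1 (hfamS s hs') hv)) ((Subgroup.commutator_le).2 fun g hg t ht => ?_)
      show s * ⁅g, t⁆ * s⁻¹ ∈ trLarge Z a b A T
      rw [show s * ⁅g, t⁆ * s⁻¹ = ⁅s * g * s⁻¹, s * t * s⁻¹⁆ by simp only [commutatorElement_def]; group]
      exact Subgroup.mem_sup_right (Subgroup.commutator_mem_commutator (conj_mem_normalizer (hST hs') hg)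
        (conj_mem_normalizer (hSA s hs') ht))
    exact hle
  have hSn : S ≤ normalizer (M : Set G) := fun s hs' => Subgroup.mem_normalizer_iff.2 fun x => ⟨hSM s hs' x, fun hx => by
    have := hSM s⁻¹ (inv_mem hs') _ hx
    rwa [show s⁻¹ * (s * x * s⁻¹) * s⁻¹⁻¹ = x by group] at this⟩
  have hMT : M ≤ T := hM ▸ X.trLarge_le hs L W
  obtain ⟨U, hU⟩ : ∃ U, U = M ⊔ S := ⟨_, rfl⟩
  have hSU : S ≤ U := hU ▸ le_sup_right
  have hMU : M ≤ U := hU ▸ le_sup_left
  have hTU : T ≤ U := fun g hg => by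
    obtain ⟨m, hm, rfl | rfl⟩ := X.trLarge_decomp hs L W hg
    · exact hMU (hM ▸ hm)
    · exact mul_mem (hMU (hM ▸ hm)) (hSU huS)
  have hTa : T ≤ stabilizer G a := fun g hg => mem_stabilizer_iff.2 (mem_cHull.1 (W.sylow.1 hg)).1
  have hUa : U ≤ stabilizer G a := hU ▸ sup_le (hMT.trans hTa) (hS.1.trans inf_le_left)
  have hUp : IsPGroup 2 U := hU ▸ (W.sylow.2.1.to_le hMT).to_sup_of_normal_left' hS.2.1 hSn
  have hUT : ∀ g ∈ U, g ∈ cHull Z a → g ∈ T := fun g hg hgH => by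
    have h := W.sylow.eq_of_le (le_inf hTU W.sylow.1) inf_le_right (hUp.to_le inf_le_left)
    rw [h]
    exact Subgroup.mem_inf.2 ⟨hg, hgH⟩
  -- it is a Sylow subgroup of the point stabiliser
  have hall : orb T b = {a}ᶜ := by
    rw [X.orb_two hs L W]
    exact Set.eq_of_subset_of_ncard_le
      (fun z hz (h : z = a) => X.notMem_orb L.ne.symm (h ▸ hz)) (by
        rw [ho, Set.ncard_compl, Set.ncard_singleton, X.card_points hs L.invol L.notMem L.fix_a]
        omega) (Set.toFinite _)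
  have horb : ∀ H : Subgroup G, T ≤ H → H ≤ stabilizer G a → orb H b = {a}ᶜ := fun H h1 h2 => by
    refine Set.Subset.antisymm ?_ (hall ▸ fun x ⟨m, hm, hmx⟩ => ⟨m, h1 hm, hmx⟩)
    rintro x ⟨m, hm, rfl⟩ (h : m • b = a)
    exact L.ne.symm (MulAction.injective m (h.trans (mem_stabilizer_iff.1 (h2 hm)).symm))
  have hSU' : U ⊓ stabilizer G b = S :=
    (hS.eq_of_le (le_inf hSU (hS.1.trans inf_le_right)) (inf_le_inf_right _ hUa) (hUp.to_le inf_le_left)).symm
  have hsyl : Grp.IsSylowIn 2 U (stabilizer G a) := by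
    refine ⟨hUa, hUp, ?_⟩
    have h1 := ncard_orb_mul U b
    have h2 := ncard_orb_mul (stabilizer G a) b
    have h3 := Subgroup.card_mul_index (U.subgroupOf (stabilizer G a))
    have h4 := Subgroup.card_mul_index (S.subgroupOf (pairStab G a b))
    rw [Nat.card_congr (Subgroup.subgroupOfEquivOfLe hUa).toEquiv, ← h1, ← h2, hSU', horb U hTU hUa,
      horb _ hTa le_rfl, show stabilizer G a ⊓ stabilizer G b = pairStab G a b from rfl, ← h4,
      Nat.card_congr (Subgroup.subgroupOfEquivOfLe hS.1).toEquiv, mul_assoc] at h3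
    have h5 := Nat.eq_of_mul_eq_mul_left ((Set.ncard_pos (Set.toFinite _)).2
      (show ({a}ᶜ : Set Ω).Nonempty from ⟨b, L.ne.symm⟩)) h3
    have h6 := Nat.eq_of_mul_eq_mul_left Nat.card_pos h5
    exact fun h => hS.2.2 (by rw [Subgroup.relIndex, ← h6]; exact h)
  -- abelian modulo `M`
  haveI : (M.subgroupOf U).Normal := ⟨fun m hm g => by
    rw [Subgroup.mem_subgroupOf] at hm ⊢
    exact conj_mem_normalizer ((hU ▸ sup_le le_normalizer hSn : U ≤ normalizer (M : Set G)) g.2) hm⟩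
  have hrep : ∀ x : U, ∃ s : U, (s : G) ∈ S ∧
      (QuotientGroup.mk x : U ⧸ M.subgroupOf U) = QuotientGroup.mk s := by
    rintro ⟨x, hx⟩
    have hx' : x ∈ ((M ⊔ S : Subgroup G) : Set G) := hU ▸ hx
    rw [Subgroup.coe_mul_of_right_le_normalizer_left M S hSn] at hx'
    obtain ⟨m, hm, s, hs', rfl⟩ := hx'
    refine ⟨⟨s, hSU hs'⟩, hs', QuotientGroup.eq.2 (Subgroup.mem_subgroupOf.2 ?_)⟩
    show (m * s)⁻¹ * s ∈ M
    rw [show (m * s)⁻¹ * s = s⁻¹ * m⁻¹ * s⁻¹⁻¹ by group]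
    exact hSM _ (inv_mem hs') _ (inv_mem hm)
  letI : CommGroup (U ⧸ M.subgroupOf U) :=
    { (inferInstance : Group (U ⧸ M.subgroupOf U)) with
      mul_comm := fun p r => by
        induction p using QuotientGroup.induction_on with
        | _ x =>
        induction r using QuotientGroup.induction_on with
        | _ y =>
          obtain ⟨s, hs', h1⟩ := hrep x
          obtain ⟨t, ht', h2⟩ := hrep y
          rw [h1, h2, ← QuotientGroup.mk_mul, ← QuotientGroup.mk_mul]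
          exact congrArg _ (Subtype.ext (X.pgroup_comm hs L W hS.2.1 hS.1 huS s hs' t ht').eq) }
  obtain ⟨g, hg, hgU, hne⟩ := X.hyp.exists_fused_value X.gen (X.four a) hUa hsyl
    (QuotientGroup.mk' (M.subgroupOf U)) L.invol (hSU huS) (fun h => X.trLarge_notMem hs L W ho
      (hM ▸ Subgroup.mem_subgroupOf.1 ((QuotientGroup.eq_one_iff _).1 h)))
  have hga := mem_stabilizer_iff.1 hg
  have hi2 : orderOf (g⁻¹ * u * g) = 2 := by
    have h := (MulAut.conj g⁻¹).orderOf_eq u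
    rwa [MulAut.conj_apply, inv_inv, L.invol] at h
  have hiZ : g⁻¹ * u * g ∉ Z := fun h => L.notMem (by
    have := X.hyp.conj_mem g _ h
    rwa [show g * (g⁻¹ * u * g) * g⁻¹ = u by group] at this)
  have hiT : g⁻¹ * u * g ∈ T := hUT _ hgU (X.invol_mem_cHull hi2
    (by rw [mul_smul, mul_smul, hga, L.fix_a, inv_smul_eq_iff, hga]))
  obtain ⟨h, hh, hhu⟩ := X.exists_conj_invol hs L W ho hiT hi2 hiZ
  refine hne ?_
  rw [show (⟨g⁻¹ * u * g, hgU⟩ : U) = ⟨h, hTU hh⟩ * ⟨u, hSU huS⟩ * ⟨h, hTU hh⟩⁻¹ from Subtype.ext hhu,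
    map_mul, map_mul, map_inv, mul_inv_cancel_comm]

end Setting

end Cfsg.Agent.Invol.Aschbacher.Last
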