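import Cfsg.Agent.Lib.Invol.Aschbacher.Last.LineStart
import Cfsg.Agent.Lib.Invol.Aschbacher.Last.LineLarge
import Cfsg.Agent.Lib.Invol.Aschbacher.Last.LineBlocks
import Cfsg.Agent.Lib.Invol.Aschbacher.Last.Final

/-!
# The first of the last cases does not occur

An outside involution with `q` other fixed points has a short line with a torus, and `cHull` would have orbits of
`q ^ 2` or of `q ^ 3` points.
-/

set_option autoImplicit false
set_option linter.unusedSectionVars false

namespace Cfsg.Agent.Invol.Aschbacher.Last

open MulAction Subgroup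

universe u

/-- The first case is impossible. -/
theorem noCase_one : NoCase.{u} 1 := by
  intro G Ω _ _ _ Z X hk
  obtain ⟨w, hw, hwZ⟩ := X.exists_out
  obtain ⟨a, ha⟩ := X.hyp.exists_fix_invol hw
  obtain ⟨b, hb, hba⟩ := X.exists_fix_ne hw hwZ a
  obtain ⟨A, L⟩ := X.exists_lineSetup hk hw hwZ hba.symm ha hb
  have hs := X.short_of_othersPow hk
  rcases X.orb_cases hs L with ho | ho
  · obtain ⟨n, hn, hq⟩ := X.exists_card_el a
    rcases Nat.even_or_odd n with ⟨m, hm⟩ | hodd
    · exact X.false_of_square_even hs L ho (m := m) (by rw [hq, hm, two_mul])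
    · exact X.false_of_square_odd hs L ho hodd hq
  · exact X.false_of_cube hs L ho

end Cfsg.Agent.Invol.Aschbacher.Last
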