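import Cfsg.Agent.Lib.Invol.Aschbacher.Last.SzCount
import Cfsg.Agent.Lib.Invol.Aschbacher.Last.Final
import Cfsg.Agent.Lib.Invol.ZStar
import Cfsg.Agent.Lib.Grp.OddSquareDet

/-!
# The case of order `q ^ 2` cannot occur

In the centraliser of the members at a point, an outside involution is isolated modulo the members, so by Glauberman's
theorem the elements of odd order form an abelian group which it inverts.  This group has `q ^ 2 - q + 1` elements, no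
square, so a point stabiliser has a linear character that sees the involution.
-/

set_option autoImplicit false
set_option linter.unusedSectionVars false
set_option linter.style.haveILetI false

namespace Cfsg.Agent.Invol.Aschbacher.Last

open MulAction Subgroup
open scoped Pointwise
open Cfsg.Agent.Invol.Bender (pairStab mem_pair conj_smul_smul)

universe u

variable {G : Type u} [Group G] [Finite G] {Ω : Type u} [MulAction G Ω] {Z : Set G}

omit [Finite G] in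
theorem eq_one_of_odd_of_sq {g : G} (hodd : Odd (orderOf g)) (h : g * g = 1) : g = 1 := by
  obtain ⟨k, hk⟩ := hodd
  calc g = g ^ (2 * k + 1) * ((g * g) ^ k)⁻¹ := by
        rw [pow_succ, pow_mul, pow_two, h, one_pow, inv_one, one_mul, mul_one]
    _ = 1 := by rw [← hk, pow_orderOf_eq_one, h, one_pow, inv_one, one_mul]

theorem commute_of_comm_mem_el {a : Ω} (X : Setting G Ω Z) {g h : G} (hg : g ∈ cHull Z a)
    (hho : Odd (orderOf h)) (he : g * h * g⁻¹ * h⁻¹ ∈ el Z a) (hh : h ∈ cHull Z a) : Commute g h := by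
  obtain ⟨e, hee⟩ : ∃ e, e = g * h * g⁻¹ * h⁻¹ := ⟨_, rfl⟩
  rw [← hee] at he
  have h1 : g * h * g⁻¹ = e * h := by rw [hee]; group
  have h2 : e ^ orderOf h = 1 := by
    have h3 : (g * h * g⁻¹) ^ orderOf h = 1 := by rw [conj_pow, pow_orderOf_eq_one, mul_one, mul_inv_cancel]
    rwa [h1, (el_commute hh he).mul_pow, pow_orderOf_eq_one, mul_one] at h3
  obtain ⟨k, hk⟩ := hho
  rw [hk, pow_succ, pow_mul, pow_two, X.el_sq he, one_pow, one_mul] at h2
  show g * h = h * g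
  calc g * h = g * h * g⁻¹ * g := by group
    _ = h * g := by rw [h1, h2, one_mul]

namespace SzPair

variable {u : G} {a b : Ω} {Q J : Subgroup G} (X : SzPair Z u a b Q J)
include X

theorem mem_pCen_iff {g : G} : g ∈ pCen Z a b u ↔ g ∈ modEl Z a u ∧ g • b = b := by
  refine ⟨fun hg => ⟨cenAt_le_modEl a u (X.pCen_le_cen hg), (mem_cPair.1 (mem_pCen.1 hg).1).2.1⟩, fun hg => ?_⟩
  exact X.le_pCen (Y := modEl Z a u ⊓ cPair Z a b) (X.modEl_pGroup.to_le inf_le_left) inf_le_right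
    ⟨cenAt_le_modEl a u X.u_mem_cen, X.u_mem⟩
    ⟨hg.1, mem_cPair.2 ⟨(mem_cHull.1 hg.1.1).1, hg.2, (mem_cHull.1 hg.1.1).2⟩⟩

theorem exists_el_ne_one : ∃ e ∈ el Z a, e ≠ 1 := by
  by_contra h
  push Not at h
  have h1 : el Z a = ⊥ := (Subgroup.eq_bot_iff_forall _).2 h
  have h4 := X.four_le
  rw [h1, Subgroup.card_bot] at h4
  omega

/-- An element of odd prime order moving `u` to another involution of the pair centraliser cannot exist. -/
theorem no_mover {r : G} {ℓ : ℕ} (hℓ : ℓ.Prime) (hℓ2 : ℓ ≠ 2) (hr : r ∈ cPair Z a b) (hro : orderOf r = ℓ)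
    (hrP : ∀ p ∈ pCen Z a b u, r * p * r⁻¹ ∈ pCen Z a b u) (hrT : ∀ t ∈ modEl Z a u, r * t * r⁻¹ ∈ modEl Z a u)
    (hfpf : ∀ p ∈ pCen Z a b u, p * p = 1 → Commute r p → p = 1) : False := by
  classical
  haveI := X.set.faithful
  have hu1 := (orderOf_two_iff.1 X.invol).2
  have huu := mul_self_of_orderOf_two X.invol
  obtain ⟨x, hx⟩ : ∃ x, x = r * u * r⁻¹ := ⟨_, rfl⟩
  have hxP : x ∈ pCen Z a b u := hx ▸ hrP u X.u_mem_pCen
  have hx2 : orderOf x = 2 := by rw [hx, orderOf_conj_eq]; exact X.invol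
  have hxu : x ≠ u := fun h => hu1 (hfpf u X.u_mem_pCen huu (mul_inv_eq_iff_eq_mul.1 (hx ▸ h)))
  have hrH := cPair_le_cHull _ _ hr
  rcases X.modEl_cases with hTC | hall
  · obtain ⟨e, he, he1⟩ := X.exists_el_ne_one
    have heH := X.set.sz_el_le_cHull a he
    have hwa : (e * u) • a = a := by rw [mul_smul, X.fixA, (mem_cHull.1 heH).1]
    have hne : e * u ∉ el Z a := fun h => X.pair_notMem_el X.u_mem hu1 (by
      simpa using mul_mem (inv_mem he) h)
    have hw2 : orderOf (e * u) = 2 := orderOf_two_iff.2 ⟨by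
      rw [(el_commute X.u_hull he).symm.mul_mul_mul_comm, X.el_mul_self he, huu, one_mul], fun h => hne (by
      rw [h]; exact one_mem _)⟩
    have hwZ : e * u ∉ Z := fun h => hne (X.set.mem_el.2 (Or.inr ⟨h, hwa⟩))
    obtain ⟨c, hc, hca⟩ := X.set.hyp.exists_other_fix hw2 hwZ a
    obtain ⟨Q', J', X'⟩ := X.set.exists_szPair X.pow hw2 hwZ hca.symm hwa hc
    have hS : modEl Z a (e * u) = cenAt Z a (e * u) := by rw [modEl_el_mul he heH, cenAt_el_mul he, hTC]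
    have hconj : r * (e * u) * r⁻¹ = e * x := by
      rw [hx]
      calc r * (e * u) * r⁻¹ = r * e * (u * r⁻¹) := by group
        _ = e * (r * u * r⁻¹) := by rw [← (el_commute hrH he).eq]; group
    have hmem : r * (e * u) * r⁻¹ ∈ cenAt Z a (e * u) := by
      rw [hconj, cenAt_el_mul he]; exact mul_mem (X.el_le_cen he) (X.pCen_le_cen hxP)
    have hc' : (e * x) • c = c := by
      have h1 := (mem_cPair.1 (mem_pCen.1 (X'.conj_mem_pCen_of_eq hS hrH hmem)).1).2.1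
      rwa [hconj] at h1
    have hxuc : (x * u) • c = c := by
      have h1 : ((e * x) * (e * u)) • c = c := by rw [mul_smul, hc, hc']
      rwa [(el_commute (cPair_le_cHull _ _ (mem_pCen.1 hxP).1) he).symm.mul_mul_mul_comm, X.el_mul_self he,
        one_mul] at h1
    have huc : u • c = c := (X.fixed_eq (mul_mem (mem_pCen.1 hxP).1 X.u_mem) (fun h => hxu (by
      rw [mul_eq_one_iff_eq_inv.1 h, inv_eq_of_mul_eq_one_right huu])) c).1 hxuc
    rw [mul_smul, huc] at hc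
    exact he1 (X.set.el_semiregular hca he hc)
  · obtain ⟨e, he, he1⟩ := X.exists_el_ne_one
    obtain ⟨v, hv, hd⟩ := hall e he
    have hvC : v ∉ cenAt Z a u := fun h => he1 (by
      rw [← hd, (mem_cenAt.1 h).2.eq, mul_inv_cancel_right, mul_inv_cancel])
    have hv' := hrT v hv
    obtain ⟨d', hd'⟩ : ∃ d', d' = r * v * r⁻¹ * u * (r * v * r⁻¹)⁻¹ * u⁻¹ := ⟨_, rfl⟩
    have hd'el : d' ∈ el Z a := hd' ▸ hv'.2
    have hx1 : r * v * r⁻¹ * x * (r * v * r⁻¹)⁻¹ = e * x := by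
      rw [hx, ← hd]
      calc r * v * r⁻¹ * (r * u * r⁻¹) * (r * v * r⁻¹)⁻¹ = r * (v * u * v⁻¹ * u⁻¹) * u * r⁻¹ := by group
        _ = _ := by rw [← (el_commute hrH hv.2).eq]; group
    have hd'1 : d' ≠ 1 := fun h => hvC (by
      have h1 : r * v * r⁻¹ ∈ cenAt Z a x := by
        rw [X.cen_eq hxP hx2]
        exact mem_cenAt.2 ⟨hv'.1, mul_inv_eq_iff_eq_mul.1 (mul_inv_eq_one.1 (hd' ▸ h))⟩
      have h2 := X.set.conj_cenAt (inv_smul_eq_iff.2 (mem_cPair.1 hr).1.symm) h1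
      rw [hx] at h2
      rwa [show r⁻¹ * (r * u * r⁻¹) * r⁻¹⁻¹ = u by group, show r⁻¹ * (r * v * r⁻¹) * r⁻¹⁻¹ = v by group] at h2)
    obtain ⟨j, hj, hje⟩ := X.data.j_trans _ (X.el_ne_one he he1) _ (X.el_ne_one hd'el hd'1)
    have hj1 : j ≠ 1 := fun h => by
      rw [h, one_mul, inv_one, mul_one] at hje
      have hp := mul_mem hxP X.u_mem_pCen
      have hpp := X.pCen_sq hv hvC hp
      refine hvC ?_
      have hp1 : x * u ≠ 1 := fun h => hxu (by rw [mul_eq_one_iff_eq_inv.1 h, inv_eq_of_mul_eq_one_right huu])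
      have h1 : r * v * r⁻¹ ∈ cenAt Z a (x * u) := by
        refine mem_cenAt.2 ⟨hv'.1, ?_⟩
        refine mul_inv_eq_iff_eq_mul.1 ?_
        have h2 : r * v * r⁻¹ * u * (r * v * r⁻¹)⁻¹ = e * u := by rw [hje, hd', inv_mul_cancel_right]
        calc r * v * r⁻¹ * (x * u) * (r * v * r⁻¹)⁻¹ = r * v * r⁻¹ * x * (r * v * r⁻¹)⁻¹ *
              (r * v * r⁻¹ * u * (r * v * r⁻¹)⁻¹) := by group
          _ = x * u := by
            rw [hx1, h2, (el_commute (cPair_le_cHull _ _ (mem_pCen.1 hxP).1) he).symm.eq.symm, mul_assoc x,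
              ← mul_assoc e, X.el_mul_self he, one_mul]
      rw [X.cen_eq hp (orderOf_two_iff.2 ⟨hpp, hp1⟩)] at h1
      exact absurd (hd' ▸ (by rw [(mem_cenAt.1 h1).2.eq, mul_inv_cancel_right, mul_inv_cancel] :
        r * v * r⁻¹ * u * (r * v * r⁻¹)⁻¹ * u⁻¹ = 1)) hd'1
    obtain ⟨g, hg⟩ : ∃ g, g = j⁻¹ * r := ⟨_, rfl⟩
    have hjr : Commute j r := X.j_commute_pair hj hr
    have hgC : ∀ c ∈ cenAt Z a u, g * c * g⁻¹ ∈ cenAt Z a u := fun c hc => by
      obtain ⟨y, hy, p, hp, rfl⟩ := X.mem_cen.1 hc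
      refine X.mem_cen.2 ⟨j⁻¹ * y * j⁻¹⁻¹, X.data.q_conj _ (commute_of_mem_lgen (X.j_mem hj)).inv_left
        (inv_smul_eq_iff.2 (X.j_fixA hj).symm) y hy, r * p * r⁻¹, hrP p hp, ?_⟩
      calc g * (y * p) * g⁻¹ = j⁻¹ * (r * y) * p * r⁻¹ * j := by rw [hg]; group
        _ = j⁻¹ * y * (r * p * r⁻¹ * j) := by rw [← (X.commute_q hy hr).eq]; group
        _ = _ := by rw [← (X.j_commute_pair hj (mem_pCen.1 (hrP p hp)).1).eq]; group
    have hcfix : ∀ c ∈ cenAt Z a u, g * c * g⁻¹ = c → c * c = 1 → c = 1 := fun c hc hfix hcc => by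
      obtain ⟨y, hy, p, hp, hpp, rfl⟩ := X.invol_cen hc hcc
      have hyQ := X.data.el_le hy
      have h1 : g * (y * p) * g⁻¹ = j⁻¹ * y * j⁻¹⁻¹ * (r * p * r⁻¹) := by
        calc g * (y * p) * g⁻¹ = j⁻¹ * (r * y) * p * r⁻¹ * j := by rw [hg]; group
          _ = j⁻¹ * y * (r * p * r⁻¹ * j) := by rw [← (X.commute_q hyQ hr).eq]; group
          _ = _ := by rw [← (X.j_commute_pair hj (mem_pCen.1 (hrP p hp)).1).eq]; group
      obtain ⟨h2, h3⟩ := X.prod_inj (X.data.q_conj _ (commute_of_mem_lgen (X.j_mem hj)).inv_left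
        (inv_smul_eq_iff.2 (X.j_fixA hj).symm) y hyQ) hyQ (mem_pCen.1 (hrP p hp)).1 (mem_pCen.1 hp).1
        (h1.symm.trans hfix)
      have hp1 : p = 1 := hfpf p hp hpp (mul_inv_eq_iff_eq_mul.1 h3)
      have hy1 : y = 1 := by
        by_contra h
        exact hj1 (inv_eq_one.1 (X.j_eq_one_of_commute (inv_mem hj) hy h (mul_inv_eq_iff_eq_mul.1 h2)))
      rw [hp1, hy1, one_mul]
    obtain ⟨S, hS⟩ : ∃ S : Set G, S = {w | w ∈ modEl Z a u ∧ w * u * w⁻¹ * u⁻¹ = e} := ⟨_, rfl⟩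
    have hvS : v ∈ S := hS ▸ ⟨hv, hd⟩
    have hrvS : g * v * g⁻¹ ∈ S := by
      have hji : j⁻¹ ∈ J := inv_mem hj
      have hgv : g * v * g⁻¹ = j⁻¹ * (r * v * r⁻¹) * j⁻¹⁻¹ := by rw [hg]; group
      refine hS ▸ ⟨hgv ▸ X.j_conj_modEl hji hv', ?_⟩
      rw [hgv, X.j_comm_conj hji X.u_mem, ← hd', ← hje]
      group
    have hcoset : ∀ w ∈ S, v⁻¹ * w ∈ cenAt Z a u := fun w hw => by
      rw [hS] at hw
      refine mem_cenAt.2 ⟨mul_mem (inv_mem hv.1) hw.1.1, ?_⟩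
      have h1 : v * u * v⁻¹ = w * u * w⁻¹ := mul_right_cancel (hd.trans hw.2.symm)
      show v⁻¹ * w * u = u * (v⁻¹ * w)
      calc v⁻¹ * w * u = v⁻¹ * (w * u * w⁻¹) * w := by group
        _ = v⁻¹ * (v * u * v⁻¹) * w := by rw [h1]
        _ = u * (v⁻¹ * w) := by group
    have hSmem : ∀ w ∈ S, ∀ c ∈ cenAt Z a u, w * c ∈ S := fun w hw c hc => by
      rw [hS] at hw ⊢
      refine ⟨mul_mem hw.1 (cenAt_le_modEl a u hc), ?_⟩
      rw [comm_mul hw.1 (cenAt_le_modEl a u hc), (mem_cenAt.1 hc).2.eq, mul_inv_cancel_right, mul_inv_cancel,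
        one_mul, hw.2]
    have hstep : ∀ w ∈ S, g * w * g⁻¹ ∈ S := fun w hw => by
      rw [show g * w * g⁻¹ = g * v * g⁻¹ * (g * (v⁻¹ * w) * g⁻¹) by group]
      exact hSmem _ hrvS _ (hgC _ (hcoset w hw))
    have hpow : ∀ n : ℕ, ∀ w ∈ S, g ^ n * w * (g ^ n)⁻¹ ∈ S := fun n => by
      induction n with
      | zero => intro w hw; simpa using hw
      | succ n ih =>
        intro w hw
        rw [show g ^ (n + 1) * w * (g ^ (n + 1))⁻¹ = g * (g ^ n * w * (g ^ n)⁻¹) * g⁻¹ by rw [pow_succ']; group]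
        exact hstep _ (ih w hw)
    have hgl : g ^ ℓ = 1 := by
      have h1 : g ^ ℓ = (j ^ ℓ)⁻¹ := by
        rw [hg, hjr.inv_left.mul_pow, ← hro, pow_orderOf_eq_one, mul_one, inv_pow]
      have hji : (j ^ ℓ)⁻¹ ∈ J := inv_mem (pow_mem hj ℓ)
      have h2 := hpow ℓ v hvS
      rw [hS, h1] at h2
      have h3 := h2.2
      rw [X.j_comm_conj hji X.u_mem, hd] at h3
      rw [h1]
      exact X.j_eq_one_of_commute hji he he1 (mul_inv_eq_iff_eq_mul.1 h3)
    have hg1 : g ≠ 1 := fun h => by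
      rw [hg] at h
      have : j = r := inv_mul_eq_one.1 h
      refine hu1 (hfpf u X.u_mem_pCen huu ?_)
      rw [← this]
      exact X.j_commute_pair hj X.u_mem
    haveI : Fact ℓ.Prime := ⟨hℓ⟩
    have hgo : orderOf g = ℓ := orderOf_eq_prime hgl hg1
    have hGp : IsPGroup ℓ (Subgroup.zpowers g) := IsPGroup.of_card (n := 1) (by rw [Nat.card_zpowers, hgo, pow_one])
    have hinv : ∀ h ∈ Subgroup.zpowers g, ∀ w ∈ S, h * w * h⁻¹ ∈ S := fun h hh => by
      obtain ⟨n, rfl⟩ := mem_powers_iff_mem_zpowers.2 hh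
      exact hpow n
    letI : MulAction (Subgroup.zpowers g) S :=
      { smul := fun h w => ⟨(h : G) * (w : G) * (h : G)⁻¹, hinv h h.2 w w.2⟩
        one_smul := fun w => Subtype.ext (show (1 : G) * w * (1 : G)⁻¹ = w by group)
        mul_smul := fun g h w => Subtype.ext (show ((g : G) * (h : G)) * w * ((g : G) * (h : G))⁻¹ =
          (g : G) * ((h : G) * w * (h : G)⁻¹) * (g : G)⁻¹ by group) }
    have hcard : Nat.card S = Nat.card (cenAt Z a u) := Nat.card_congr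
      { toFun := fun w => ⟨v⁻¹ * (w : G), hcoset w w.2⟩
        invFun := fun c => ⟨v * (c : G), hSmem v hvS c c.2⟩
        left_inv := fun w => Subtype.ext (mul_inv_cancel_left v _)
        right_inv := fun c => Subtype.ext (inv_mul_cancel_left v _) }
    haveI : Fact (Nat.Prime 2) := ⟨Nat.prime_two⟩
    obtain ⟨n, hn⟩ := X.cen_pGroup.exists_card_eq
    obtain ⟨⟨w, hw⟩, hwfix⟩ := hGp.nonempty_fixed_point_of_prime_not_dvd_card S (by
      rw [hcard, hn]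
      exact fun h => hℓ2 ((Nat.prime_dvd_prime_iff_eq hℓ Nat.prime_two).1 (hℓ.dvd_of_dvd_pow h)))
    have hgw : g * w * g⁻¹ = w := congrArg Subtype.val (hwfix ⟨g, Subgroup.mem_zpowers g⟩)
    rw [hS] at hw
    have hwwC : w * w ∈ cenAt Z a u := by
      refine mem_cenAt.2 ⟨mul_mem hw.1.1 hw.1.1, mul_inv_eq_iff_eq_mul.1 (mul_inv_eq_one.1 ?_)⟩
      rw [comm_mul hw.1 hw.1, hw.2, X.el_mul_self he]
    -- the square of the fixed element is an involution or trivial, and fixed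
    have hfix2 : ∀ k : ℕ, g * (w * w) ^ 2 ^ k * g⁻¹ = (w * w) ^ 2 ^ k := fun k => by
      rw [← conj_pow, show g * (w * w) * g⁻¹ = g * w * g⁻¹ * (g * w * g⁻¹) by group, hgw]
    have hex : ∃ k : ℕ, (w * w) ^ 2 ^ k = 1 :=
      (X.cen_pGroup ⟨_, hwwC⟩).imp fun k hk => congrArg Subtype.val hk
    have hww : w * w = 1 := by
      by_contra hne
      obtain ⟨i, hi⟩ := Nat.exists_eq_succ_of_ne_zero (show Nat.find hex ≠ 0 from fun h0 => hne (by
        have := Nat.find_spec hex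
        rwa [h0, pow_zero, pow_one] at this))
      refine Nat.find_min hex (show i < Nat.find hex by omega) (hcfix _ (pow_mem hwwC _) (hfix2 i) ?_)
      have := Nat.find_spec hex
      rw [hi, pow_succ, pow_mul, pow_two] at this
      exact this
    refine he1 ?_
    rw [← hw.2, (mem_cenAt.1 (X.no_fused hw.1 hww)).2.eq, mul_inv_cancel_right, mul_inv_cancel]

/-- The involution is isolated modulo the members. -/
theorem isolated {g : G} (hg : g ∈ cHull Z a) (h : g * u * g⁻¹ ∈ modEl Z a u) : g * u * g⁻¹ * u⁻¹ ∈ el Z a := by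
  classical
  have hu1 := (orderOf_two_iff.1 X.invol).2
  have hga := (mem_cHull.1 hg).1
  have hsq : g * u * g⁻¹ * (g * u * g⁻¹) = 1 := by
    rw [show g * u * g⁻¹ * (g * u * g⁻¹) = g * (u * u) * g⁻¹ by group, mul_self_of_orderOf_two X.invol]; group
  have hC := X.no_fused h hsq
  obtain ⟨e, he, x, hx, hxx, hex⟩ := X.invol_cen hC hsq
  by_contra hne
  have hxu : x ≠ u := fun hxu => hne (by rw [hex, hxu, mul_inv_cancel_right]; exact he)
  have hx1 : x ≠ 1 := fun hx1 => X.pair_notMem_el X.u_mem hu1 (by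
    rw [hx1, mul_one] at hex
    have h1 := X.set.el_conj (inv_smul_eq_iff.2 hga.symm) (hex ▸ he : g * u * g⁻¹ ∈ el Z a)
    rwa [show g⁻¹ * (g * u * g⁻¹) * g⁻¹⁻¹ = u by group] at h1)
  have hx2 := orderOf_two_iff.2 ⟨hxx, hx1⟩
  -- an element moving `u` to `x`
  obtain ⟨g', hg', hgx⟩ : ∃ g' ∈ cHull Z a, g' * u * g'⁻¹ = x := by
    rcases X.modEl_cases with hTC | hall
    · refine ⟨g, hg, ?_⟩
      have h1 := X.conj_mem_pCen_of_eq hTC hg hC
      rw [hex] at h1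
      obtain ⟨h2, -⟩ := X.prod_inj (X.data.el_le he) (one_mem Q) (mem_pCen.1 hx).1 (mem_pCen.1 h1).1
        (one_mul (e * x)).symm
      rw [hex, h2, one_mul]
    · obtain ⟨hxP, -⟩ := mem_pCen.1 hx
      obtain ⟨Q', J', X'⟩ := X.set.exists_szPair X.pow hx2 (X.pair_notMem hxP) X.ne (mem_cPair.1 hxP).1
        (mem_cPair.1 hxP).2.1
      obtain ⟨v, hv, hvx⟩ : ∃ v ∈ modEl Z a u, v * x * v⁻¹ * x⁻¹ = e := by
        rcases X'.modEl_cases with h' | h'
        · exfalso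
          obtain ⟨e', he', he1⟩ := X.exists_el_ne_one
          obtain ⟨v, hv, hvd⟩ := hall e' he'
          rw [← X.modEl_eq hx hx2, h', X.cen_eq hx hx2] at hv
          exact he1 (by rw [← hvd, (mem_cenAt.1 hv).2.eq, mul_inv_cancel_right, mul_inv_cancel])
        · exact (h' e he).imp fun v hv => ⟨X.modEl_eq hx hx2 ▸ hv.1, hv.2⟩
      refine ⟨v⁻¹ * g, mul_mem (inv_mem hv.1) hg, ?_⟩
      calc v⁻¹ * g * u * (v⁻¹ * g)⁻¹ = v⁻¹ * (g * u * g⁻¹) * v := by group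
        _ = v⁻¹ * (v * x * v⁻¹) * v := by rw [hex, ← hvx, inv_mul_cancel_right]
        _ = x := by group
  obtain ⟨hxP, -⟩ := mem_pCen.1 hx
  have hgb : u • g' • b = g' • b := (X.fixed_eq hxP hx1 _).1 (by rw [← hgx, conj_smul_smul, X.fixB])
  obtain ⟨y, hy, hyb⟩ :=
    X.data.q_trans _ hgb fun e' => X.ne (smul_left_cancel g' ((mem_cHull.1 hg').1.trans e'.symm))
  obtain ⟨k, hk⟩ : ∃ k, k = y⁻¹ * g' := ⟨_, rfl⟩
  have hkP : k ∈ cPair Z a b := hk ▸ mem_cPair.2 ⟨by rw [mul_smul, (mem_cHull.1 hg').1, inv_smul_eq_iff, X.q_fix hy],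
    by rw [mul_smul, ← hyb, inv_smul_smul],
    fun z hz => (X.data.central z (X.zAt_mem_el hz) y hy).inv_right.mul_right ((mem_cHull.1 hg').2 z hz)⟩
  have hkx : k * u * k⁻¹ = x := by
    calc k * u * k⁻¹ = y⁻¹ * (g' * u * g'⁻¹) * y := by rw [hk]; group
      _ = x := by rw [hgx, mul_assoc, ← (X.commute_q hy hxP).eq, inv_mul_cancel_left]
  have hka := (mem_cPair.1 hkP).1
  have hkT : ∀ t ∈ modEl Z a u, k * t * k⁻¹ ∈ modEl Z a u := fun t ht => by
    have h1 := X.set.conj_modEl hka ht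
    rwa [hkx, X.modEl_eq hx hx2] at h1
  have hkp : ∀ p ∈ pCen Z a b u, k * p * k⁻¹ ∈ pCen Z a b u := fun p hp => by
    obtain ⟨h1, h2⟩ := X.mem_pCen_iff.1 hp
    refine X.mem_pCen_iff.2 ⟨hkT p h1, ?_⟩
    have h3 := mem_cPair.1 (X.set.conj_cPair hka (mem_pCen.1 hp).1)
    rw [(mem_cPair.1 hkP).2.1] at h3
    exact h3.2.1
  have hkN : k ∈ normalizer (pCen Z a b u : Set G) := Subgroup.mem_normalizer_fintype hkp
  have hkNT : k ∈ normalizer (modEl Z a u : Set G) := Subgroup.mem_normalizer_fintype hkT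
  have hk0 : orderOf k ≠ 0 := (orderOf_pos k).ne'
  obtain ⟨ℓ, hℓ, hℓd, hℓ2⟩ : ∃ ℓ : ℕ, ℓ.Prime ∧ ℓ ∣ orderOf k ∧ ℓ ≠ 2 := by
    by_contra hall
    push Not at hall
    have h2 := Nat.eq_prime_pow_of_unique_prime_dvd hk0 (p := 2) fun {d} hd hdk => hall d hd hdk
    have hkc := X.mem_pCen_of_normalizes hkP (by rw [← h2]; exact pow_orderOf_eq_one k) hkN
    refine hxu ?_
    rw [← hkx, (mem_pCen.1 hkc).2.eq, mul_inv_cancel_right]
  obtain ⟨r, hr⟩ : ∃ r, r = k ^ (orderOf k / ℓ) := ⟨_, rfl⟩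
  have hro : orderOf r = ℓ := hr ▸ orderOf_pow_orderOf_div hk0 hℓd
  refine X.no_mover hℓ hℓ2 (hr ▸ pow_mem hkP _) hro (fun p hp => ?_) (fun t ht => ?_) fun p hp hpp hc => ?_
  · rw [hr]
    exact (Subgroup.mem_normalizer_iff.1 ((normalizer (pCen Z a b u : Set G)).pow_mem hkN _) p).1 hp
  · rw [hr]
    exact (Subgroup.mem_normalizer_iff.1 ((normalizer (modEl Z a u : Set G)).pow_mem hkNT _) t).1 ht
  · by_contra hp1
    obtain ⟨i, hi⟩ := X.two_pow_of_commute (mem_pCen.1 hp).1 (orderOf_two_iff.2 ⟨hpp, hp1⟩)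
      (hr ▸ pow_mem hkP _) hc
    have h3 := orderOf_dvd_of_pow_eq_one hi
    rw [hro] at h3
    exact hℓ2 ((Nat.prime_dvd_prime_iff_eq hℓ Nat.prime_two).1 (hℓ.dvd_of_dvd_pow h3))

/-- The elements of odd order form an abelian group inverted by `u`, a complement of the Sylow subgroup. -/
theorem exists_core : ∃ N : Subgroup G, (∀ g, g ∈ N ↔ g ∈ cHull Z a ∧ Odd (orderOf g)) ∧
    (∀ g ∈ N, ∀ h ∈ N, g * h = h * g) ∧ (∀ g ∈ N, u * g * u⁻¹ = g⁻¹) ∧
    Nat.card (cHull Z a) = Nat.card N * Nat.card (modEl Z a u) := by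
  classical
  haveI : Fact (Nat.Prime 2) := ⟨Nat.prime_two⟩
  obtain ⟨E, hE⟩ : ∃ E : Subgroup (cHull Z a), E = (el Z a).subgroupOf (cHull Z a) := ⟨_, rfl⟩
  haveI hEn : E.Normal := ⟨fun e he g => by
    rw [hE, Subgroup.mem_subgroupOf] at he ⊢
    show (g : G) * (e : G) * (g : G)⁻¹ ∈ el Z a
    exact X.set.el_conj (mem_cHull.1 g.2).1 he⟩
  have hmk : ∀ g h : cHull Z a,
      QuotientGroup.mk' E g = QuotientGroup.mk' E h ↔ (g : G)⁻¹ * h ∈ el Z a := fun g h => by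
    rw [QuotientGroup.mk'_eq_mk']
    refine ⟨fun ⟨z, hz, hzg⟩ => ?_, fun hgh => ⟨g⁻¹ * h, ?_, mul_inv_cancel_left g h⟩⟩
    · rw [hE, Subgroup.mem_subgroupOf] at hz
      rw [← hzg, Subgroup.coe_mul, inv_mul_cancel_left]
      exact hz
    · rw [hE, Subgroup.mem_subgroupOf]
      exact hgh
  obtain ⟨P₀, hP₀⟩ := Grp.isSylowIn_iff.1 X.modEl_isSylowIn
  have hP₀mem : ∀ g : cHull Z a, g ∈ (P₀ : Subgroup (cHull Z a)) ↔ (g : G) ∈ modEl Z a u := fun g => by
    rw [← hP₀]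
    exact ⟨fun hg => ⟨g, hg, rfl⟩, fun ⟨g', hg', he⟩ => Subtype.ext he ▸ hg'⟩
  let P : Sylow 2 (cHull Z a ⧸ E) := P₀.mapSurjective (QuotientGroup.mk'_surjective E)
  have hPmem : ∀ g : cHull Z a, QuotientGroup.mk' E g ∈ P ↔ (g : G) ∈ modEl Z a u := fun g => by
    refine ⟨fun hg => ?_, fun hg => ⟨g, (hP₀mem g).2 hg, rfl⟩⟩
    obtain ⟨p, hp, hpg⟩ := hg
    have h2 := mul_mem ((hP₀mem p).1 hp) (X.el_le_modEl ((hmk p g).1 hpg))
    rwa [mul_inv_cancel_left] at h2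
  obtain ⟨U, hU⟩ : ∃ U : cHull Z a, (U : G) = u := ⟨⟨u, X.u_hull⟩, rfl⟩
  obtain ⟨t, ht⟩ : ∃ t, t = QuotientGroup.mk' E U := ⟨_, rfl⟩
  have hu1 := (orderOf_two_iff.1 X.invol).2
  have ht2 : orderOf t = 2 := by
    rw [ht]
    refine orderOf_two_iff.2 ⟨?_, fun h => X.pair_notMem_el X.u_mem hu1 ?_⟩
    · rw [← map_mul, show U * U = 1 from Subtype.ext (by
        rw [Subgroup.coe_mul, hU, mul_self_of_orderOf_two X.invol, Subgroup.coe_one]), map_one]
    · have h1 := (hmk 1 U).1 (by rw [map_one, h])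
      simpa [hU] using h1
  have hcen : ∀ g : cHull Z a, Commute (QuotientGroup.mk' E g) t ↔ (g : G) ∈ modEl Z a u := fun g => by
    rw [ht, commute_iff_eq, ← map_mul, ← map_mul]
    refine ⟨fun h => ⟨g.2, ?_⟩, fun h => ((hmk (U * g) (g * U)).2 ?_).symm⟩
    · have h1 := X.set.el_conj (mem_cHull.1 (mul_mem X.u_hull g.2)).1 ((hmk (U * g) (g * U)).1 h.symm)
      simp only [Subgroup.coe_mul, hU] at h1
      rwa [show u * (g : G) * ((u * g)⁻¹ * ((g : G) * u)) * (u * g)⁻¹ = g * u * (g : G)⁻¹ * u⁻¹ by group] at h1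
    · simp only [Subgroup.coe_mul, hU]
      have h1 := X.set.el_conj
        (inv_smul_eq_iff.2 (mem_cHull.1 (mul_mem X.u_hull g.2)).1.symm : (u * (g : G))⁻¹ • a = a) h.2
      rwa [show (u * (g : G))⁻¹ * ((g : G) * u * (g : G)⁻¹ * u⁻¹) * (u * (g : G))⁻¹⁻¹ =
        (u * g)⁻¹ * ((g : G) * u) by group] at h1
  have hiso : IsIsolatedInvolution t := by
    refine ZStar.isIsolated_of_sylow (P := P) ?_ ht2 fun x hx => ?_
    · rw [ht]
      exact (hPmem U).2 (hU.symm ▸ cenAt_le_modEl a u X.u_mem_cen)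
    · obtain ⟨g, rfl⟩ := QuotientGroup.mk'_surjective E x
      rw [ht, ← map_inv, ← map_mul, ← map_mul] at hx ⊢
      have h1 := (hPmem _).1 hx
      simp only [Subgroup.coe_mul, Subgroup.coe_inv, hU] at h1
      refine ((hmk _ _).2 ?_).symm
      simp only [Subgroup.coe_mul, Subgroup.coe_inv, hU]
      have h2 := X.set.el_conj (inv_smul_eq_iff.2 X.fixA.symm : u⁻¹ • a = a) (X.isolated g.2 h1)
      rwa [show u⁻¹ * ((g : G) * u * (g : G)⁻¹ * u⁻¹) * u⁻¹⁻¹ = u⁻¹ * ((g : G) * u * (g : G)⁻¹) by group] at h2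
  obtain ⟨N, hNn, hNodd, hN⟩ := ZStar.exists_odd_normal hiso
  have htt : t * t = 1 := mul_self_of_orderOf_two ht2
  have hone : ∀ n ∈ N, Commute n t → n = 1 := fun n hn hc => by
    obtain ⟨g, rfl⟩ := QuotientGroup.mk'_surjective E n
    obtain ⟨i, hi⟩ := P.isPGroup' ⟨_, (hPmem g).2 ((hcen g).1 hc)⟩
    have h1 : QuotientGroup.mk' E g ^ 2 ^ i = 1 := congrArg Subtype.val hi
    have h2 : orderOf (QuotientGroup.mk' E g) ∣ Nat.card N :=
      (Subgroup.orderOf_mk _ hn).symm.dvd.trans (_root_.orderOf_dvd_natCard _)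
    obtain ⟨m, -, hm⟩ := (Nat.dvd_prime_pow Nat.prime_two).1 (orderOf_dvd_of_pow_eq_one h1)
    rw [hm] at h2
    rcases Nat.eq_zero_or_pos m with hm0 | hm0
    · rw [hm0, pow_zero] at hm
      exact orderOf_eq_one_iff.1 hm
    · exact absurd ((dvd_pow_self 2 hm0.ne').trans h2)
        (Nat.two_dvd_ne_zero.2 (Nat.odd_iff.1 hNodd))
  -- every element of the core is a commutator with the involution
  let f : N → N := fun n => ⟨t * (n : cHull Z a ⧸ E) * t⁻¹ * (n : cHull Z a ⧸ E)⁻¹,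
    mul_mem (hNn.conj_mem _ n.2 t) (inv_mem n.2)⟩
  have hf : Function.Injective f := fun n m h => by
    have h' : t * (n : cHull Z a ⧸ E) * t⁻¹ * (n : cHull Z a ⧸ E)⁻¹ =
      t * (m : cHull Z a ⧸ E) * t⁻¹ * (m : cHull Z a ⧸ E)⁻¹ := congrArg Subtype.val h
    refine Subtype.ext (inv_mul_eq_one.1 (hone _ (mul_mem (inv_mem n.2) m.2) ?_))
    show (n : cHull Z a ⧸ E)⁻¹ * m * t = t * ((n : cHull Z a ⧸ E)⁻¹ * m)
    calc (n : cHull Z a ⧸ E)⁻¹ * m * t =
          (n : cHull Z a ⧸ E)⁻¹ * (t * m * t⁻¹ * (m : cHull Z a ⧸ E)⁻¹)⁻¹ * t * m := by group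
      _ = (n : cHull Z a ⧸ E)⁻¹ * (t * n * t⁻¹ * (n : cHull Z a ⧸ E)⁻¹)⁻¹ * t * m := by rw [h']
      _ = t * ((n : cHull Z a ⧸ E)⁻¹ * m) := by group
  have hfs := Finite.injective_iff_surjective.1 hf
  have hti : t⁻¹ = t := inv_eq_of_mul_eq_one_right htt
  have hinv : ∀ n ∈ N, t * n * t⁻¹ = n⁻¹ := fun n hn => by
    obtain ⟨m, hm⟩ := hfs ⟨n, hn⟩
    have hm' : t * (m : cHull Z a ⧸ E) * t⁻¹ * (m : cHull Z a ⧸ E)⁻¹ = n := congrArg Subtype.val hm
    rw [← hm', hti, _root_.mul_inv_rev, _root_.mul_inv_rev, _root_.mul_inv_rev, hti, inv_inv,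
      show t * (t * (m : cHull Z a ⧸ E) * t * (m : cHull Z a ⧸ E)⁻¹) * t =
        t * t * (m : cHull Z a ⧸ E) * (t * ((m : cHull Z a ⧸ E)⁻¹ * t)) by group, htt, one_mul]
  have hab : ∀ n ∈ N, ∀ m ∈ N, n * m = m * n := fun n hn m hm => by
    have h1 := hinv _ (mul_mem hn hm)
    rw [show t * (n * m) * t⁻¹ = t * n * t⁻¹ * (t * m * t⁻¹) by group, hinv n hn, hinv m hm,
      ← _root_.mul_inv_rev, inv_inj] at h1
    exact h1.symm
  have hfac : ∀ x, ∃ n ∈ N, Commute (n⁻¹ * x) t := fun x => by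
    obtain ⟨n, hn⟩ := hfs ⟨_, hN x⟩
    have hn' : t * (n : cHull Z a ⧸ E) * t⁻¹ * (n : cHull Z a ⧸ E)⁻¹ = t * x * t⁻¹ * x⁻¹ := congrArg Subtype.val hn
    refine ⟨n, n.2, ?_⟩
    show (n : cHull Z a ⧸ E)⁻¹ * x * t = t * ((n : cHull Z a ⧸ E)⁻¹ * x)
    calc (n : cHull Z a ⧸ E)⁻¹ * x * t = (n : cHull Z a ⧸ E)⁻¹ * (t * x * t⁻¹ * x⁻¹)⁻¹ * t * x := by group
      _ = (n : cHull Z a ⧸ E)⁻¹ * (t * n * t⁻¹ * (n : cHull Z a ⧸ E)⁻¹)⁻¹ * t * x := by rw [hn']
      _ = t * ((n : cHull Z a ⧸ E)⁻¹ * x) := by group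
  have hoddmem : ∀ g : cHull Z a, Odd (orderOf (g : G)) → QuotientGroup.mk' E g ∈ N := fun g hg => by
    haveI := hNn
    obtain ⟨n, hn, hc⟩ := hfac (QuotientGroup.mk' E g)
    obtain ⟨h, hh⟩ := QuotientGroup.mk'_surjective E (n⁻¹ * QuotientGroup.mk' E g)
    have hhT := (hcen h).1 (hh ▸ hc)
    obtain ⟨i, hi⟩ := P.isPGroup' ⟨_, (hPmem h).2 hhT⟩
    have h1 : QuotientGroup.mk' E h ^ 2 ^ i = 1 := congrArg Subtype.val hi
    have e1 : QuotientGroup.mk' N (QuotientGroup.mk' E g) = QuotientGroup.mk' N (QuotientGroup.mk' E h) := by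
      rw [hh, map_mul, map_inv, show QuotientGroup.mk' N n = 1 from (QuotientGroup.eq_one_iff (N := N) n).2 hn,
        inv_one, one_mul]
    have h2 : QuotientGroup.mk' N (QuotientGroup.mk' E g) ^ 2 ^ i = 1 := by rw [e1, ← map_pow, h1, map_one]
    have h3 : orderOf (QuotientGroup.mk' N (QuotientGroup.mk' E g)) ∣ orderOf (g : G) :=
      (orderOf_map_dvd _ _).trans ((orderOf_map_dvd _ _).trans (Subgroup.orderOf_coe g).symm.dvd)
    have h4 : orderOf (QuotientGroup.mk' N (QuotientGroup.mk' E g)) = 1 :=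
      Nat.eq_one_of_dvd_coprimes (Nat.Coprime.pow_left i (Nat.coprime_two_left.2 hg)) (orderOf_dvd_of_pow_eq_one h2) h3
    exact (QuotientGroup.eq_one_iff (N := N) _).1 (orderOf_eq_one_iff.1 h4)
  have hcomm : ∀ g h : G, g ∈ cHull Z a → h ∈ cHull Z a → Odd (orderOf g) → Odd (orderOf h) → Commute g h := by
    intro g h hg hh hgo hho
    refine commute_of_comm_mem_el X.set hg hho ?_ hh
    have h1 := hab _ (hoddmem ⟨g, hg⟩ hgo) _ (hoddmem ⟨h, hh⟩ hho)
    rw [← map_mul, ← map_mul] at h1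
    have h2 := X.set.el_conj (mem_cHull.1 (mul_mem hh hg)).1 ((hmk _ _).1 h1.symm)
    simp only [Subgroup.coe_mul] at h2
    rwa [show h * g * ((h * g)⁻¹ * (g * h)) * (h * g)⁻¹ = g * h * g⁻¹ * h⁻¹ by group] at h2
  let N₀ : Subgroup G :=
    { carrier := {g | g ∈ cHull Z a ∧ Odd (orderOf g)}
      one_mem' := ⟨one_mem _, by rw [orderOf_one]; exact odd_one⟩
      mul_mem' := fun {g h} hg hh =>
        ⟨mul_mem hg.1 hh.1, (hg.2.mul hh.2).of_dvd_nat (hcomm g h hg.1 hh.1 hg.2 hh.2).orderOf_mul_dvd_mul_orderOf⟩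
      inv_mem' := fun {g} hg => ⟨inv_mem hg.1, by rw [orderOf_inv]; exact hg.2⟩ }
  refine ⟨N₀, fun g => Iff.rfl, fun g hg h hh => (hcomm g h hg.1 hh.1 hg.2 hh.2).eq, fun g hg => ?_, ?_⟩
  · have hua : u • a = a := X.fixA
    have hmem : u * g * u⁻¹ ∈ N₀ := ⟨X.set.sz_conj_cHull hua hg.1, by rw [orderOf_conj_eq]; exact hg.2⟩
    have h1 : u * g * u⁻¹ * g ∈ el Z a := by
      have h2 := hinv _ (hoddmem ⟨g, hg.1⟩ hg.2)
      rw [ht, ← map_inv, ← map_inv, ← map_mul, ← map_mul, hmk] at h2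
      simp only [Subgroup.coe_mul, Subgroup.coe_inv, hU] at h2
      have h3 := X.set.el_conj (mem_cHull.1 hmem.1).1 (inv_mem h2)
      rwa [show u * g * u⁻¹ * ((u * g * u⁻¹)⁻¹ * g⁻¹)⁻¹ * (u * g * u⁻¹)⁻¹ =
        u * g * u⁻¹ * g by group] at h3
    exact mul_eq_one_iff_eq_inv.1 (eq_one_of_odd_of_sq (mul_mem hmem hg).2 (X.el_mul_self h1))
  · rw [← Nat.card_prod]
    refine (Nat.card_eq_of_bijective (fun q : N₀ × modEl Z a u =>
      (⟨(q.1 : G) * q.2, mul_mem q.1.2.1 q.2.2.1⟩ : cHull Z a)) ⟨?_, ?_⟩).symm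
    · rintro ⟨⟨n, hn⟩, ⟨s, hs⟩⟩ ⟨⟨n', hn'⟩, ⟨s', hs'⟩⟩ h
      have h' : n * s = n' * s' := congrArg Subtype.val h
      have h1 : n'⁻¹ * n = s' * s⁻¹ := by
        calc n'⁻¹ * n = n'⁻¹ * (n * s) * s⁻¹ := by group
          _ = s' * s⁻¹ := by rw [h']; group
      obtain ⟨i, hi⟩ := X.modEl_pGroup ⟨_, mul_mem hs' (inv_mem hs)⟩
      have hi' : (s' * s⁻¹) ^ 2 ^ i = 1 := congrArg Subtype.val hi
      have h2 : n'⁻¹ * n = 1 := by
        refine orderOf_eq_one_iff.1 (Nat.eq_one_of_dvd_coprimes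
          (Nat.Coprime.pow_left i (Nat.coprime_two_left.2 (mul_mem (inv_mem hn') hn).2))
          (orderOf_dvd_of_pow_eq_one ?_) dvd_rfl)
        rw [h1]; exact hi'
      obtain rfl : n' = n := inv_mul_eq_one.1 h2
      obtain rfl : s = s' := mul_left_cancel h'
      rfl
    · intro g
      obtain ⟨n, hn, hc⟩ := hfac (QuotientGroup.mk' E g)
      obtain ⟨h, rfl⟩ := QuotientGroup.mk'_surjective E n
      -- the lift of odd order
      obtain ⟨c, hcN⟩ : ∃ c, c = Nat.card N := ⟨_, rfl⟩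
      have hh0 : (h : G) ^ c ∈ el Z a := by
        have h1 : QuotientGroup.mk' E (h ^ c) = QuotientGroup.mk' E 1 := by
          rw [map_pow, map_one, hcN]
          exact congrArg Subtype.val (pow_card_eq_one' (x := (⟨_, hn⟩ : N)))
        simpa using (hmk _ _).1 h1
      obtain ⟨h₁, hh₁⟩ : ∃ h₁ : cHull Z a, h₁ = h ^ (c + 1) := ⟨_, rfl⟩
      have hodd : Odd (orderOf (h₁ : G)) := by
        refine (hcN ▸ hNodd : Odd c).of_dvd_nat (orderOf_dvd_of_pow_eq_one ?_)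
        obtain ⟨s, hs⟩ := (hcN ▸ hNodd : Odd c).add_one
        rw [hh₁, SubmonoidClass.coe_pow, ← pow_mul, mul_comm, pow_mul, hs, ← two_mul, pow_mul, pow_two,
          X.el_mul_self hh0, one_pow]
      have heq : QuotientGroup.mk' E h₁ = QuotientGroup.mk' E h := by
        rw [hh₁, map_pow, pow_succ]
        have := congrArg Subtype.val (pow_card_eq_one' (x := (⟨_, hn⟩ : N)))
        rw [SubmonoidClass.coe_pow] at this
        rw [hcN, this, Subgroup.coe_one, one_mul]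
      have hs : (h₁⁻¹ * g : cHull Z a).1 ∈ modEl Z a u := (hcen _).1 (by rwa [map_mul, map_inv, heq])
      refine ⟨(⟨h₁, h₁.2, hodd⟩, ⟨_, hs⟩), Subtype.ext ?_⟩
      show (h₁ : G) * ((h₁ : G)⁻¹ * g) = g
      group

/-- There is an element of odd order in the centraliser of the members. -/
theorem core_ne_bot {N : Subgroup G}
    (hcard : Nat.card (cHull Z a) = Nat.card N * Nat.card (modEl Z a u)) : N ≠ ⊥ := by
  classical
  intro hN
  haveI := X.set.hyp.finite_points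
  haveI := Fintype.ofFinite Ω
  haveI := Fintype.ofFinite G
  have hTH : modEl Z a u = cHull Z a := by
    refine Subgroup.eq_of_le_of_card_ge (fun g hg => hg.1) ?_
    rw [hcard, hN, Subgroup.card_bot, one_mul]
  obtain ⟨I, hI⟩ : ∃ I : Set G, I = {x | x ∈ pCen Z a b u ∧ x * x = 1 ∧ x ≠ 1} := ⟨_, rfl⟩
  obtain ⟨q, hq⟩ : ∃ q, q = Nat.card (el Z a) := ⟨_, rfl⟩
  have hIcard : I.ncard ≤ q := by
    obtain ⟨ψ, hinj, hψ⟩ := X.exists_hom_q X.pCen_pGroup inf_le_left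
    rw [hI, hq, ← Nat.card_coe_set_eq]
    refine Nat.card_le_card_of_injective (fun x => ⟨ψ ⟨x.1, x.2.1⟩, X.data.invol_mem _ (hψ _) (by
      rw [← map_mul, show (⟨x.1, x.2.1⟩ : pCen Z a b u) * ⟨x.1, x.2.1⟩ = 1 from Subtype.ext x.2.2.1, map_one])⟩)
      fun x y h => Subtype.ext (congrArg (fun z : pCen Z a b u => (z : G)) (hinj (congrArg Subtype.val h)))
  obtain ⟨S, hS⟩ : ∃ S : Set G, S = (fun r : G × G => r.1 * r.2) '' ((el Z a : Set G) ×ˢ I) := ⟨_, rfl⟩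
  have hScard : S.ncard ≤ q * q := by
    rw [hS]
    refine (Set.ncard_image_le (Set.toFinite _)).trans ?_
    rw [Set.ncard_prod, ← Nat.card_coe_set_eq]
    exact (Nat.mul_le_mul_left _ hIcard).trans_eq (congrArg (· * q) hq.symm)
  have hsub : {c : Ω | c ≠ a} ⊆
      ⋃ g ∈ S.toFinset, {c | c ≠ a ∧ g • c = c} := by
    intro c hc
    obtain ⟨g, hga, hgb⟩ := X.exists_pair_conj hc
    have h1 := X.set.conj_cPair hga X.u_mem
    rw [hgb] at h1
    have h2 : g * u * g⁻¹ * (g * u * g⁻¹) = 1 := by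
      rw [show g * u * g⁻¹ * (g * u * g⁻¹) = g * (u * u) * g⁻¹ by group, mul_self_of_orderOf_two X.invol]; group
    have h3 : g * u * g⁻¹ ∈ modEl Z a u := hTH.symm ▸ cPair_le_cHull _ _ h1
    obtain ⟨e, he, p, hp, hpp, hep⟩ := X.invol_cen (X.no_fused h3 h2) h2
    have hp1 : p ≠ 1 := fun hp1 => X.pair_notMem_el X.u_mem (orderOf_two_iff.1 X.invol).2 (by
      rw [hp1, mul_one] at hep
      have h4 := X.set.el_conj (inv_smul_eq_iff.2 hga.symm) (hep ▸ he : g * u * g⁻¹ ∈ el Z a)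
      rwa [show g⁻¹ * (g * u * g⁻¹) * g⁻¹⁻¹ = u by group] at h4)
    simp only [Set.mem_iUnion, Set.mem_toFinset]
    exact ⟨g * u * g⁻¹, hS ▸ ⟨(e, p), ⟨he, hI ▸ ⟨hp, hpp, hp1⟩⟩, hep.symm⟩, hc, (mem_cPair.1 h1).2.1⟩
  have hle : {c : Ω | c ≠ a}.ncard ≤ q * q * q ^ 2 := by
    refine (Set.ncard_le_ncard hsub (Set.toFinite _)).trans ((Finset.set_ncard_biUnion_le _ _).trans ?_)
    refine (Finset.sum_le_card_nsmul _ _ (q ^ 2) fun g hg => ?_).trans ?_
    · rw [Set.mem_toFinset, hS] at hg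
      obtain ⟨⟨e, p⟩, ⟨he, hp⟩, rfl⟩ := hg
      rw [hI] at hp
      have hpP := mem_pCen.1 hp.1
      have hne : e * p ∉ el Z a := fun h => X.pair_notMem_el hpP.1 hp.2.2 (by
        simpa using mul_mem (inv_mem he) h)
      have hfa : (e * p) • a = a := by
        rw [mul_smul, (mem_cPair.1 hpP.1).1, X.el_fix he]
      rw [hq]
      refine (X.ncard_others (orderOf_two_iff.2 ⟨?_, fun h => hne (by
        show e * p ∈ el Z a
        rw [h]; exact one_mem _)⟩) (fun h => hne (X.set.mem_el.2 (Or.inr ⟨h, hfa⟩))) hfa).le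
      rw [(el_commute (cPair_le_cHull _ _ hpP.1) he).symm.mul_mul_mul_comm, X.el_mul_self he, hp.2.1, one_mul]
    · rw [smul_eq_mul, ← Set.ncard_eq_toFinset_card']
      exact Nat.mul_le_mul_right _ hScard
  rw [X.ncard_points, ← hq] at hle
  have hq4 : 4 ≤ q := hq ▸ X.four_le
  have h5 : q ^ 2 - q + 1 ≤ q := by
    refine Nat.le_of_mul_le_mul_left ?_ (pow_pos (lt_of_lt_of_le (by norm_num : 0 < 4) hq4) 3 : 0 < q ^ 3)
    exact hle.trans_eq (by ring)
  have h6 : 4 * q ≤ q ^ 2 := by rw [pow_two]; exact Nat.mul_le_mul_right q hq4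
  omega

/-- The elements of odd order are semiregular on the points. -/
theorem core_semireg {N : Subgroup G} (hmem : ∀ g, g ∈ N ↔ g ∈ cHull Z a ∧ Odd (orderOf g))
    (hab : ∀ g ∈ N, ∀ h ∈ N, g * h = h * g) {r : G} (hr : r ∈ N) (hrb : r • b = b) : r = 1 := by
  classical
  haveI := X.set.faithful
  haveI : Fact (Nat.Prime 2) := ⟨Nat.prime_two⟩
  by_contra hr1
  have hrH := ((hmem r).1 hr).1
  have hrP : r ∈ cPair Z a b := mem_cPair.2 ⟨(mem_cHull.1 hrH).1, hrb, (mem_cHull.1 hrH).2⟩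
  have hall : ∀ g ∈ N, g • b = b := by
    intro g hg
    obtain ⟨hgH, hgo⟩ := (hmem g).1 hg
    have hga := (mem_cHull.1 hgH).1
    have h1 : r • g • b = g • b := by rw [← mul_smul, hab r hr g hg, mul_smul, hrb]
    obtain ⟨y, hy, hyb⟩ := X.data.q_trans _ ((X.fixed_eq hrP hr1 _).1 h1) fun e =>
      X.ne (smul_left_cancel g (hga.trans e.symm))
    have hk : y⁻¹ * g ∈ cPair Z a b := mem_cPair.2 ⟨by rw [mul_smul, hga, inv_smul_eq_iff, X.q_fix hy],
      by rw [mul_smul, ← hyb, inv_smul_smul],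
      fun z hz => (X.data.central z (X.zAt_mem_el hz) y hy).inv_right.mul_right ((mem_cHull.1 hgH).2 z hz)⟩
    obtain ⟨i, hi⟩ := X.data.q_pGroup ⟨y, hy⟩
    have hpow : g ^ 2 ^ i ∈ cPair Z a b := by
      have h2 : (y * (y⁻¹ * g)) ^ 2 ^ i ∈ cPair Z a b := by
        rw [(X.commute_q hy hk).mul_pow, show y ^ 2 ^ i = 1 from congrArg Subtype.val hi, one_mul]
        exact pow_mem hk _
      rwa [mul_inv_cancel_left] at h2
    obtain ⟨j, hj⟩ := exists_pow_eq_self_of_coprime (x := g) (n := 2 ^ i)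
      (Nat.Coprime.pow_left i (Nat.coprime_two_left.2 hgo))
    rw [← hj]
    exact (mem_cPair.1 (pow_mem hpow j)).2.1
  refine hr1 (FaithfulSMul.eq_of_smul_eq_smul (α := Ω) fun c => ?_)
  rw [one_smul]
  rcases eq_or_ne c a with rfl | hc
  · exact (mem_cHull.1 hrH).1
  obtain ⟨h, hha, rfl⟩ := X.exists_pair_conj hc
  have h2 : h⁻¹ * r * h⁻¹⁻¹ ∈ N := (hmem _).2
    ⟨X.set.sz_conj_cHull (inv_smul_eq_iff.2 hha.symm) hrH, by rw [orderOf_conj_eq]; exact ((hmem r).1 hr).2⟩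
  have h3 := hall _ h2
  rw [inv_inv, mul_smul, mul_smul, inv_smul_eq_iff] at h3
  exact h3

/-- There are `q ^ 2 - q + 1` elements of odd order. -/
theorem card_core {N : Subgroup G} (hmem : ∀ g, g ∈ N ↔ g ∈ cHull Z a ∧ Odd (orderOf g))
    (hab : ∀ g ∈ N, ∀ h ∈ N, g * h = h * g)
    (hcard : Nat.card (cHull Z a) = Nat.card N * Nat.card (modEl Z a u)) :
    Nat.card N = Nat.card (el Z a) ^ 2 - Nat.card (el Z a) + 1 := by
  classical
  haveI : Fact (Nat.Prime 2) := ⟨Nat.prime_two⟩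
  have hK : IsPGroup 2 (cPair Z a b) := fun k => by
    obtain ⟨v, w, hw, hkw⟩ : ∃ v w, ¬ 2 ∣ w ∧ orderOf (k : G) = 2 ^ v * w :=
      ⟨_, _, Nat.not_dvd_ordCompl Nat.prime_two (orderOf_pos (k : G)).ne', (Nat.ordProj_mul_ordCompl_eq_self _ 2).symm⟩
    refine ⟨v, Subtype.ext ?_⟩
    rw [SubmonoidClass.coe_pow]
    have h1 : orderOf ((k : G) ^ 2 ^ v) = w := by
      rw [orderOf_pow_of_dvd (by positivity) ⟨w, hkw⟩, hkw, Nat.mul_div_cancel_left _ (by positivity)]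
    refine X.core_semireg hmem hab ((hmem _).2 ⟨pow_mem (cPair_le_cHull _ _ k.2) _, ?_⟩)
      (mem_cPair.1 (pow_mem k.2 (2 ^ v))).2.1
    rw [h1, Nat.odd_iff]
    omega
  have hodd : Odd (Nat.card N) := by
    rw [Nat.odd_iff, ← Nat.two_dvd_ne_zero]
    intro h
    obtain ⟨g, hg⟩ := exists_prime_orderOf_dvd_card' (G := N) 2 h
    have h1 := ((hmem g).1 g.2).2
    rw [Subgroup.orderOf_coe, hg] at h1
    exact absurd h1 (by decide)
  obtain ⟨q, hq⟩ : ∃ q, q = Nat.card (el Z a) := ⟨_, rfl⟩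
  have hq4 : 4 ≤ q := hq ▸ X.four_le
  have hdvd : Nat.card N ∣ q ^ 2 - q + 1 := by
    obtain ⟨v, hv⟩ := hK.exists_card_eq
    obtain ⟨n, -, hn⟩ := X.el_two_pow
    rw [← hq] at hn
    have h1 : Nat.card N ∣ Nat.card (cPair Z a b) * (Nat.card Ω - 1) :=
      (hcard ▸ Dvd.intro _ rfl : Nat.card N ∣ Nat.card (cHull Z a)).trans (X.set.card_cHull_dvd X.ne)
    rw [X.card_points, hv, ← hq, ← mul_assoc] at h1
    refine Nat.Coprime.dvd_of_dvd_mul_left ?_ h1
    rw [hn, ← pow_mul, ← pow_add]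
    exact Nat.Coprime.pow_right _ (Nat.coprime_two_right.2 hodd)
  have hfix : ∀ g, g ∈ (⊥ : Subgroup G) ↔ g ∈ N ∧ g • b = b := fun g =>
    ⟨fun hg => by rw [Subgroup.mem_bot.1 hg]; exact ⟨one_mem _, one_smul _ _⟩,
      fun hg => Subgroup.mem_bot.2 (X.core_semireg hmem hab hg.1 hg.2)⟩
  have horb := ncard_orbit_mul hfix
  rw [Subgroup.card_bot, mul_one] at horb
  have hb : b ∈ orbit N b := mem_orbit_self b
  have ha : a ∉ orbit N b := by
    rintro ⟨g, hg⟩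
    exact X.ne (smul_left_cancel (g : G) ((mem_cHull.1 ((hmem g).1 g.2).1).1.trans hg.symm))
  have hinv : ∀ k ∈ J, ∀ x ∈ orbit N b, k • x ∈ orbit N b := by
    rintro k hk - ⟨⟨g, hg⟩, rfl⟩
    obtain ⟨h1, h2⟩ := (hmem g).1 hg
    refine ⟨⟨k * g * k⁻¹, (hmem _).2 ⟨X.j_conj_cHull hk h1, by rw [orderOf_conj_eq]; exact h2⟩⟩, ?_⟩
    show (k * g * k⁻¹) • b = k • g • b
    rw [mul_smul, mul_smul, inv_smul_eq_iff.2 (X.j_fixB hk).symm]
  have hmod := X.j_mod hinv hb ha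
  rw [horb, ← hq] at hmod
  have h1 : 1 < Nat.card N := by
    rcases Nat.lt_or_ge 1 (Nat.card N) with h | h
    · exact h
    · exact absurd (Subgroup.card_eq_one.1 (le_antisymm h Nat.card_pos)) (X.core_ne_bot hcard)
  rw [← hq]
  refine eq_of_dvd_of_mod hq4 hdvd ?_ h1
  obtain ⟨s, hs⟩ := hmod
  rw [show Nat.card N = (q - 1) * s + 1 by omega, Nat.mul_add_mod, Nat.mod_eq_of_lt (by omega)]

theorem contradiction : False := by
  classical
  obtain ⟨N, hmem, hab, hinv, hcard⟩ := X.exists_core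
  have hN := X.card_core hmem hab hcard
  have hodd : Odd (Nat.card N) := by
    rw [hN]
    have h : Even (Nat.card (el Z a) ^ 2 - Nat.card (el Z a)) :=
      (Nat.even_sub (Nat.le_self_pow two_ne_zero _)).2 (by simp [Nat.even_pow, X.even_q])
    exact h.add_one
  have hns : ¬ IsSquare (Nat.card N) := by
    rw [hN]
    have h4 := X.four_le
    obtain ⟨s, hs⟩ : ∃ s, Nat.card (el Z a) = s + 1 := ⟨_, (Nat.sub_add_cancel (by omega)).symm⟩
    rw [hs, show (s + 1) ^ 2 - (s + 1) + 1 = s * (s + 1) + 1 by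
      have : (s + 1) ^ 2 = s * (s + 1) + (s + 1) := by ring
      omega]
    rintro ⟨r, hr⟩
    rcases Nat.lt_or_ge r (s + 1) with h | h
    · nlinarith
    · nlinarith
  have hconj : ∀ h : stabilizer G a, ∀ n ∈ N, (h : G) * n * (h : G)⁻¹ ∈ N := fun h n hn => by
    obtain ⟨h1, h2⟩ := (hmem n).1 hn
    exact (hmem _).2 ⟨X.set.sz_conj_cHull (mem_stabilizer_iff.1 h.2) h1, by rw [orderOf_conj_eq]; exact h2⟩
  letI : CommGroup N :=
    { (inferInstance : Group N) with mul_comm := fun g h => Subtype.ext (hab g g.2 h h.2) }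
  let φ : stabilizer G a →* MulAut N :=
    { toFun := fun h =>
        { toFun := fun n => ⟨(h : G) * n * (h : G)⁻¹, hconj h n n.2⟩
          invFun := fun n => ⟨((h⁻¹ : stabilizer G a) : G) * n * ((h⁻¹ : stabilizer G a) : G)⁻¹, hconj h⁻¹ n n.2⟩
          left_inv := fun n => Subtype.ext (by
            show ((h⁻¹ : stabilizer G a) : G) * ((h : G) * n * (h : G)⁻¹) * ((h⁻¹ : stabilizer G a) : G)⁻¹ = n
            rw [Subgroup.coe_inv]; group)
          right_inv := fun n => Subtype.ext (by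
            show (h : G) * (((h⁻¹ : stabilizer G a) : G) * n * ((h⁻¹ : stabilizer G a) : G)⁻¹) * (h : G)⁻¹ = n
            rw [Subgroup.coe_inv]; group)
          map_mul' := fun n m => Subtype.ext (show (h : G) * ((n : G) * m) * (h : G)⁻¹ =
            (h : G) * n * (h : G)⁻¹ * ((h : G) * m * (h : G)⁻¹) by group) }
      map_one' := MulEquiv.ext fun n => Subtype.ext (show (1 : G) * n * (1 : G)⁻¹ = n by group)
      map_mul' := fun h h' => MulEquiv.ext fun n => Subtype.ext (show ((h : G) * (h' : G)) * n *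
        ((h : G) * (h' : G))⁻¹ = (h : G) * ((h' : G) * n * (h' : G)⁻¹) * (h : G)⁻¹ by group) }
  obtain ⟨p, ψ, hψ⟩ := OddSquareDet.exists_hom_unit φ (u := ⟨u, mem_stabilizer_iff.2 X.fixA⟩) hodd hns
    fun n => Subtype.ext (hinv n n.2)
  exact hψ (X.set.hyp.hom_stabilizer_invol X.set.gen (X.set.four a) ψ X.invol (mem_stabilizer_iff.2 X.fixA))

end SzPair

/-- The case of order `q ^ 2` does not occur. -/
theorem noCase_two : NoCase.{u} 2 := by
  intro G Ω _ _ _ Z X hk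
  haveI := X.faithful
  obtain ⟨v, hv, hvZ⟩ := X.exists_out
  obtain ⟨a, ha⟩ := X.hyp.exists_fix_invol hv
  obtain ⟨b, hb, hba⟩ := X.hyp.exists_other_fix hv hvZ a
  obtain ⟨Q, J, hP⟩ := X.exists_szPair hk hv hvZ hba.symm ha hb
  exact hP.contradiction

end Cfsg.Agent.Invol.Aschbacher.Last
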