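import Cfsg.Agent.Lib.Invol.Aschbacher.Last.Basics

/-!
# The last configuration when the fixed points of an outside involution form a short line

Here an outside involution has `q + 1` fixed points, `q` the order of `el Z a`, so those other than one of them form an
orbit of `el Z a`.  The group generated by the members commuting with the involution is transitive on the other points,
so an element centralising it fixes no other point unless trivial, and the number of points is `q ^ 3 + 1`.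
-/

set_option autoImplicit false
set_option linter.unusedSectionVars false

namespace Cfsg.Agent.Invol.Aschbacher.Last

open MulAction Subgroup
open Cfsg.Agent.Invol.Bender (pairStab mem_pair conj_smul_smul)

universe u

variable {G : Type u} [Group G] [Finite G] {Ω : Type u} [MulAction G Ω] {Z : Set G}

/-- Every involution outside `Z` has as many fixed points as members at a point, plus two. -/
def Short (Z : Set G) (Ω : Type u) [MulAction G Ω] : Prop :=
  ∀ u : G, orderOf u = 2 → u ∉ Z → ∀ a : Ω, u • a = a → {x : Ω | u • x = x}.ncard = Nat.card (el Z a) + 1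

/-- The other points of the line through a pair. -/
def lineOff (Z : Set G) (a b : Ω) : Set Ω := {x | ∃ e ∈ el Z a, e • b = x}

/-- The points, other than `a`, of the lines at `a` which an involution stabilises. -/
def fam (Z : Set G) (u : G) (a : Ω) : Set Ω := {y | y ≠ a ∧ ∃ e ∈ el Z a, (u * e) • y = y}

omit [Finite G] in
theorem mem_lineOff_self (a b : Ω) : b ∈ lineOff Z a b := ⟨1, one_mem _, one_smul _ _⟩

namespace Setting

variable (X : Setting G Ω Z)
include X

theorem el_le_stab (a : Ω) : el Z a ≤ stabilizer G a :=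
  (Subgroup.closure_le _).2 fun _ hz => mem_stabilizer_iff.2 hz.2

theorem el_smul {a : Ω} {e : G} (he : e ∈ el Z a) : e • a = a := mem_stabilizer_iff.1 (X.el_le_stab a he)

/-- A non-trivial element of `el Z a` fixes only `a`. -/
theorem el_semiregular {a x : Ω} (hx : x ≠ a) {e : G} (he : e ∈ el Z a) (hex : e • x = x) : e = 1 := by
  rcases X.mem_el.1 he with h | h
  · exact h
  · exact absurd (X.hyp.fix_unique h.1 hex h.2) hx

theorem el_inj {a x : Ω} (hx : x ≠ a) {e f : G} (he : e ∈ el Z a) (hf : f ∈ el Z a) (h : e • x = f • x) :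
    e = f := by
  refine (inv_mul_eq_one.1 (X.el_semiregular hx (mul_mem (inv_mem hf) he) ?_)).symm
  rw [mul_smul, h, inv_smul_smul]

theorem el_comm {a : Ω} {k : G} (hk : ∀ z ∈ zAt Z a, Commute z k) {e : G} (he : e ∈ el Z a) : Commute e k := by
  rcases X.mem_el.1 he with rfl | h
  · exact Commute.one_left k
  · exact hk e h

theorem el_mul_self {a : Ω} {e : G} (he : e ∈ el Z a) : e * e = 1 := by
  rcases X.mem_el.1 he with rfl | h
  · exact mul_one 1
  · exact mul_self_of_orderOf_two (X.hyp.invol e h.1)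

theorem el_comm_el {a : Ω} {e f : G} (he : e ∈ el Z a) (hf : f ∈ el Z a) : Commute e f :=
  X.el_comm (fun _ hz => (X.el_comm (fun t ht => X.comm a t ht _ hz) hf).symm) he

theorem el_le_cHull (a : Ω) : el Z a ≤ cHull Z a := fun e he =>
  mem_cHull.2 ⟨X.el_smul he, fun _ hz => (X.el_comm (fun t ht => X.comm a t ht _ hz) he).symm⟩

theorem one_notMem_zAt (a : Ω) : (1 : G) ∉ zAt Z a := fun h => by
  have h1 := X.hyp.invol 1 h.1
  rw [orderOf_one] at h1
  omega

theorem card_el (a : Ω) : Nat.card (el Z a) = (zAt Z a).ncard + 1 := by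
  rw [← Set.ncard_insert_of_notMem (X.one_notMem_zAt a) (Set.toFinite _), ← Nat.card_coe_set_eq]
  refine Nat.card_congr (Equiv.subtypeEquivRight fun g => ?_)
  rw [X.mem_el, Set.mem_insert_iff]

theorem card_el_eq (a b : Ω) : Nat.card (el Z a) = Nat.card (el Z b) := by
  rw [X.card_el, X.card_el, ← Nat.card_coe_set_eq, ← Nat.card_coe_set_eq, X.hyp.card_zAt a b]

/-- An element fixing `a` and centralising the members there commutes with the translations of a line at `a`. -/
theorem smul_el {a : Ω} {k : G} (hk : k ∈ cHull Z a) {e : G} (he : e ∈ el Z a) (x : Ω) :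
    k • e • x = e • k • x := by
  rw [← mul_smul, ← (X.el_comm (mem_cHull.1 hk).2 he).eq, mul_smul]

theorem ncard_lineOff {a b : Ω} (hb : b ≠ a) : (lineOff Z a b).ncard = Nat.card (el Z a) := by
  rw [← Nat.card_coe_set_eq]
  refine (Nat.card_eq_of_bijective (fun e : el Z a => (⟨(e : G) • b, e, e.2, rfl⟩ : lineOff Z a b)) ⟨?_, ?_⟩).symm
  · intro e f h
    exact Subtype.ext (X.el_inj hb e.2 f.2 (congrArg Subtype.val h))
  · rintro ⟨x, e, he, rfl⟩
    exact ⟨⟨e, he⟩, rfl⟩

theorem ne_of_mem_lineOff {a b x : Ω} (hb : b ≠ a) (hx : x ∈ lineOff Z a b) : x ≠ a := by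
  obtain ⟨e, he, rfl⟩ := hx
  exact fun h => hb (MulAction.injective e (h.trans (X.el_smul he).symm))

theorem cPair_line {a b x : Ω} {k : G} (hk : k ∈ cPair Z a b) (hx : x ∈ lineOff Z a b) : k • x = x := by
  obtain ⟨e, he, rfl⟩ := hx
  obtain ⟨hka, hkb, hkc⟩ := mem_cPair.1 hk
  rw [X.smul_el (mem_cHull.2 ⟨hka, hkc⟩) he, hkb]

theorem cPair_le_cHull (a b : Ω) : cPair Z a b ≤ cHull Z a := fun _ hk =>
  mem_cHull.2 ⟨(mem_cPair.1 hk).1, (mem_cPair.1 hk).2.2⟩

theorem cPair_eq_of_mem {a b x : Ω} (hx : x ∈ lineOff Z a b) : cPair Z a x = cPair Z a b := by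
  refine le_antisymm (fun k hk => ?_) fun k hk => ?_
  · obtain ⟨e, he, rfl⟩ := hx
    have hb : b ∈ lineOff Z a (e • b) := ⟨e, he, by rw [← mul_smul, X.el_mul_self he, one_smul]⟩
    exact mem_cPair.2 ⟨(mem_cPair.1 hk).1, X.cPair_line hk hb, (mem_cPair.1 hk).2.2⟩
  · exact mem_cPair.2 ⟨(mem_cPair.1 hk).1, X.cPair_line hk hx, (mem_cPair.1 hk).2.2⟩

/-- An element of `cHull` keeping `b` on its line is a translation times an element of the pair group. -/
theorem exists_el_mul_cPair {a b : Ω} {g : G} (hg : g ∈ cHull Z a) (hgb : g • b ∈ lineOff Z a b) :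
    ∃ e ∈ el Z a, e * g ∈ cPair Z a b := by
  obtain ⟨e, he, heb⟩ := hgb
  have h1 := mem_cHull.1 (mul_mem (X.el_le_cHull a he) hg)
  exact ⟨e, he, mem_cPair.2 ⟨h1.1, by rw [mul_smul, ← heb, ← mul_smul, X.el_mul_self he, one_smul], h1.2⟩⟩

/-- The fixed points of an outside involution form a line. -/
theorem fix_iff (hs : Short Z Ω) {u : G} (hu : orderOf u = 2) (huZ : u ∉ Z) {a b : Ω} (hab : a ≠ b)
    (ha : u • a = a) (hb : u • b = b) {x : Ω} : u • x = x ↔ x = a ∨ x ∈ lineOff Z a b := by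
  have hk := X.invol_mem_cPair hu ha hb
  have hsub : insert a (lineOff Z a b) ⊆ {x | u • x = x} := by
    rintro y (rfl | hy)
    · exact ha
    · exact X.cPair_line hk hy
  haveI := X.hyp.finite_points
  have heq : insert a (lineOff Z a b) = {x | u • x = x} := by
    refine Set.eq_of_subset_of_ncard_le hsub (le_of_eq ?_) (Set.toFinite _)
    rw [hs u hu huZ a ha, Set.ncard_insert_of_notMem (fun h => X.ne_of_mem_lineOff hab.symm h rfl) (Set.toFinite _),
      X.ncard_lineOff hab.symm]
  exact ⟨fun h => (heq ▸ h : x ∈ insert a (lineOff Z a b)), fun h => hsub h⟩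

theorem mul_el_notMem {u : G} (hu : orderOf u = 2) (huZ : u ∉ Z) {a : Ω} (ha : u • a = a) {e : G}
    (he : e ∈ el Z a) : orderOf (u * e) = 2 ∧ u * e ∉ Z ∧ (u * e) • a = a := by
  rcases X.mem_el.1 he with rfl | h
  · rw [mul_one]; exact ⟨hu, huZ, ha⟩
  · obtain ⟨h1, h2, -, -⟩ := X.hyp.mul_notMem hu huZ h.1 (X.cent u hu huZ a ha e h)
    exact ⟨h1, h2, by rw [mul_smul, h.2, ha]⟩

/-- An involution fixing `a` has a fixed line there. -/
theorem exists_fix_ne {u : G} (hu : orderOf u = 2) (huZ : u ∉ Z) (a : Ω) : ∃ b, u • b = b ∧ b ≠ a :=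
  haveI := X.faithful
  X.hyp.exists_other_fix hu huZ a

/-- An involution stabilises `q` lines at each of its fixed points, so `q ^ 2` points lie on them. -/
theorem ncard_fam (hs : Short Z Ω) {u : G} (hu : orderOf u = 2) (huZ : u ∉ Z) {a : Ω} (ha : u • a = a) :
    (fam Z u a).ncard = Nat.card (el Z a) * Nat.card (el Z a) := by
  classical
  haveI := X.hyp.finite_points
  choose p hp hpa using fun e : el Z a =>
    X.exists_fix_ne (X.mul_el_notMem hu huZ ha e.2).1 (X.mul_el_notMem hu huZ ha e.2).2.1 a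
  have hmem : ∀ ef : el Z a × el Z a, (ef.2 : G) • p ef.1 ∈ fam Z u a := fun ⟨e, f⟩ => by
    refine ⟨X.ne_of_mem_lineOff (hpa e) ⟨f, f.2, rfl⟩, e, e.2, ?_⟩
    have hc : u * (e : G) ∈ cHull Z a :=
      X.invol_mem_cHull (X.mul_el_notMem hu huZ ha e.2).1 (X.mul_el_notMem hu huZ ha e.2).2.2
    rw [X.smul_el hc f.2, hp e]
  rw [← Nat.card_prod, ← Nat.card_coe_set_eq]
  refine (Nat.card_eq_of_bijective (fun ef => (⟨_, hmem ef⟩ : fam Z u a)) ⟨?_, ?_⟩).symm
  · rintro ⟨e, f⟩ ⟨e', f'⟩ h
    have h' : (f : G) • p e = (f' : G) • p e' := congrArg Subtype.val h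
    have hy : ∀ e f : el Z a, (u * (e : G)) • (f : G) • p e = (f : G) • p e := fun e f => by
      rw [X.smul_el (X.invol_mem_cHull (X.mul_el_notMem hu huZ ha e.2).1 (X.mul_el_notMem hu huZ ha e.2).2.2) f.2,
        hp e]
    have h1 : (e : G) • (f : G) • p e = (e' : G) • (f : G) • p e := by
      refine MulAction.injective u ?_
      show u • _ = u • _
      rw [← mul_smul, ← mul_smul u, hy e f, h', hy e' f']
    obtain rfl : e = e' := Subtype.ext (X.el_inj (X.ne_of_mem_lineOff (hpa e) ⟨f, f.2, rfl⟩) e.2 e'.2 h1)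
    rw [Subtype.ext (X.el_inj (hpa e) f.2 f'.2 h')]
  · rintro ⟨y, hy, e, he, hey⟩
    obtain ⟨h1, h2, h3⟩ := X.mul_el_notMem hu huZ ha he
    rcases (X.fix_iff hs h1 h2 (hpa ⟨e, he⟩).symm h3 (hp ⟨e, he⟩)).1 hey with h | ⟨f, hf, hfy⟩
    · exact absurd h hy
    · exact ⟨(⟨e, he⟩, ⟨f, hf⟩), Subtype.ext hfy⟩

/-- The group of an involution is transitive on the points it moves. -/
theorem lgen_trans_out (hs : Short Z Ω) {u : G} (hu : orderOf u = 2) (huZ : u ∉ Z) {x y : Ω} (hx : u • x ≠ x)
    (hy : u • y ≠ y) : ∃ l ∈ lgen Z u, l • x = y := by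
  have S := X.hyp
  obtain ⟨w, hw, hwu, hwx, -⟩ := S.exists_mul_fix hu huZ x hx
  obtain ⟨w', hw', hwu', hwy, -⟩ := S.exists_mul_fix hu huZ y hy
  obtain ⟨c, hc, hc'⟩ : ∃ c : Ω, u • c = c ∧ w • c = c := by
    obtain ⟨c, hc⟩ := S.exists_fix hw
    exact ⟨c, S.fix_of_commute hw hc hwu.symm, hc⟩
  obtain ⟨d, hd, hdc⟩ := X.exists_fix_ne hu huZ c
  obtain ⟨g, hg, hgw⟩ := S.exists_conj_lgen hu hc hd hdc.symm hw hwu hw' hwu'
  obtain ⟨c', hc'', hgc⟩ : ∃ c' : Ω, w' • c' = c' ∧ c' = g • c := ⟨g • c, by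
    rw [← hgw, mul_smul, mul_smul, inv_smul_smul, hc'], rfl⟩
  have huc' : u • c' = c' := by rw [hgc, ← mul_smul, ← (commute_of_mem_lgen hg).eq, mul_smul, hc]
  obtain ⟨hv1, hv2, -, -⟩ := S.mul_notMem hu huZ hw' hwu'
  have hgx : (u * w') • g • x = g • x := by
    have h1 : u * w' = g * (u * w) * g⁻¹ := by
      rw [← hgw]
      calc u * (g * w * g⁻¹) = u * g * w * g⁻¹ := by group
        _ = g * u * w * g⁻¹ := by rw [(commute_of_mem_lgen hg).eq]
        _ = g * (u * w) * g⁻¹ := by group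
    rw [h1, mul_smul (g * (u * w)), inv_smul_smul, mul_smul, hwx]
  have hgxc : g • x ≠ c' := fun h => hx (MulAction.injective g (by
    show g • u • x = g • x
    rw [← mul_smul, (commute_of_mem_lgen hg).eq, mul_smul, h, huc']))
  have hyc : y ≠ c' := fun h => hy (by rw [h, huc'])
  have hvc' : (u * w') • c' = c' := by rw [mul_smul, hc'', huc']
  rcases (X.fix_iff hs hv1 hv2 hgxc.symm hvc' hgx).1 hwy with h | ⟨e, he, hey⟩
  · exact absurd h hyc
  refine ⟨e * g, mul_mem ?_ hg, by rw [mul_smul, hey]⟩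
  exact (Subgroup.closure_le _).2 (fun z hz => X.mem_lgen_of_fix hu huZ huc' hz) he

/-- The pair group centralises the group of an involution fixing the pair. -/
theorem commute_lgen (hs : Short Z Ω) {u : G} (hu : orderOf u = 2) (huZ : u ∉ Z) {a b : Ω} (hab : a ≠ b)
    (ha : u • a = a) (hb : u • b = b) {k : G} (hk : k ∈ cPair Z a b) {l : G} (hl : l ∈ lgen Z u) : Commute l k := by
  refine Subgroup.mem_centralizer_singleton_iff.1 ((Subgroup.closure_le _).2 (fun z hz => ?_) hl)
  obtain ⟨c, hc⟩ := X.hyp.exists_fix hz.1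
  refine Subgroup.mem_centralizer_singleton_iff.2 ?_
  rcases (X.fix_iff hs hu huZ hab ha hb).1 (X.hyp.fix_of_commute hz.1 hc hz.2.symm) with rfl | h
  · exact ((mem_cPair.1 hk).2.2 z ⟨hz.1, hc⟩).eq
  · rw [← X.cPair_eq_of_mem h] at hk
    exact (X.commute_other (X.ne_of_mem_lineOff hab.symm h).symm hk ⟨hz.1, hc⟩).eq

/-- A non-trivial element of the pair group fixes only the line. -/
theorem cPair_semiregular (hs : Short Z Ω) {u : G} (hu : orderOf u = 2) (huZ : u ∉ Z) {a b : Ω} (hab : a ≠ b)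
    (ha : u • a = a) (hb : u • b = b) {k : G} (hk : k ∈ cPair Z a b) {x : Ω} (hkx : k • x = x) (hux : u • x ≠ x) :
    k = 1 := by
  haveI := X.faithful
  refine FaithfulSMul.eq_of_smul_eq_smul fun y : Ω => ?_
  rw [one_smul]
  by_cases hy : u • y = y
  · rcases (X.fix_iff hs hu huZ hab ha hb).1 hy with rfl | h
    · exact (mem_cPair.1 hk).1
    · exact X.cPair_line hk h
  obtain ⟨l, hl, rfl⟩ := X.lgen_trans_out hs hu huZ hux hy
  rw [← mul_smul, ← (X.commute_lgen hs hu huZ hab ha hb hk hl).eq, mul_smul, hkx]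

/-- An element of the pair group commuting with the involution squares to one. -/
theorem cPair_sq (hs : Short Z Ω) {u : G} (hu : orderOf u = 2) (huZ : u ∉ Z) {a b : Ω} (hab : a ≠ b)
    (ha : u • a = a) (hb : u • b = b) {k : G} (hk : k ∈ cPair Z a b) (hku : Commute k u) : k * k = 1 := by
  have S := X.hyp
  haveI := X.faithful
  obtain ⟨x, hux⟩ : ∃ x : Ω, u • x ≠ x := by
    by_contra h
    push Not at h
    have h1 : u = 1 := FaithfulSMul.eq_of_smul_eq_smul fun x : Ω => by rw [h x, one_smul]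
    rw [h1, orderOf_one] at hu
    omega
  obtain ⟨w, hw, hwu, hwx, -⟩ := S.exists_mul_fix hu huZ x hux
  obtain ⟨c, hc⟩ := S.exists_fix hw
  have huc := S.fix_of_commute hw hc hwu.symm
  have hkw : Commute w k := X.commute_lgen hs hu huZ hab ha hb hk (mem_lgen hw hwu)
  have hkc : k • c = c := S.fix_of_commute hw hc hkw.symm
  have hkv : Commute k (u * w) := hku.mul_right hkw.symm
  have hkx : (u * w) • k • x = k • x := by rw [← mul_smul, ← hkv.eq, mul_smul, hwx]
  obtain ⟨hv1, hv2, -, -⟩ := S.mul_notMem hu huZ hw hwu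
  have hxc : x ≠ c := fun h => hux (h ▸ huc)
  have hvc : (u * w) • c = c := by rw [mul_smul, hc, huc]
  rcases (X.fix_iff hs hv1 hv2 hxc.symm hvc hwx).1 hkx with h | ⟨e, he, hex⟩
  · exact absurd (MulAction.injective k (h.trans hkc.symm)) hxc
  have hkcen : ∀ z ∈ zAt Z c, Commute z k := fun z hz =>
    X.commute_lgen hs hu huZ hab ha hb hk (X.mem_lgen_of_fix hu huZ huc hz)
  refine X.cPair_semiregular hs hu huZ hab ha hb (mul_mem hk hk) (x := x) ?_ hux
  rw [mul_smul, ← hex, X.smul_el (mem_cHull.2 ⟨hkc, hkcen⟩) he, ← hex, ← mul_smul, X.el_mul_self he, one_smul]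

/-- The number of points. -/
theorem card_points (hs : Short Z Ω) {u : G} (hu : orderOf u = 2) (huZ : u ∉ Z) {a : Ω} (ha : u • a = a) :
    Nat.card Ω = Nat.card (el Z a) ^ 3 + 1 := by
  classical
  have S := X.hyp
  haveI := S.finite_points
  haveI := Fintype.ofFinite Ω
  haveI := Fintype.ofFinite G
  set q := Nat.card (el Z a) with hq
  -- the members commuting with `u`
  set W := Finset.univ.filter (fun w : G => w ∈ Z ∧ Commute w u) with hW
  set F := Finset.univ.filter (fun x : Ω => u • x = x) with hF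
  set O := Finset.univ.filter (fun x : Ω => u • x ≠ x) with hO
  have hFc : F.card = q + 1 := by
    rw [← hs u hu huZ a ha, ← Set.ncard_coe_finset]
    congr 1
    ext x
    simp [hF]
  have hWc : W.card = (q + 1) * (q - 1) := by
    choose cen hcen using fun w : G => (show ∃ c : Ω, w ∈ Z → w • c = c from
      if h : w ∈ Z then let ⟨c, hc⟩ := S.exists_fix h; ⟨c, fun _ => hc⟩ else ⟨a, fun h' => absurd h' h⟩)
    rw [← hFc, Finset.card_eq_sum_card_fiberwise (t := F) (f := cen) (fun w hw => by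
      simp only [hW, Finset.coe_filter, Set.mem_setOf_eq, Finset.mem_univ, true_and, hF] at hw ⊢
      exact S.fix_of_commute hw.1 (hcen w hw.1) hw.2.symm)]
    rw [Finset.sum_congr rfl (g := fun _ => q - 1) (fun c hc => ?_), Finset.sum_const, smul_eq_mul]
    simp only [hF, Finset.mem_filter, Finset.mem_univ, true_and] at hc
    have hqc : q - 1 = (zAt Z c).ncard := by rw [hq, X.card_el_eq a c, X.card_el]; omega
    rw [hqc, ← Set.ncard_coe_finset]
    congr 1
    ext w
    simp only [hW, Finset.coe_filter, Finset.mem_filter, Finset.mem_univ, true_and, Set.mem_setOf_eq]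
    constructor
    · rintro ⟨⟨hw, -⟩, rfl⟩
      exact ⟨hw, hcen w hw⟩
    · intro hw
      exact ⟨⟨hw.1, X.cent u hu huZ c hc w hw⟩, S.fix_unique hw.1 (hcen w hw.1) hw.2⟩
  have hOc : O.card = (q + 1) * (q - 1) * q := by
    choose mid hmid using fun x : Ω => (show ∃ w : G, u • x ≠ x → w ∈ Z ∧ Commute w u ∧ (u * w) • x = x from
      if h : u • x ≠ x then let ⟨w, h1, h2, h3, _⟩ := S.exists_mul_fix hu huZ x h; ⟨w, fun _ => ⟨h1, h2, h3⟩⟩
      else ⟨1, fun h' => absurd h' h⟩)
    rw [← hWc, Finset.card_eq_sum_card_fiberwise (t := W) (f := mid) (fun x hx => by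
      simp only [hW, Finset.coe_filter, Set.mem_setOf_eq, Finset.mem_univ, true_and, hO] at hx ⊢
      exact ⟨(hmid x hx).1, (hmid x hx).2.1⟩)]
    rw [Finset.sum_congr rfl (g := fun _ => q) (fun w hw => ?_), Finset.sum_const, smul_eq_mul]
    simp only [hW, Finset.mem_filter, Finset.mem_univ, true_and] at hw
    obtain ⟨hv1, hv2, -, -⟩ := S.mul_notMem hu huZ hw.1 hw.2
    obtain ⟨c, hc⟩ := S.exists_fix hw.1
    have huc := S.fix_of_commute hw.1 hc hw.2.symm
    have hvc : (u * w) • c = c := by rw [mul_smul, hc, huc]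
    have hvn := hs _ hv1 hv2 c hvc
    rw [← X.card_el_eq a c] at hvn
    have hset : ((O.filter (fun x => mid x = w) : Finset Ω) : Set Ω) = {x | (u * w) • x = x} \ {c} := by
      ext x
      simp only [hO, Finset.coe_filter, Finset.mem_filter, Finset.mem_univ, true_and, Set.mem_setOf_eq, Set.mem_sdiff,
        Set.mem_singleton_iff]
      constructor
      · rintro ⟨hx, rfl⟩
        exact ⟨(hmid x hx).2.2, fun h => hx (h ▸ huc)⟩
      · rintro ⟨hx, hxc⟩
        have hux : u • x ≠ x := fun h => hxc (S.fix_unique hw.1 (by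
          conv_rhs => rw [← h]
          conv_lhs => rw [show w = u * (u * w) by rw [← mul_assoc, mul_self_of_orderOf_two hu, one_mul]]
          rw [mul_smul, hx]) hc)
        obtain ⟨h1, h2, h3⟩ := hmid x hux
        exact ⟨hux, X.middle_fix_unique hu huZ hux h1 h2 h3 hw.1 hw.2 hx⟩
    rw [← Set.ncard_coe_finset, hset]
    rw [Set.ncard_diff_singleton_of_mem (by exact hvc), hvn]
    rfl
  have htot : Nat.card Ω = F.card + O.card := by
    rw [Nat.card_eq_fintype_card, ← Finset.card_univ, hF, hO, ← Finset.card_filter_add_card_filter_not (s := Finset.univ)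
      (fun x : Ω => u • x = x)]
  have hq1 : 1 ≤ q := Nat.card_pos
  obtain ⟨p, hp⟩ : ∃ p, q = p + 1 := ⟨q - 1, by omega⟩
  rw [htot, hFc, hOc, hp]
  simp only [Nat.add_sub_cancel]
  ring

end Setting

end Cfsg.Agent.Invol.Aschbacher.Last
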