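import Cfsg.Agent.Lib.Invol.Aschbacher.Last.LineTorusTwo

/-!
# The family normaliser when `cHull` is transitive on the other points

With `q ^ 3` points in the orbit the family normaliser is normal in the Sylow subgroup, the torus is transitive on
the other cosets, and the squares lie in the commutator part, which leaves `u` outside the commutators with the torus.
-/

set_option autoImplicit false
set_option linter.unusedSectionVars false

namespace Cfsg.Agent.Invol.Aschbacher.Last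

open MulAction Subgroup
open scoped commutatorElement
open Cfsg.Agent.Invol.Bender (pairStab mem_pair conj_smul_smul)

universe u

variable {G : Type u} [Group G] [Finite G] {Ω : Type u} [MulAction G Ω] {Z : Set G}

/-- The commutators of the Sylow subgroup with the torus, with the commutator part of the family normaliser. -/
def trLarge (Z : Set G) (a b : Ω) (A T : Subgroup G) : Subgroup G := trTwo Z a b A T ⊔ ⁅T, A⁆

namespace Setting

variable (X : Setting G Ω Z) {u : G} {a b : Ω} {A T : Subgroup G}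
include X

theorem coprime_torus_cHull (hs : Short Z Ω) (L : LineSetup Z u a b A) :
    (Nat.card A).Coprime (Nat.card (cHull Z a)) := by
  obtain ⟨n, hn, hq⟩ := X.exists_card_el a
  rw [← X.ncard_orb_mul_cPair a b, X.card_torus L]
  refine Nat.Coprime.mul_right ?_ (X.coprime_cPair hs L).symm
  have hodd : Nat.Coprime (Nat.card (el Z a) - 1) 2 := Nat.coprime_two_right.2 (by
    rw [hq]; exact Nat.Even.sub_odd Nat.one_le_two_pow (Nat.even_pow.2 ⟨even_two, by omega⟩) odd_one)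
  rcases X.orb_cases hs L with ho | ho <;> rw [ho, hq, ← pow_mul] <;> exact (hq ▸ hodd).pow_right _

theorem torus_le_norm_fam (hs : Short Z Ω) (L : LineSetup Z u a b A) (W : LineTwo Z u a A T) :
    A ≤ normalizer (famTwo Z a b T : Set G) := fun t ht => by
  refine Subgroup.mem_normalizer_iff.2 fun g => ⟨fun hg => X.torus_norm_fam hs L W ht hg, fun hg => ?_⟩
  have := X.torus_norm_fam hs L W (inv_mem ht) hg
  rwa [show t⁻¹ * (t * g * t⁻¹) * t⁻¹⁻¹ = g by group] at this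

theorem two_inf_stab (W : LineTwo Z u a A T) : T ⊓ stabilizer G b = pairTwo Z a b T := by
  rw [pairTwo, ← X.cHull_inf a b, ← inf_assoc, inf_eq_left.2 W.sylow.1]

theorem mem_pairTwo_self (L : LineSetup Z u a b A) (W : LineTwo Z u a A T) : u ∈ pairTwo Z a b T :=
  X.mem_pairTwo.2 ⟨W.mem, X.invol_mem_cPair L.invol L.fix_a L.fix_b⟩

theorem invol_ne_one (L : LineSetup Z u a b A) : u ≠ 1 := fun h => by
  have := L.invol
  rw [h, orderOf_one] at this
  omega

/-- Elements of the Sylow subgroup with images in the family of `u` lie in the family normaliser. -/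
theorem mem_famTwo_of_smul (hs : Short Z Ω) (L : LineSetup Z u a b A) (W : LineTwo Z u a A T) {g : G} (hg : g ∈ T)
    (hgb : g • b ∈ fam Z u a) : g ∈ famTwo Z a b T := by
  rw [← X.orb_famTwo hs L W (X.mem_pairTwo_self L W) (X.invol_ne_one L)] at hgb
  obtain ⟨m, hm, hmb⟩ := hgb
  have h1 : m⁻¹ * g ∈ pairTwo Z a b T := by
    rw [← X.two_inf_stab W, Subgroup.mem_inf, mem_stabilizer_iff]
    exact ⟨mul_mem (inv_mem hm.1) hg, by rw [mul_smul, ← hmb, inv_smul_smul]⟩
  have h2 := mul_mem hm (X.lineTwo_le_famTwo W L.ne.symm (Subgroup.mem_sup_right h1))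
  rwa [mul_inv_cancel_left] at h2

/-- An involution of the Sylow subgroup outside `Z` is a conjugate of `u` there. -/
theorem exists_conj_invol (hs : Short Z Ω) (L : LineSetup Z u a b A) (W : LineTwo Z u a A T)
    (ho : (orb (cHull Z a) b).ncard = Nat.card (el Z a) ^ 3) {i : G} (hi : i ∈ T) (hi2 : orderOf i = 2)
    (hiZ : i ∉ Z) : ∃ h ∈ T, i = h * u * h⁻¹ := by
  haveI := X.hyp.finite_points
  obtain ⟨hia, -⟩ := mem_cHull.1 (W.sylow.1 hi)
  obtain ⟨y, hy, hya⟩ := X.exists_fix_ne hi2 hiZ a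
  have hall : orb T b = {a}ᶜ := by
    rw [X.orb_two hs L W]
    exact Set.eq_of_subset_of_ncard_le
      (fun z hz (h : z = a) => X.notMem_orb L.ne.symm (h ▸ hz)) (by
        rw [ho, Set.ncard_compl, Set.ncard_singleton, X.card_points hs L.invol L.notMem L.fix_a]
        omega) (Set.toFinite _)
  obtain ⟨h, hh, rfl⟩ : y ∈ orb T b := by rw [hall]; exact hya
  refine ⟨h, hh, ?_⟩
  have h1 : h⁻¹ * i * h ∈ pairTwo Z a b T := by
    rw [← X.two_inf_stab W, Subgroup.mem_inf, mem_stabilizer_iff]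
    exact ⟨mul_mem (mul_mem (inv_mem hh) hi) hh, by rw [mul_smul, mul_smul, hy, inv_smul_smul]⟩
  rcases (X.pairTwo_two hs L W).1 _ h1 with h2 | h2
  · exfalso
    have : i = 1 := by
      calc i = h * (h⁻¹ * i * h) * h⁻¹ := by group
        _ = 1 := by rw [h2, mul_one, mul_inv_cancel]
    rw [this, orderOf_one] at hi2
    omega
  · rw [← h2]
    group

/-- The family normaliser is normal in the Sylow subgroup. -/
theorem fam_normal (hs : Short Z Ω) (L : LineSetup Z u a b A) (W : LineTwo Z u a A T)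
    (ho : (orb (cHull Z a) b).ncard = Nat.card (el Z a) ^ 3) :
    T ≤ normalizer (famTwo Z a b T : Set G) := by
  haveI : Fact (Nat.Prime 2) := ⟨Nat.prime_two⟩
  haveI := X.hyp.finite_points
  obtain ⟨n, hn, hq⟩ := X.exists_card_el a
  obtain ⟨N, hN⟩ : ∃ N, N = T ⊓ normalizer (famTwo Z a b T : Set G) := ⟨_, rfl⟩
  have hNT : N ≤ T := hN ▸ inf_le_left
  have hFN : famTwo Z a b T ≤ N := hN ▸ le_inf inf_le_left le_normalizer
  have hfam := X.orb_famTwo hs L W (X.mem_pairTwo_self L W) (X.invol_ne_one L)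
  have hlt : famTwo Z a b T < T := by
    refine lt_of_le_of_ne inf_le_left fun heq => ?_
    have h1 : orb T b = fam Z u a := by rw [← hfam, heq]
    have h2 := congrArg Set.ncard h1
    rw [X.orb_two hs L W, ho, X.ncard_fam hs L.invol L.notMem L.fix_a, hq, ← pow_mul, ← pow_add] at h2
    have := Nat.pow_right_injective (le_refl 2) h2
    omega
  haveI := W.sylow.2.1.isNilpotent
  have hn' := Group.normalizerCondition_of_isNilpotent ((famTwo Z a b T).subgroupOf T)
    (lt_top_iff_ne_top.2 fun h => hlt.not_ge (Subgroup.subgroupOf_eq_top.1 h))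
  obtain ⟨g, hg, hgn⟩ := Set.exists_of_ssubset hn'
  have hgN : (g : G) ∈ N := by
    rw [hN]
    refine ⟨g.2, Subgroup.mem_normalizer_iff.2 fun m => ⟨fun hm => ?_, fun hm => ?_⟩⟩
    · exact (Subgroup.mem_normalizer_iff.1 hg ⟨m, hm.1⟩).1 hm
    · have hmT : m ∈ T := by
        have := mul_mem (mul_mem (inv_mem g.2) hm.1) g.2
        rwa [show (g : G)⁻¹ * ((g : G) * m * (g : G)⁻¹) * g = m by group] at this
      exact (Subgroup.mem_normalizer_iff.1 hg ⟨m, hmT⟩).2 hm
  have hsub : fam Z u a ⊂ orb N b := by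
    refine Set.ssubset_iff_of_subset ?_ |>.2 ⟨(g : G) • b, ⟨g, hgN, rfl⟩,
      fun h => hgn (X.mem_famTwo_of_smul hs L W g.2 h)⟩
    rw [← hfam]
    rintro _ ⟨m, hm, rfl⟩
    exact ⟨m, hFN hm, rfl⟩
  have hlt2 := Set.ncard_lt_ncard hsub (Set.toFinite _)
  rw [X.ncard_fam hs L.invol L.notMem L.fix_a, hq, ← pow_add] at hlt2
  obtain ⟨j, hj⟩ := IsPGroup.iff_card.1 (W.sylow.2.1.to_le hNT)
  obtain ⟨i, -, hi⟩ := (Nat.dvd_prime_pow Nat.prime_two).1 (hj ▸ Dvd.intro _ (ncard_orb_mul N b))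
  rw [hi] at hlt2
  have hin := (Nat.pow_lt_pow_iff_right (by norm_num : 1 < 2)).1 hlt2
  have hdiv : Nat.card A ∣ (orb N b \ {b}).ncard := by
    refine X.torus_dvd hs L ?_ (fun h => h.2 rfl) ?_
    · rintro ⟨⟨m, hm, hma⟩, -⟩
      exact L.ne.symm (MulAction.injective m (hma.trans (mem_cHull.1 (W.sylow.1 (hNT hm))).1.symm))
    · rintro t ht _ ⟨⟨m, hm, rfl⟩, hmb⟩
      obtain ⟨hta, htb⟩ := L.fix t ht
      refine ⟨⟨t * m * t⁻¹, ?_, by rw [mul_smul, mul_smul, inv_smul_eq_iff.2 htb.symm]⟩, fun h => hmb ?_⟩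
      · rw [hN] at hm ⊢
        exact Subgroup.mem_inf.2 ⟨conj_mem_normalizer (W.norm ht) hm.1,
          mul_mem (mul_mem (X.torus_le_norm_fam hs L W ht) hm.2) (inv_mem (X.torus_le_norm_fam hs L W ht))⟩
      · rw [Set.mem_singleton_iff] at h ⊢
        exact MulAction.injective t (h.trans htb.symm)
  rw [Set.ncard_diff_singleton_of_mem (mem_orb_self N b), X.card_torus L, hq, hi] at hdiv
  obtain ⟨c, rfl⟩ := dvd_of_pow_sub_dvd (by omega) i hdiv
  have hc : 3 ≤ c := by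
    have : n * 2 < n * c := by omega
    have := Nat.lt_of_mul_lt_mul_left this
    omega
  have heq : orb N b = orb T b := by
    refine Set.eq_of_subset_of_ncard_le (fun x ⟨m, hm, hmx⟩ => ⟨m, hNT hm, hmx⟩) ?_ (Set.toFinite _)
    rw [X.orb_two hs L W, ho, hi, hq, ← pow_mul]
    exact Nat.pow_le_pow_right (by norm_num) (Nat.mul_le_mul_left n hc)
  intro h hh
  obtain ⟨m, hm, hmb⟩ : h • b ∈ orb N b := by rw [heq]; exact ⟨h, hh, rfl⟩
  have h1 : m⁻¹ * h ∈ pairTwo Z a b T := by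
    rw [← X.two_inf_stab W, Subgroup.mem_inf, mem_stabilizer_iff]
    exact ⟨mul_mem (inv_mem (hNT hm)) hh, by rw [mul_smul, ← hmb, inv_smul_smul]⟩
  have h2 := mul_mem hm (hFN (X.lineTwo_le_famTwo W L.ne.symm (Subgroup.mem_sup_right h1)))
  rw [mul_inv_cancel_left, hN] at h2
  exact h2.2

/-- The torus is transitive on the other cosets of the family normaliser. -/
theorem fam_cover (hs : Short Z Ω) (L : LineSetup Z u a b A) (W : LineTwo Z u a A T)
    (ho : (orb (cHull Z a) b).ncard = Nat.card (el Z a) ^ 3) {g h : G} (hg : g ∈ T) (hg' : g ∉ famTwo Z a b T)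
    (hh : h ∈ T) (hh' : h ∉ famTwo Z a b T) : ∃ t ∈ A, ∃ f ∈ famTwo Z a b T, h = t * g * t⁻¹ * f := by
  classical
  haveI := X.hyp.finite_points
  obtain ⟨n, hn, hq⟩ := X.exists_card_el a
  have hfam := X.orb_famTwo hs L W (X.mem_pairTwo_self L W) (X.invol_ne_one L)
  have hstab : ∀ {k : G}, k ∈ T → k • b = b → k ∈ famTwo Z a b T := fun {k} hk hkb => by
    refine X.lineTwo_le_famTwo W L.ne.symm (Subgroup.mem_sup_right ?_)
    rw [← X.two_inf_stab W, Subgroup.mem_inf, mem_stabilizer_iff]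
    exact ⟨hk, hkb⟩
  -- only the identity of the torus fixes another coset
  have hfree : ∀ s ∈ A, g⁻¹ * (s * g * s⁻¹) ∈ famTwo Z a b T → s = 1 := by
    intro s hs' hmem
    by_contra hs1
    obtain ⟨p, hp, hpd⟩ := Nat.exists_prime_and_dvd (fun h1 => hs1 (orderOf_eq_one_iff.1 h1))
    haveI := Fact.mk hp
    obtain ⟨r, hr⟩ : ∃ r, r = s ^ (orderOf s / p) := ⟨_, rfl⟩
    have hrp : orderOf r = p := hr ▸ orderOf_pow_orderOf_div (orderOf_pos s).ne' hpd
    obtain ⟨Y, hY⟩ : ∃ Y : Set Ω, Y = (g • ·) '' fam Z u a := ⟨_, rfl⟩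
    have hstep : ∀ y ∈ Y, s • y ∈ Y := by
      rw [hY, ← hfam]
      rintro _ ⟨_, ⟨f, hf, rfl⟩, rfl⟩
      obtain ⟨-, hsb⟩ := L.fix s hs'
      refine ⟨(g⁻¹ * (s * g * s⁻¹) * (s * f * s⁻¹)) • b,
        ⟨_, mul_mem hmem (X.torus_norm_fam hs L W hs' hf), rfl⟩, ?_⟩
      show g • _ = _
      rw [← mul_smul, show g * (g⁻¹ * (s * g * s⁻¹) * (s * f * s⁻¹)) = s * (g * f) * s⁻¹ by group,
        mul_smul, inv_smul_eq_iff.2 hsb.symm, mul_smul, mul_smul]
    have hpow : ∀ k : ℕ, ∀ y ∈ Y, (s ^ k) • y ∈ Y := by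
      intro k
      induction k with
      | zero => intro y hy; rwa [pow_zero, one_smul]
      | succ k ih => intro y hy; rw [pow_succ, mul_smul]; exact ih _ (hstep y hy)
    have hzp : ∀ k ∈ Subgroup.zpowers r, ∀ y ∈ Y, k • y ∈ Y := by
      intro k hk
      obtain ⟨i, rfl⟩ : ∃ i : ℕ, r ^ i = k := mem_powers_iff_mem_zpowers.2 hk
      rw [hr, ← pow_mul]
      exact hpow _
    letI : MulAction (Subgroup.zpowers r) Y :=
      { smul := fun k y => ⟨(k : G) • (y : Ω), hzp k k.2 y y.2⟩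
        one_smul := fun y => Subtype.ext (one_smul G (y : Ω))
        mul_smul := fun k k' y => Subtype.ext (mul_smul (k : G) (k' : G) (y : Ω)) }
    have hP : IsPGroup p (Subgroup.zpowers r) := IsPGroup.of_card (n := 1) (by rw [Nat.card_zpowers, hrp, pow_one])
    have hnd : ¬ p ∣ Nat.card Y := by
      rw [Nat.card_coe_set_eq, hY, Set.ncard_image_of_injective _ (MulAction.injective g),
        X.ncard_fam hs L.invol L.notMem L.fix_a]
      intro hd
      have h1 : p ∣ Nat.card (el Z a) - 1 :=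
        X.card_torus L ▸ hpd.trans (Subgroup.orderOf_mk s hs' ▸ orderOf_dvd_natCard (⟨s, hs'⟩ : A))
      have h2 := Nat.dvd_sub ((Nat.Prime.dvd_mul hp).1 hd |>.elim id id) h1
      rw [show Nat.card (el Z a) - (Nat.card (el Z a) - 1) = 1 by have := X.four_le_card_el a; omega] at h2
      exact hp.one_lt.ne' (Nat.dvd_one.1 h2)
    obtain ⟨⟨z, hz⟩, hzf⟩ := hP.nonempty_fixed_point_of_prime_not_dvd_card Y hnd
    have hrz : r • z = z := congrArg Subtype.val (hzf ⟨r, Subgroup.mem_zpowers r⟩)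
    rw [hY, ← hfam] at hz
    obtain ⟨_, ⟨f, hf, rfl⟩, rfl⟩ := hz
    rcases X.torus_fix hs L (hr ▸ pow_mem hs' _) (fun h => hp.one_lt.ne' (by rw [← hrp, h, orderOf_one])) hrz
      with h1 | h1
    · exact L.ne.symm (MulAction.injective (g * f) ((mul_smul g f b).trans (h1.trans
        (mem_cHull.1 (W.sylow.1 (mul_mem hg hf.1))).1.symm)))
    · have h2 := mul_mem (hstab (mul_mem hg hf.1) (by rw [mul_smul]; exact h1)) (inv_mem hf)
      rw [mul_inv_cancel_right] at h2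
      exact hg' h2
  obtain ⟨O, hO⟩ : ∃ O : Set Ω, O = {y | ∃ t ∈ A, ∃ f ∈ fam Z u a, (t * g * t⁻¹) • f = y} := ⟨_, rfl⟩
  have hconj : ∀ t ∈ A, t * g * t⁻¹ ∈ T := fun t ht => conj_mem_normalizer (W.norm ht) hg
  have hconj' : ∀ t ∈ A, t * g * t⁻¹ ∉ famTwo Z a b T := fun t ht h => hg' (by
    have := X.torus_norm_fam hs L W (inv_mem ht) h
    rwa [show t⁻¹ * (t * g * t⁻¹) * t⁻¹⁻¹ = g by group] at this)
  have hsub : O ⊆ orb T b \ fam Z u a := by
    rw [hO]
    rintro _ ⟨t, ht, y, hy, rfl⟩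
    rw [← hfam] at hy
    obtain ⟨f, hf, rfl⟩ := hy
    rw [← mul_smul]
    refine ⟨⟨_, mul_mem (hconj t ht) hf.1, rfl⟩, fun h1 => hconj' t ht ?_⟩
    have h2 := mul_mem (X.mem_famTwo_of_smul hs L W (mul_mem (hconj t ht) hf.1) h1) (inv_mem hf)
    rwa [mul_inv_cancel_right] at h2
  have hcard : O.ncard = Nat.card A * (fam Z u a).ncard := by
    rw [← Nat.card_coe_set_eq (fam Z u a), ← Nat.card_prod, ← Nat.card_coe_set_eq]
    refine (Nat.card_eq_of_bijective (fun p : A × fam Z u a => (⟨((p.1 : G) * g * (p.1 : G)⁻¹) • (p.2 : Ω), by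
      rw [hO]; exact ⟨p.1, p.1.2, p.2, p.2.2, rfl⟩⟩ : O)) ⟨?_, ?_⟩).symm
    · rintro ⟨⟨t, ht⟩, ⟨y, hy⟩⟩ ⟨⟨t', ht'⟩, ⟨y', hy'⟩⟩ he
      have he' : (t * g * t⁻¹) • y = (t' * g * t'⁻¹) • y' := congrArg Subtype.val he
      obtain rfl : t = t' := by
        rw [← hfam] at hy hy'
        obtain ⟨f, hf, rfl⟩ := hy
        obtain ⟨f', hf', rfl⟩ := hy'
        have h1 : (t' * g * t'⁻¹ * f')⁻¹ * (t * g * t⁻¹ * f) ∈ famTwo Z a b T :=
          hstab (mul_mem (inv_mem (mul_mem (hconj t' ht') hf'.1)) (mul_mem (hconj t ht) hf.1))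
            (by rw [mul_smul, mul_smul (t * g * t⁻¹), he', ← mul_smul (t' * g * t'⁻¹), inv_smul_smul])
        have h2 : (t' * g * t'⁻¹)⁻¹ * (t * g * t⁻¹) ∈ famTwo Z a b T := by
          have := mul_mem (mul_mem hf' h1) (inv_mem hf)
          rwa [show f' * ((t' * g * t'⁻¹ * f')⁻¹ * (t * g * t⁻¹ * f)) * f⁻¹ =
            (t' * g * t'⁻¹)⁻¹ * (t * g * t⁻¹) by group] at this
        have h3 := hfree (t'⁻¹ * t) (mul_mem (inv_mem ht') ht) (by
          have := X.torus_norm_fam hs L W (inv_mem ht') h2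
          rwa [show t'⁻¹ * ((t' * g * t'⁻¹)⁻¹ * (t * g * t⁻¹)) * t'⁻¹⁻¹ =
            g⁻¹ * (t'⁻¹ * t * g * (t'⁻¹ * t)⁻¹) by group] at this)
        exact (inv_mul_eq_one.1 h3).symm
      simp only [Prod.mk.injEq, Subtype.mk.injEq, true_and]
      exact MulAction.injective _ he'
    · rintro ⟨y, hy⟩
      obtain ⟨t, ht, f, hf, hfy⟩ := hO ▸ hy
      exact ⟨(⟨t, ht⟩, ⟨f, hf⟩), Subtype.ext hfy⟩
  have hOeq : O = orb T b \ fam Z u a := by
    refine Set.eq_of_subset_of_ncard_le hsub ?_ (Set.toFinite _)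
    have hl : fam Z u a ⊆ orb T b := by
      rw [← hfam]
      rintro _ ⟨m, hm, rfl⟩
      exact ⟨m, hm.1, rfl⟩
    rw [Set.ncard_sdiff hl (Set.toFinite _), X.orb_two hs L W, ho, hcard, X.card_torus L,
      X.ncard_fam hs L.invol L.notMem L.fix_a, Nat.sub_one_mul]
    exact le_of_eq (by ring_nf)
  have hhO : h • b ∈ O := by
    rw [hOeq]
    exact ⟨⟨h, hh, rfl⟩, fun h1 => hh' (X.mem_famTwo_of_smul hs L W hh h1)⟩
  rw [hO, ← hfam] at hhO
  obtain ⟨t, ht, _, ⟨f, hf, rfl⟩, hfb⟩ := hhO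
  refine ⟨t, ht, (t * g * t⁻¹)⁻¹ * h, ?_, by group⟩
  have h1 := hstab (mul_mem (inv_mem (mul_mem (hconj t ht) hf.1)) hh) (by
    rw [mul_smul, ← hfb, ← mul_smul (t * g * t⁻¹), inv_smul_smul])
  have h2 := mul_mem hf h1
  rwa [show f * ((t * g * t⁻¹ * f)⁻¹ * h) = (t * g * t⁻¹)⁻¹ * h by group] at h2

theorem two_conj_tr (hs : Short Z Ω) (L : LineSetup Z u a b A) (W : LineTwo Z u a A T)
    (ho : (orb (cHull Z a) b).ncard = Nat.card (el Z a) ^ 3) {h v : G} (hh : h ∈ T)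
    (hv : v ∈ trTwo Z a b A T) : h * v * h⁻¹ ∈ trTwo Z a b A T :=
  X.conj_trTwo hs L W (mem_cHull.1 (W.sylow.1 hh)).1
    (fun _ hg => conj_mem_normalizer (X.fam_normal hs L W ho hh) hg) hv

/-- The squares of the Sylow subgroup lie in the commutator part of the family normaliser. -/
theorem two_sq (hs : Short Z Ω) (L : LineSetup Z u a b A) (W : LineTwo Z u a A T)
    (ho : (orb (cHull Z a) b).ncard = Nat.card (el Z a) ^ 3) {g : G} (hg : g ∈ T) :
    g * g ∈ trTwo Z a b A T := by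
  classical
  by_cases hgF : g ∈ famTwo Z a b T
  · exact Subgroup.mem_sup_left (X.famTwo_sq hs L W hgF)
  have hn := X.fam_normal hs L W ho
  -- some element outside squares into it, so all do
  obtain ⟨g₀, hg₀, hg₀', hsq⟩ : ∃ g₀ ∈ T, g₀ ∉ famTwo Z a b T ∧ g₀ * g₀ ∈ famTwo Z a b T := by
    obtain ⟨k, hk⟩ := IsPGroup.iff_orderOf.1 W.sylow.2.1 ⟨g, hg⟩
    have hex : ∃ i, g ^ 2 ^ i ∈ famTwo Z a b T := ⟨k, by
      rw [← hk, Subgroup.orderOf_mk, pow_orderOf_eq_one]
      exact one_mem _⟩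
    obtain ⟨i, hi⟩ : ∃ i, i = Nat.find hex := ⟨_, rfl⟩
    have h0 : g ^ 2 ^ i ∈ famTwo Z a b T := hi ▸ Nat.find_spec hex
    rcases i with _ | i
    · rw [pow_zero, pow_one] at h0
      exact absurd h0 hgF
    refine ⟨g ^ 2 ^ i, pow_mem hg _, fun h => Nat.find_min hex (hi ▸ Nat.lt_succ_self i) h, ?_⟩
    rw [← pow_two, ← pow_mul, ← pow_succ]
    exact h0
  obtain ⟨t, ht, f, hf, hgt⟩ := X.fam_cover hs L W ho hg₀ hg₀' hg hgF
  have hc : t * g₀ * t⁻¹ ∈ T := conj_mem_normalizer (W.norm ht) hg₀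
  have hggF : g * g ∈ famTwo Z a b T := by
    have h1 := mul_mem (mul_mem (X.torus_norm_fam hs L W ht hsq)
      (conj_mem_normalizer (inv_mem (hn hc)) hf)) hf
    rw [show t * (g₀ * g₀) * t⁻¹ * ((t * g₀ * t⁻¹)⁻¹ * f * (t * g₀ * t⁻¹)⁻¹⁻¹) * f =
      t * g₀ * t⁻¹ * f * (t * g₀ * t⁻¹ * f) by group, ← hgt] at h1
    exact h1
  obtain ⟨v, hv, x, hx, hvx⟩ := X.famTwo_decomp hs L W hggF
  rcases (X.pairTwo_two hs L W).1 x hx with rfl | rfl
  · rw [hvx, mul_one]
    exact hv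
  exfalso
  have hnot : g * g ∉ trTwo Z a b A T := fun h => X.invol_ne_one L (X.trTwo_inf hs L W hx (by
    have := mul_mem (inv_mem hv) h
    rwa [hvx, inv_mul_cancel_left] at this))
  have h2 : orderOf (g * g) = 2 := by
    refine orderOf_two_iff.2 ⟨?_, fun h => hnot (h ▸ one_mem _)⟩
    rw [hvx]
    calc v * x * (v * x) = v * (x * v * x) := by group
      _ = 1 := by rw [(X.pairTwo_two hs L W).2 v hv, mul_inv_cancel]
  have hZ : g * g ∉ Z := fun h => hnot (Subgroup.mem_sup_left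
    (X.mem_el.2 (Or.inr ⟨h, (mem_cHull.1 (W.sylow.1 (mul_mem hg hg))).1⟩)))
  obtain ⟨h, hh, hhu⟩ := X.exists_conj_invol hs L W ho (mul_mem hg hg) h2 hZ
  obtain ⟨w, hw⟩ : ∃ w, w = h⁻¹ * g * h := ⟨_, rfl⟩
  have hwT : w ∈ T := hw ▸ mul_mem (mul_mem (inv_mem hh) hg) hh
  have hwu : Commute w x := by
    have h1 : w * w = x := by
      rw [hw, show h⁻¹ * g * h * (h⁻¹ * g * h) = h⁻¹ * (g * g) * h by group, hhu]
      group
    exact h1 ▸ (Commute.refl w).mul_right (Commute.refl w)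
  have hwb : x • w • b = w • b := by rw [← mul_smul, ← hwu.eq, mul_smul, L.fix_b]
  have hwF : w ∈ famTwo Z a b T := by
    refine X.lineTwo_le_famTwo W L.ne.symm ((X.mem_lineTwo W L.ne.symm).2 ⟨hwT, ?_⟩)
    rcases (X.fix_iff hs L.invol L.notMem L.ne L.fix_a L.fix_b).1 hwb with h1 | h1
    · exact absurd (MulAction.injective w (h1.trans (mem_cHull.1 (W.sylow.1 hwT)).1.symm)) L.ne.symm
    · exact h1
  have := conj_mem_normalizer (hn hh) hwF
  rw [hw, show h * (h⁻¹ * g * h) * h⁻¹ = g by group] at this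
  exact hgF this

/-- The involution lies outside the commutators with the torus. -/
theorem trLarge_notMem (hs : Short Z Ω) (L : LineSetup Z u a b A) (W : LineTwo Z u a A T)
    (ho : (orb (cHull Z a) b).ncard = Nat.card (el Z a) ^ 3) : u ∉ trLarge Z a b A T := fun hu => by
  have hodd : Odd (Nat.card A) := by
    obtain ⟨n, hn, hq⟩ := X.exists_card_el a
    rw [X.card_torus L, hq]
    exact Nat.Even.sub_odd Nat.one_le_two_pow (Nat.even_pow.2 ⟨even_two, by omega⟩) odd_one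
  refine X.invol_ne_one L (X.trTwo_inf hs L W (X.mem_pairTwo_self L W) ?_)
  exact Grp.fixed_mem_of_mem_commutator_sup hodd (fun t ht g hg => conj_mem_normalizer (W.norm ht) hg)
    ((X.trTwo_le hs L W).trans inf_le_left) (fun h hh v hv => X.two_conj_tr hs L W ho hh hv)
    (fun t ht v hv => X.torus_norm_tr hs L W ht hv) (fun g hg => X.two_sq hs L W ho hg) hu W.mem
    fun t ht => commute_of_mem_lgen (L.le ht)

theorem trLarge_le (hs : Short Z Ω) (L : LineSetup Z u a b A) (W : LineTwo Z u a A T) :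
    trLarge Z a b A T ≤ T :=
  sup_le ((X.trTwo_le hs L W).trans inf_le_left) (Grp.commutator_le_left_of_le_normalizer W.norm)

theorem trLarge_decomp (hs : Short Z Ω) (L : LineSetup Z u a b A) (W : LineTwo Z u a A T) {g : G} (hg : g ∈ T) :
    ∃ m ∈ trLarge Z a b A T, g = m ∨ g = m * u := by
  obtain ⟨m, hm, c, hc, rfl⟩ := Grp.exists_commutator_mul_fixed A T W.norm
    ((X.coprime_torus_cHull hs L).coprime_dvd_right (Subgroup.card_dvd_of_le W.sylow.1))
    (Or.inl (isSolvable_of_comm fun s t => Subtype.ext (L.comm s s.2 t t.2))) hg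
  refine ⟨m, Subgroup.mem_sup_right hm, ?_⟩
  rcases (X.pairTwo_two hs L W).1 c
    (X.two_fixed hs L W hc.1 fun t ht => Subgroup.mem_centralizer_iff.1 hc.2 t ht) with rfl | rfl
  · exact Or.inl (mul_one m)
  · exact Or.inr rfl

end Setting

end Cfsg.Agent.Invol.Aschbacher.Last
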