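import Cfsg.Agent.Lib.Invol.Aschbacher.Last.LineSylow

/-!
# The involution inverts the translations of its family

The commutator part of the family normaliser has its involutions in `el Z a`; so an element of the pair part making an
involution with one of its elements inverts it, which leaves the pair part `{1, u}` and makes `u` invert it.
-/

set_option autoImplicit false
set_option linter.unusedSectionVars false

namespace Cfsg.Agent.Invol.Aschbacher.Last

open MulAction Subgroup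
open scoped commutatorElement Pointwise
open Cfsg.Agent.Invol.Bender (pairStab mem_pair conj_smul_smul)

universe u

variable {G : Type u} [Group G] [Finite G] {Ω : Type u} [MulAction G Ω] {Z : Set G}

namespace Setting

variable (X : Setting G Ω Z) {u : G} {a b : Ω} {A T : Subgroup G}
include X

theorem torus_norm_tr (hs : Short Z Ω) (L : LineSetup Z u a b A) (W : LineTwo Z u a A T) {t : G} (ht : t ∈ A)
    {v : G} (hv : v ∈ trTwo Z a b A T) : t * v * t⁻¹ ∈ trTwo Z a b A T := by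
  have hle : trTwo Z a b A T ≤ (trTwo Z a b A T).comap (MulAut.conj t).toMonoidHom := by
    refine sup_le (fun e he => Subgroup.mem_sup_left (X.conj_el (L.fix t ht).1 he))
      ((Subgroup.commutator_le).2 fun g hg s hs' => ?_)
    show t * ⁅g, s⁆ * t⁻¹ ∈ trTwo Z a b A T
    rw [show t * ⁅g, s⁆ * t⁻¹ = ⁅t * g * t⁻¹, t * s * t⁻¹⁆ by simp only [commutatorElement_def]; group]
    exact Subgroup.mem_sup_right (Subgroup.commutator_mem_commutator (X.torus_norm_fam hs L W ht hg)
      (mul_mem (mul_mem ht hs') (inv_mem ht)))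
  exact hle hv

/-- The commutator part meets the line stabiliser in the translations. -/
theorem trTwo_line (hs : Short Z Ω) (L : LineSetup Z u a b A) (W : LineTwo Z u a A T) {v : G}
    (hv : v ∈ trTwo Z a b A T) (hvl : v ∈ lineTwo Z a b T) : v ∈ el Z a := by
  obtain ⟨e, he, x, hx, rfl⟩ := X.lineTwo_decomp W L.ne.symm hvl
  have h : x ∈ trTwo Z a b A T := by
    have := mul_mem (inv_mem (Subgroup.mem_sup_left he : e ∈ trTwo Z a b A T)) hv
    rwa [inv_mul_cancel_left] at this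
  rw [X.trTwo_inf hs L W hx h, mul_one]
  exact he

/-- The elements outside the translations are torus conjugates of one of them up to translations. -/
theorem trTwo_cover (hs : Short Z Ω) (L : LineSetup Z u a b A) (W : LineTwo Z u a A T) {v w : G}
    (hv : v ∈ trTwo Z a b A T) (hv' : v ∉ el Z a) (hw : w ∈ trTwo Z a b A T) (hw' : w ∉ el Z a) :
    ∃ t ∈ A, ∃ e ∈ el Z a, w = t * v * t⁻¹ * e := by
  obtain ⟨t, ht, s, hs', hws⟩ := X.exists_torus_conj hs L W (X.trTwo_le hs L W hv)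
    (fun h => hv' (X.trTwo_line hs L W hv h)) (X.trTwo_le hs L W hw) (fun h => hw' (X.trTwo_line hs L W hw h))
  refine ⟨t, ht, s, X.trTwo_line hs L W ?_ hs', hws⟩
  have h1 := mul_mem (inv_mem (X.torus_norm_tr hs L W ht hv)) hw
  rwa [hws, inv_mul_cancel_left] at h1

/-- The commutator part has no involution outside the translations. -/
theorem trTwo_invol (hs : Short Z Ω) (L : LineSetup Z u a b A) (W : LineTwo Z u a A T) {i : G}
    (hi : i ∈ trTwo Z a b A T) (hii : i * i = 1) : i ∈ el Z a := by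
  classical
  by_contra hi'
  have S := X.hyp
  haveI := S.finite_points
  have hiH : i ∈ cHull Z a := W.sylow.1 (X.trTwo_le hs L W hi).1
  obtain ⟨hia, -⟩ := mem_cHull.1 hiH
  have hi2 : orderOf i = 2 := orderOf_two_iff.2 ⟨hii, fun h => hi' (h ▸ one_mem _)⟩
  have hiZ : i ∉ Z := fun h => hi' (X.mem_el.2 (Or.inr ⟨h, hia⟩))
  have hsq : ∀ v ∈ trTwo Z a b A T, v * v = 1 := by
    intro v hv
    by_cases hv' : v ∈ el Z a
    · exact X.el_mul_self hv'
    obtain ⟨t, ht, e, he, rfl⟩ := X.trTwo_cover hs L W hi hi' hv hv'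
    have hc : Commute e (t * i * t⁻¹) :=
      X.el_comm (mem_cHull.1 (X.conj_cHull (L.fix t ht).1 hiH)).2 he
    calc t * i * t⁻¹ * e * (t * i * t⁻¹ * e) = t * i * t⁻¹ * (e * (t * i * t⁻¹)) * e := by group
      _ = t * i * t⁻¹ * (t * i * t⁻¹ * e) * e := by rw [hc.eq]
      _ = t * (i * i) * t⁻¹ * (e * e) := by group
      _ = 1 := by rw [hii, X.el_mul_self he, mul_one, mul_one, mul_inv_cancel]
  have hcomm : ∀ v ∈ trTwo Z a b A T, Commute v i := fun v hv => by
    have h1 := inv_eq_of_mul_eq_one_right (hsq _ (mul_mem hv hi))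
    rw [mul_inv_rev, inv_eq_of_mul_eq_one_right hii, inv_eq_of_mul_eq_one_right (hsq v hv)] at h1
    exact h1.symm
  -- the lines stabilised by all of it form the family of `i`
  obtain ⟨F, hF⟩ : ∃ F : Set Ω, F = {y | y ≠ a ∧ ∀ v ∈ trTwo Z a b A T, v • y ∈ lineOff Z a y} := ⟨_, rfl⟩
  have hFeq : F = fam Z i a := by
    ext y
    rw [hF]
    constructor
    · rintro ⟨hya, hy⟩
      obtain ⟨e, he, hey⟩ := hy i hi
      refine ⟨hya, e, he, ?_⟩
      rw [mul_smul, X.smul_el hiH he, ← hey, ← mul_smul, X.el_mul_self he, one_smul]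
    · rintro ⟨hya, e, he, hey⟩
      refine ⟨hya, fun v hv => ?_⟩
      have hvH : v ∈ cHull Z a := W.sylow.1 (X.trTwo_le hs L W hv).1
      obtain ⟨h1, h2, h3⟩ := X.mul_el_notMem hi2 hiZ hia he
      have hvc : Commute v (i * e) := (hcomm v hv).mul_right (X.el_comm (mem_cHull.1 hvH).2 he).symm
      have h4 : (i * e) • v • y = v • y := by rw [← mul_smul, ← hvc.eq, mul_smul, hey]
      rcases (X.fix_iff hs h1 h2 hya.symm h3 hey).1 h4 with h | h
      · exact absurd (MulAction.injective v (h.trans (mem_cHull.1 hvH).1.symm)) hya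
      · exact h
  have hdvd : Nat.card A ∣ (fam Z i a).ncard := by
    rw [← hFeq]
    refine X.torus_dvd hs L (fun h => ?_) (fun h => hi' ?_) fun t ht y hy => ?_
    · rw [hF] at h
      exact h.1 rfl
    · rw [hF] at h
      exact X.trTwo_line hs L W hi ((X.mem_lineTwo W L.ne.symm).2 ⟨(X.trTwo_le hs L W hi).1, h.2 i hi⟩)
    · rw [hF] at hy ⊢
      obtain ⟨hta, -⟩ := L.fix t ht
      refine ⟨fun h => hy.1 (MulAction.injective t (h.trans hta.symm)), fun v hv => ?_⟩
      obtain ⟨e, he, hey⟩ := hy.2 (t⁻¹ * v * t⁻¹⁻¹) (X.torus_norm_tr hs L W (inv_mem ht) hv)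
      refine ⟨t * e * t⁻¹, X.conj_el hta he, ?_⟩
      rw [mul_smul, mul_smul, inv_smul_smul, hey, inv_inv, mul_smul, mul_smul, smul_inv_smul]
  rw [X.ncard_fam hs hi2 hiZ hia, X.card_torus L] at hdvd
  have h4 := X.four_le_card_el a
  obtain ⟨q, hq⟩ : ∃ q, Nat.card (el Z a) = q + 4 := ⟨_ - 4, (Nat.sub_add_cancel h4).symm⟩
  rw [hq, show q + 4 - 1 = q + 3 by omega, show (q + 4) * (q + 4) = (q + 3) * (q + 5) + 1 by ring] at hdvd
  have h1 := Nat.le_of_dvd one_pos ((Nat.dvd_add_right (dvd_mul_right _ _)).1 hdvd)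
  omega

/-- An element of the pair part making an involution with the commutator part inverts it. -/
theorem inverts_of_invol (hs : Short Z Ω) (L : LineSetup Z u a b A) (W : LineTwo Z u a A T) {v y : G}
    (hv : v ∈ trTwo Z a b A T) (hv' : v ∉ el Z a) (hy : y ∈ pairTwo Z a b T) (hvy : v * y * (v * y) = 1) :
    ∀ w ∈ trTwo Z a b A T, y * w * y = w⁻¹ := by
  have hyy := X.pairTwo_sq hs L W hy
  have hyv : y * v * y = v⁻¹ := by
    rw [eq_inv_iff_mul_eq_one]
    calc y * v * y * v = v⁻¹ * (v * y * (v * y)) * v := by group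
      _ = 1 := by rw [hvy, mul_one, inv_mul_cancel]
  intro w hw
  have hel : ∀ e ∈ el Z a, Commute e y := fun e he => X.el_comm (mem_cPair.1 (X.mem_pairTwo.1 hy).2).2.2 he
  by_cases hw' : w ∈ el Z a
  · rw [← (hel w hw').eq, mul_assoc, hyy, mul_one, inv_eq_of_mul_eq_one_right (X.el_mul_self hw')]
  obtain ⟨t, ht, e, he, rfl⟩ := X.trTwo_cover hs L W hv hv' hw hw'
  have hty := X.torus_pairTwo hs L ht hy
  have hvH : v ∈ cHull Z a := W.sylow.1 (X.trTwo_le hs L W hv).1
  have hte : Commute e (t * v⁻¹ * t⁻¹) :=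
    X.el_comm (mem_cHull.1 (X.conj_cHull (L.fix t ht).1 (inv_mem hvH))).2 he
  calc y * (t * v * t⁻¹ * e) * y = y * t * v * t⁻¹ * (e * y) := by group
    _ = t * y * v * (t⁻¹ * y) * e := by rw [(hel e he).eq, ← hty.eq]; group
    _ = t * (y * v * y) * t⁻¹ * e := by rw [hty.inv_left.eq]; group
    _ = (t * v * t⁻¹ * e)⁻¹ := by
      rw [hyv, ← hte.eq, mul_inv_rev, inv_eq_of_mul_eq_one_right (X.el_mul_self he)]
      group

/-- There is an element of the commutator part outside the translations. -/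
theorem exists_trTwo (hs : Short Z Ω) (L : LineSetup Z u a b A) (W : LineTwo Z u a A T) :
    ∃ v ∈ trTwo Z a b A T, v ∉ el Z a := by
  obtain ⟨g, hg, hg', -⟩ := X.exists_two_outside hs L W
  obtain ⟨v, hv, x, hx, rfl⟩ := X.famTwo_decomp hs L W hg
  exact ⟨v, hv, fun h => hg' (Subgroup.mul_mem_sup h hx)⟩

/-- The inverting element is unique. -/
theorem inverts_unique (hs : Short Z Ω) (L : LineSetup Z u a b A) (W : LineTwo Z u a A T) {y y' : G}
    (hy : y ∈ pairTwo Z a b T) (hy' : y' ∈ pairTwo Z a b T) (h : ∀ w ∈ trTwo Z a b A T, y * w * y = w⁻¹)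
    (h' : ∀ w ∈ trTwo Z a b A T, y' * w * y' = w⁻¹) : y = y' := by
  by_contra hne
  have hyy := X.pairTwo_sq hs L W hy
  have hyy' := X.pairTwo_sq hs L W hy'
  have hx1 : y * y' ≠ 1 := fun e => hne (by rwa [mul_eq_one_iff_eq_inv, inv_eq_of_mul_eq_one_right hyy'] at e)
  obtain ⟨hx2, hxZ, hxa, hxb⟩ := X.pairTwo_invol hs L W (mul_mem hy hy') hx1
  obtain ⟨v, hv, hv'⟩ := X.exists_trTwo hs L W
  have hc : y * y' * v = v * (y * y') := by
    have e1 : y' * v * y' = y * v * y := by rw [h v hv, h' v hv]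
    calc y * y' * v = y * (y' * v * y') * y' := by
          rw [show y * (y' * v * y') * y' = y * y' * v * (y' * y') by group, hyy', mul_one]
      _ = (y * y) * v * (y * y') := by rw [e1]; group
      _ = v * (y * y') := by rw [hyy, one_mul]
  have hvT := (X.trTwo_le hs L W hv).1
  obtain ⟨hva, -⟩ := mem_cHull.1 (W.sylow.1 hvT)
  have h5 : (y * y') • v • b = v • b := by rw [← mul_smul, hc, mul_smul, hxb]
  refine hv' (X.trTwo_line hs L W hv ((X.mem_lineTwo W L.ne.symm).2 ⟨hvT, ?_⟩))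
  rcases (X.fix_iff hs hx2 hxZ L.ne hxa hxb).1 h5 with h6 | h6
  · exact absurd (MulAction.injective v (h6.trans hva.symm)) L.ne.symm
  · exact h6

/-- A point off the family with enough stabiliser in the family normaliser pins down the pair part. -/
theorem pairTwo_two_of (hs : Short Z Ω) (L : LineSetup Z u a b A) (W : LineTwo Z u a A T) {y₀ : Ω} (hy₀ : y₀ ≠ a)
    (hy₀' : y₀ ∉ fam Z u a)
    (hcard : Nat.card (pairTwo Z a b T) ≤ Nat.card ↥(famTwo Z a b T ⊓ stabilizer G y₀)) :
    (∀ x ∈ pairTwo Z a b T, x = 1 ∨ x = u) ∧ ∀ w ∈ trTwo Z a b A T, u * w * u = w⁻¹ := by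
  classical
  have hu : u ∈ pairTwo Z a b T := X.mem_pairTwo.2 ⟨W.mem, X.invol_mem_cPair L.invol L.fix_a L.fix_b⟩
  have hu1 : u ≠ 1 := fun h => by have := L.invol; rw [h, orderOf_one] at this; omega
  obtain ⟨Y, hY⟩ : ∃ Y, Y = famTwo Z a b T ⊓ stabilizer G y₀ := ⟨_, rfl⟩
  rw [← hY] at hcard
  have key : ∀ g ∈ Y, g ≠ 1 → g * g = 1 ∧ ∃ v ∈ trTwo Z a b A T, ∃ y ∈ pairTwo Z a b T, g = v * y ∧ y ≠ 1 ∧
      ∀ w ∈ trTwo Z a b A T, y * w * y = w⁻¹ := by
    intro g hg hg1
    rw [hY, Subgroup.mem_inf, mem_stabilizer_iff] at hg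
    obtain ⟨hgF, hgy⟩ := hg
    have hgg : g * g = 1 := X.el_semiregular hy₀ (X.famTwo_sq hs L W hgF) (by rw [mul_smul, hgy, hgy])
    obtain ⟨v, hv, y, hy, rfl⟩ := X.famTwo_decomp hs L W hgF
    have hy1 : y ≠ 1 := fun h => hg1 (by
      rw [h, mul_one] at hgg hgy ⊢
      exact X.el_semiregular hy₀ (X.trTwo_invol hs L W hv hgg) hgy)
    refine ⟨hgg, v, hv, y, hy, rfl, hy1, X.inverts_of_invol hs L W hv (fun hve => hy₀' ?_) hy hgg⟩
    rw [← X.orb_famTwo hs L W hu hu1, X.orb_famTwo hs L W hy hy1]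
    exact ⟨hy₀, v, hve, by
      rw [← (X.el_comm (mem_cPair.1 (X.mem_pairTwo.1 hy).2).2.2 hve).eq]
      exact hgy⟩
  -- it has at most two elements
  have hY2 : Nat.card Y ≤ 2 := by
    by_contra hlt
    push Not at hlt
    obtain ⟨⟨g, hg⟩, hg1⟩ : ∃ g : Y, g ≠ 1 := by
      haveI : Nontrivial Y := Finite.one_lt_card_iff_nontrivial.1 (by omega)
      exact exists_ne 1
    obtain ⟨⟨g', hg'⟩, hgg'1, hgg'⟩ : ∃ g' : Y, g' ≠ 1 ∧ g' ≠ ⟨g, hg⟩ := by
      by_contra hcon
      push Not at hcon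
      haveI := Fintype.ofFinite Y
      have h1 : Fintype.card Y ≤ ({1, ⟨g, hg⟩} : Finset Y).card := Finset.card_le_card fun z _ => by
        rcases eq_or_ne z 1 with h | h
        · simp [h]
        · simp [hcon z h]
      have h2 : ({1, ⟨g, hg⟩} : Finset Y).card ≤ 2 := Finset.card_le_two
      rw [Nat.card_eq_fintype_card] at hlt
      omega
    obtain ⟨hgg, v, hv, y, hy, hvy, hy1, hinv⟩ := key g hg fun h => hg1 (Subtype.ext h)
    obtain ⟨hgg2, v', hv', y', hy', hvy', -, hinv'⟩ := key g' hg' fun h => hgg'1 (Subtype.ext h)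
    obtain rfl := X.inverts_unique hs L W hy hy' hinv hinv'
    have hprod : g * g' ∈ trTwo Z a b A T := by
      rw [hvy, hvy', show v * y * (v' * y) = v * (y * v' * y) by group, hinv v' hv']
      exact mul_mem hv (inv_mem hv')
    have hne : g * g' ≠ 1 := fun e => hgg' (Subtype.ext (by
      rw [mul_eq_one_iff_eq_inv'] at e
      show g' = g
      rw [e, inv_eq_of_mul_eq_one_right hgg]))
    obtain ⟨hg2, -⟩ := key _ (mul_mem hg hg') hne
    have hp := mul_mem hg hg'
    rw [hY, Subgroup.mem_inf, mem_stabilizer_iff] at hp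
    exact hne (X.el_semiregular hy₀ (X.trTwo_invol hs L W hprod hg2) hp.2)
  have hX : ∀ x ∈ pairTwo Z a b T, x = 1 ∨ x = u := by
    intro x hx
    by_contra hcon
    push Not at hcon
    haveI := Fintype.ofFinite (pairTwo Z a b T)
    have h1 : ({1, ⟨u, hu⟩, ⟨x, hx⟩} : Finset (pairTwo Z a b T)).card ≤ Fintype.card (pairTwo Z a b T) :=
      Finset.card_le_univ _
    rw [Finset.card_insert_of_notMem (by
        simp only [Finset.mem_insert, Finset.mem_singleton, not_or]
        exact ⟨fun h => hu1 (congrArg Subtype.val h).symm, fun h => hcon.1 (congrArg Subtype.val h).symm⟩),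
      Finset.card_pair (fun h => hcon.2 (congrArg Subtype.val h).symm)] at h1
    rw [Nat.card_eq_fintype_card] at hcard
    omega
  refine ⟨hX, ?_⟩
  obtain ⟨⟨g, hg⟩, hg1⟩ : ∃ g : Y, g ≠ 1 := by
    haveI : Nontrivial (pairTwo Z a b T) := ⟨⟨u, hu⟩, 1, fun h => hu1 (congrArg Subtype.val h)⟩
    have h2 : 1 < Nat.card Y := lt_of_lt_of_le Finite.one_lt_card hcard
    haveI : Nontrivial Y := Finite.one_lt_card_iff_nontrivial.1 h2
    exact exists_ne 1
  obtain ⟨-, v, hv, y, hy, -, hy1, hinv⟩ := key g hg fun h => hg1 (Subtype.ext h)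
  rwa [(hX y hy).resolve_left hy1] at hinv

/-- The pair part is `{1, u}` and `u` inverts the commutator part. -/
theorem pairTwo_two (hs : Short Z Ω) (L : LineSetup Z u a b A) (W : LineTwo Z u a A T) :
    (∀ x ∈ pairTwo Z a b T, x = 1 ∨ x = u) ∧ ∀ w ∈ trTwo Z a b A T, u * w * u = w⁻¹ := by
  classical
  have S := X.hyp
  haveI := S.finite_points
  obtain ⟨n, hn, hq⟩ := X.exists_card_el a
  have hu : u ∈ pairTwo Z a b T := X.mem_pairTwo.2 ⟨W.mem, X.invol_mem_cPair L.invol L.fix_a L.fix_b⟩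
  have hu1 : u ≠ 1 := fun h => by have := L.invol; rw [h, orderOf_one] at this; omega
  have hfam := X.orb_famTwo hs L W hu hu1
  have hstab : ∀ x : Ω, T ⊓ stabilizer G x ≤ cHull Z a := fun x => inf_le_left.trans W.sylow.1
  have hXb : T ⊓ stabilizer G b = pairTwo Z a b T := by
    rw [pairTwo, ← X.cHull_inf a b, ← inf_assoc, inf_eq_left.2 W.sylow.1]
  rcases X.orb_cases hs L with ho | ho
  · have heq : orb T b = fam Z u a := by
      refine (Set.eq_of_subset_of_ncard_le ?_ ?_ (Set.toFinite _)).symm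
      · rw [← hfam]
        rintro _ ⟨g, hg, rfl⟩
        exact ⟨g, hg.1, rfl⟩
      · rw [X.orb_two hs L W, ho, X.ncard_fam hs L.invol L.notMem L.fix_a, pow_two]
    have hTF : famTwo Z a b T = T := by
      refine le_antisymm inf_le_left fun g hg => ?_
      obtain ⟨m, hm, hmb⟩ : g • b ∈ orb (famTwo Z a b T) b := by rw [hfam, ← heq]; exact ⟨g, hg, rfl⟩
      have h1 : m⁻¹ * g ∈ pairTwo Z a b T := by
        rw [← hXb, Subgroup.mem_inf, mem_stabilizer_iff]
        exact ⟨mul_mem (inv_mem hm.1) hg, by rw [mul_smul, ← hmb, inv_smul_smul]⟩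
      have h2 := mul_mem hm (X.lineTwo_le_famTwo W L.ne.symm (Subgroup.mem_sup_right h1))
      rwa [mul_inv_cancel_left] at h2
    obtain ⟨y₀, hy₀, hy₀'⟩ : ∃ y : Ω, y ≠ a ∧ y ∉ fam Z u a := by
      by_contra hcon
      push Not at hcon
      have h1 := Set.ncard_le_ncard (show {y : Ω | y ≠ a} ⊆ fam Z u a from hcon) (Set.toFinite _)
      rw [show ({y : Ω | y ≠ a}) = {a}ᶜ from rfl, Set.ncard_compl, Set.ncard_singleton,
        X.card_points hs L.invol L.notMem L.fix_a, Nat.add_sub_cancel, X.ncard_fam hs L.invol L.notMem L.fix_a, hq,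
        ← pow_mul, ← pow_add] at h1
      have := (Nat.pow_le_pow_iff_right (by norm_num : 1 < 2)).1 h1
      omega
    refine X.pairTwo_two_of hs L W hy₀ hy₀' ?_
    rw [hTF]
    have h1 := ncard_orb_mul T b
    rw [hXb, X.orb_two hs L W, ← ncard_orb_mul T y₀] at h1
    have h2 : (orb T y₀).ncard ≤ (orb (cHull Z a) b).ncard := by
      rw [← X.ncard_orb_eq L.ne.symm hy₀]
      exact Set.ncard_le_ncard (fun x ⟨g, hg, hgx⟩ => ⟨g, W.sylow.1 hg, hgx⟩) (Set.toFinite _)
    refine Nat.le_of_mul_le_mul_left ?_ ((Set.ncard_pos (Set.toFinite _)).2 ⟨b, mem_orb_self (cHull Z a) b⟩)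
    calc (orb (cHull Z a) b).ncard * Nat.card (pairTwo Z a b T)
        = (orb T y₀).ncard * Nat.card ↥(T ⊓ stabilizer G y₀) := h1
      _ ≤ _ := Nat.mul_le_mul_right _ h2
  · have hlt : famTwo Z a b T < T := by
      refine lt_of_le_of_ne inf_le_left fun heq => ?_
      have h1 : orb T b = fam Z u a := by rw [← hfam, heq]
      have h2 := congrArg Set.ncard h1
      rw [X.orb_two hs L W, ho, X.ncard_fam hs L.invol L.notMem L.fix_a, hq, ← pow_mul, ← pow_add] at h2
      have := Nat.pow_right_injective (le_refl 2) h2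
      omega
    haveI := W.sylow.2.1.isNilpotent
    have hn' := Group.normalizerCondition_of_isNilpotent ((famTwo Z a b T).subgroupOf T)
      (lt_top_iff_ne_top.2 fun h => hlt.not_ge (Subgroup.subgroupOf_eq_top.1 h))
    obtain ⟨g, hg, hgn⟩ := Set.exists_of_ssubset hn'
    have hgF : ∀ m ∈ famTwo Z a b T, (g : G) * m * (g : G)⁻¹ ∈ famTwo Z a b T := fun m hm =>
      (Subgroup.mem_normalizer_iff.1 hg ⟨m, hm.1⟩).1 hm
    obtain ⟨hga, -⟩ := mem_cHull.1 (W.sylow.1 g.2)
    refine X.pairTwo_two_of hs L W (y₀ := (g : G) • b)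
      (fun h => L.ne.symm (MulAction.injective (g : G) (h.trans hga.symm))) (fun h => hgn ?_) ?_
    · rw [← hfam] at h
      obtain ⟨m, hm, hmb⟩ := h
      have h1 : m⁻¹ * g ∈ pairTwo Z a b T := by
        rw [← hXb, Subgroup.mem_inf, mem_stabilizer_iff]
        exact ⟨mul_mem (inv_mem hm.1) g.2, by rw [mul_smul, ← hmb, inv_smul_smul]⟩
      have h2 := mul_mem hm (X.lineTwo_le_famTwo W L.ne.symm (Subgroup.mem_sup_right h1))
      rw [mul_inv_cancel_left] at h2
      exact h2
    · refine Nat.card_le_card_of_injective (fun x : pairTwo Z a b T =>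
        (⟨(g : G) * x * (g : G)⁻¹, hgF x (X.lineTwo_le_famTwo W L.ne.symm (Subgroup.mem_sup_right x.2)),
          mem_stabilizer_iff.2 (by
            rw [mul_smul, mul_smul, inv_smul_smul, (mem_cPair.1 (X.mem_pairTwo.1 x.2).2).2.1])⟩ :
          ↥(famTwo Z a b T ⊓ stabilizer G ((g : G) • b)))) fun x y hxy => ?_
      exact Subtype.ext (mul_left_cancel (mul_right_cancel (congrArg Subtype.val hxy)))

theorem trTwo_comm (hs : Short Z Ω) (L : LineSetup Z u a b A) (W : LineTwo Z u a A T) {v w : G}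
    (hv : v ∈ trTwo Z a b A T) (hw : w ∈ trTwo Z a b A T) : Commute v w := by
  obtain ⟨-, hinv⟩ := X.pairTwo_two hs L W
  have huu := mul_self_of_orderOf_two L.invol
  have e1 : v⁻¹ * w⁻¹ = (v * w)⁻¹ := by
    rw [← hinv v hv, ← hinv w hw, ← hinv _ (mul_mem hv hw)]
    calc u * v * u * (u * w * u) = u * v * (u * u) * w * u := by group
      _ = u * (v * w) * u := by rw [huu, mul_one]; group
  exact (inv_injective (by rw [← e1, mul_inv_rev]) : w * v = v * w).symm

end Setting

end Cfsg.Agent.Invol.Aschbacher.Last
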