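import Cfsg.Agent.Lib.Invol.Aschbacher.Last.LineTorusTwo
import Cfsg.Agent.Lib.Invol.Aschbacher.Transfer
import Cfsg.Agent.Lib.Grp.FourDet

/-!
# `cHull` at a short line with an orbit of `q ^ 2` points

The pair group is `{1, u}`, so `cHull` is the family normaliser and its commutator part is a homocyclic normal
subgroup of the point stabiliser of order `q ^ 2`, which `u` inverts: its rank is even, by the determinant.
-/

set_option autoImplicit false
set_option linter.unusedSectionVars false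

namespace Cfsg.Agent.Invol.Aschbacher.Last

open MulAction Subgroup
open Cfsg.Agent.Invol.Bender (pairStab mem_pair conj_smul_smul)

universe u

variable {G : Type u} [Group G] [Finite G] {Ω : Type u} [MulAction G Ω] {Z : Set G}

omit [Finite G] in
theorem orb_eq_of_mem {M : Subgroup G} {y z : Ω} (hz : z ∈ orb M y) : orb M z = orb M y := by
  obtain ⟨m, hm, rfl⟩ := hz
  ext x
  constructor
  · rintro ⟨k, hk, rfl⟩
    exact ⟨k * m, mul_mem hk hm, mul_smul k m y⟩
  · rintro ⟨k, hk, rfl⟩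
    exact ⟨k * m⁻¹, mul_mem hk (inv_mem hm), by rw [mul_smul, inv_smul_smul]⟩

namespace Setting

variable (X : Setting G Ω Z) {u : G} {a b : Ω} {A T : Subgroup G}
include X

theorem exists_other_orbit (hs : Short Z Ω) (L : LineSetup Z u a b A)
    (ho : (orb (cHull Z a) b).ncard = Nat.card (el Z a) ^ 2) : ∃ y : Ω, y ≠ a ∧ y ∉ orb (cHull Z a) b := by
  haveI := X.hyp.finite_points
  obtain ⟨n, hn, hq⟩ := X.exists_card_el a
  by_contra h
  push Not at h
  have h1 := Set.ncard_le_ncard (show {y : Ω | y ≠ a} ⊆ orb (cHull Z a) b from h) (Set.toFinite _)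
  rw [show ({y : Ω | y ≠ a}) = {a}ᶜ from rfl, Set.ncard_compl, Set.ncard_singleton, ho,
    X.card_points hs L.invol L.notMem L.fix_a, Nat.add_sub_cancel, hq, ← pow_mul, ← pow_mul] at h1
  have := (Nat.pow_le_pow_iff_right (by norm_num : 1 < 2)).1 h1
  omega

/-- The pair group has two elements. -/
theorem card_cPair_two (hs : Short Z Ω) (L : LineSetup Z u a b A) (W : LineTwo Z u a A T)
    (ho : (orb (cHull Z a) b).ncard = Nat.card (el Z a) ^ 2) : Nat.card (cPair Z a b) = 2 := by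
  haveI := X.hyp.finite_points
  obtain ⟨m, hm, hK⟩ := X.card_cPair hs L W
  rcases eq_or_ne m 1 with rfl | hm1
  · rw [hK]
  exfalso
  obtain ⟨p, hp, hpm⟩ := Nat.exists_prime_and_dvd hm1
  haveI := Fact.mk hp
  have hp2 : p ≠ 2 := fun h => Nat.not_even_iff_odd.2 hm (even_iff_two_dvd.2 (h ▸ hpm))
  obtain ⟨⟨k, hk⟩, hkp'⟩ := exists_prime_orderOf_dvd_card' (G := cPair Z a b) p (hK ▸ hpm.mul_left 2)
  have hkp : orderOf k = p := by rw [← hkp', Subgroup.orderOf_mk]
  obtain ⟨y, hy, hyo⟩ := X.exists_other_orbit hs L ho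
  have hinv : ∀ g ∈ Subgroup.zpowers k, ∀ x ∈ orb (cHull Z a) y, g • x ∈ orb (cHull Z a) y := fun g hg x hx =>
    orb_smul hx (X.cPair_le_cHull a b (Subgroup.zpowers_le.2 hk hg))
  obtain ⟨O, hO⟩ : ∃ O, O = orb (cHull Z a) y := ⟨_, rfl⟩
  rw [← hO] at hinv
  letI : MulAction (Subgroup.zpowers k) O :=
    { smul := fun g x => ⟨(g : G) • (x : Ω), hinv g g.2 x x.2⟩
      one_smul := fun x => Subtype.ext (one_smul G (x : Ω))
      mul_smul := fun g h x => Subtype.ext (mul_smul (g : G) (h : G) (x : Ω)) }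
  have hP : IsPGroup p (Subgroup.zpowers k) := IsPGroup.of_card (n := 1) (by rw [Nat.card_zpowers, hkp, pow_one])
  have hnd : ¬ p ∣ Nat.card O := by
    obtain ⟨n, hn, hq⟩ := X.exists_card_el a
    rw [Nat.card_coe_set_eq, hO, X.ncard_orb_eq L.ne.symm hy, ho, hq, ← pow_mul]
    exact fun h => hp2 ((Nat.prime_dvd_prime_iff_eq hp Nat.prime_two).1 (hp.dvd_of_dvd_pow h))
  obtain ⟨⟨x, hxO⟩, hx⟩ := hP.nonempty_fixed_point_of_prime_not_dvd_card O hnd
  have hkx : k • x = x := congrArg Subtype.val (hx ⟨k, Subgroup.mem_zpowers k⟩)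
  rw [hO] at hxO
  have hk1 : k = 1 := X.cPair_semiregular hs L.invol L.notMem L.ne L.fix_a L.fix_b hk hkx fun hux => by
    rcases (X.fix_iff hs L.invol L.notMem L.ne L.fix_a L.fix_b).1 hux with h | h
    · exact X.notMem_orb hy (h ▸ hxO)
    · refine hyo ?_
      rw [← orb_eq_of_mem (X.lineOff_subset_orb a b h), orb_eq_of_mem hxO]
      exact mem_orb_self _ _
  exact hp.one_lt.ne' (by rw [← hkp, hk1, orderOf_one])

theorem mem_cPair_two (hs : Short Z Ω) (L : LineSetup Z u a b A) (W : LineTwo Z u a A T)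
    (ho : (orb (cHull Z a) b).ncard = Nat.card (el Z a) ^ 2) {k : G} (hk : k ∈ cPair Z a b) : k = 1 ∨ k = u := by
  have hle : Subgroup.zpowers u ≤ cPair Z a b := Subgroup.zpowers_le.2 (X.invol_mem_cPair L.invol L.fix_a L.fix_b)
  have h := Subgroup.eq_of_le_of_card_ge hle (by rw [X.card_cPair_two hs L W ho, Nat.card_zpowers, L.invol])
  rw [← h] at hk
  obtain ⟨i, rfl⟩ := Subgroup.mem_zpowers_iff.1 hk
  exact zpow_eq_one_or_self L.invol i

/-- `cHull` is the family normaliser. -/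
theorem cHull_le_fam (hs : Short Z Ω) (L : LineSetup Z u a b A) (W : LineTwo Z u a A T)
    (ho : (orb (cHull Z a) b).ncard = Nat.card (el Z a) ^ 2) : cHull Z a ≤ famTwo Z a b T := by
  haveI := X.hyp.finite_points
  intro g hg
  have hu : u ∈ pairTwo Z a b T := X.mem_pairTwo.2 ⟨W.mem, X.invol_mem_cPair L.invol L.fix_a L.fix_b⟩
  have hu1 : u ≠ 1 := fun h => by have := L.invol; rw [h, orderOf_one] at this; omega
  have hfam := X.orb_famTwo hs L W hu hu1
  have heq : fam Z u a = orb (cHull Z a) b := by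
    refine Set.eq_of_subset_of_ncard_le ?_ ?_ (Set.toFinite _)
    · rw [← hfam]
      rintro _ ⟨m, hm, rfl⟩
      exact ⟨m, W.sylow.1 hm.1, rfl⟩
    · rw [ho, X.ncard_fam hs L.invol L.notMem L.fix_a, pow_two]
  obtain ⟨m, hm, hmb⟩ : g • b ∈ orb (famTwo Z a b T) b := by rw [hfam, heq]; exact ⟨g, hg, rfl⟩
  have h1 : m⁻¹ * g ∈ cPair Z a b := by
    rw [← X.cHull_inf a b, Subgroup.mem_inf, mem_stabilizer_iff]
    exact ⟨mul_mem (inv_mem (W.sylow.1 hm.1)) hg, by rw [mul_smul, ← hmb, inv_smul_smul]⟩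
  have h2 : m⁻¹ * g ∈ famTwo Z a b T := by
    rcases X.mem_cPair_two hs L W ho h1 with h | h <;> rw [h]
    · exact one_mem _
    · exact X.lineTwo_le_famTwo W L.ne.symm (Subgroup.mem_sup_right hu)
  have := mul_mem hm h2
  rwa [mul_inv_cancel_left] at this

/-- The commutator part has `q ^ 2` elements. -/
theorem card_trTwo (hs : Short Z Ω) (L : LineSetup Z u a b A) (W : LineTwo Z u a A T)
    (ho : (orb (cHull Z a) b).ncard = Nat.card (el Z a) ^ 2) :
    Nat.card (trTwo Z a b A T) = Nat.card (el Z a) ^ 2 := by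
  rw [← ho, ← Nat.card_coe_set_eq]
  have hH : ∀ v : trTwo Z a b A T, (v : G) ∈ cHull Z a := fun v => W.sylow.1 (X.trTwo_le hs L W v.2).1
  refine Nat.card_eq_of_bijective (fun v : trTwo Z a b A T => (⟨(v : G) • b, v, hH v, rfl⟩ : orb (cHull Z a) b))
    ⟨fun v w h => ?_, fun ⟨y, hy⟩ => ?_⟩
  · have h' : (v : G) • b = (w : G) • b := congrArg Subtype.val h
    have h1 : (w : G)⁻¹ * v ∈ pairTwo Z a b T := by
      refine X.mem_pairTwo.2 ⟨mul_mem (inv_mem (X.trTwo_le hs L W w.2).1) (X.trTwo_le hs L W v.2).1, ?_⟩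
      rw [← X.cHull_inf a b, Subgroup.mem_inf, mem_stabilizer_iff]
      exact ⟨mul_mem (inv_mem (hH w)) (hH v), by rw [mul_smul, h', inv_smul_smul]⟩
    exact Subtype.ext (inv_mul_eq_one.1 (X.trTwo_inf hs L W h1 (mul_mem (inv_mem w.2) v.2))).symm
  · obtain ⟨g, hg, rfl⟩ := hy
    obtain ⟨v, hv, x, hx, rfl⟩ := X.famTwo_decomp hs L W (X.cHull_le_fam hs L W ho hg)
    exact ⟨⟨v, hv⟩, Subtype.ext (by
      show v • b = (v * x) • b
      rw [mul_smul, (mem_cPair.1 (X.mem_pairTwo.1 hx).2).2.1])⟩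

theorem stab_conj_tr (hs : Short Z Ω) (L : LineSetup Z u a b A) (W : LineTwo Z u a A T)
    (ho : (orb (cHull Z a) b).ncard = Nat.card (el Z a) ^ 2) {g v : G} (hg : g • a = a)
    (hv : v ∈ trTwo Z a b A T) : g * v * g⁻¹ ∈ trTwo Z a b A T :=
  X.conj_trTwo hs L W hg
    (fun _ hx => X.cHull_le_fam hs L W ho (X.conj_cHull hg (W.sylow.1 hx.1))) hv

/-- The orbit of `q ^ 2` points does not occur in odd rank. -/
theorem false_of_square_odd (hs : Short Z Ω) (L : LineSetup Z u a b A)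
    (ho : (orb (cHull Z a) b).ncard = Nat.card (el Z a) ^ 2) {n : ℕ} (hn : Odd n)
    (hq : Nat.card (el Z a) = 2 ^ n) : False := by
  classical
  obtain ⟨T, W⟩ := X.exists_lineTwo hs L
  obtain ⟨V, hV⟩ : ∃ V, V = trTwo Z a b A T := ⟨_, rfl⟩
  letI : CommGroup V :=
    { (inferInstance : Group V) with
      mul_comm := fun v w => Subtype.ext (X.trTwo_comm hs L W (hV ▸ v.2) (hV ▸ w.2)).eq }
  have hcard : Nat.card V = 4 ^ n := by
    rw [hV, X.card_trTwo hs L W ho, hq, show (4 : ℕ) = 2 ^ 2 from rfl, ← pow_mul, ← pow_mul, mul_comm]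
  have h4 : ∀ x : V, x ^ 4 = 1 := fun x => Subtype.ext (by
    rw [SubmonoidClass.coe_pow, show 4 = 2 * 2 from rfl, pow_mul, pow_two (x : G), pow_two]
    exact X.el_mul_self (X.famTwo_sq hs L W (X.trTwo_le hs L W (hV ▸ x.2))))
  have hsq : ∀ x : V, x * x = 1 → ∃ y : V, y * y = x := by
    intro x hx
    have hxe : (x : G) ∈ el Z a := X.trTwo_invol hs L W (hV ▸ x.2) (congrArg Subtype.val hx)
    rcases X.mem_el.1 hxe with h | h
    · exact ⟨1, Subtype.ext (by rw [h, one_mul]; rfl)⟩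
    obtain ⟨v, hv, hv'⟩ := X.exists_trTwo hs L W
    have hz : v * v ∈ zAt Z a :=
      (X.mem_el.1 (X.famTwo_sq hs L W (X.trTwo_le hs L W hv))).resolve_left fun h1 =>
        hv' (X.trTwo_invol hs L W hv h1)
    obtain ⟨t, ⟨ht, htx⟩, -⟩ := L.regular _ hz _ h
    refine ⟨⟨t * v * t⁻¹, hV ▸ X.torus_norm_tr hs L W ht hv⟩, Subtype.ext ?_⟩
    show t * v * t⁻¹ * (t * v * t⁻¹) = x
    rw [← htx]
    group
  have hconj : ∀ (g : stabilizer G a) (v : G), v ∈ V → (g : G) * v * (g : G)⁻¹ ∈ V := fun g v hv =>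
    hV ▸ X.stab_conj_tr hs L W ho (mem_stabilizer_iff.1 g.2) (hV ▸ hv)
  let φ : stabilizer G a →* MulAut V :=
    { toFun := fun g =>
        { toFun := fun v => ⟨(g : G) * v * (g : G)⁻¹, hconj g v v.2⟩
          invFun := fun v => ⟨(g : G)⁻¹ * v * (g : G)⁻¹⁻¹, hconj g⁻¹ v v.2⟩
          left_inv := fun v => Subtype.ext (by
            show (g : G)⁻¹ * ((g : G) * v * (g : G)⁻¹) * (g : G)⁻¹⁻¹ = v; group)
          right_inv := fun v => Subtype.ext (by
            show (g : G) * ((g : G)⁻¹ * v * (g : G)⁻¹⁻¹) * (g : G)⁻¹ = v; group)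
          map_mul' := fun v w => Subtype.ext (by simp only [Subgroup.coe_mul]; group) }
      map_one' := by ext v; simp
      map_mul' := fun g h => by
        ext v
        show (g : G) * h * v * ((g : G) * h)⁻¹ = (g : G) * ((h : G) * v * (h : G)⁻¹) * (g : G)⁻¹
        group }
  obtain ⟨N, hN, huN⟩ := Grp.FourDet.exists_hom_two hn hcard h4 hsq φ
    (u := (⟨u, mem_stabilizer_iff.2 L.fix_a⟩ : stabilizer G a)) fun v => Subtype.ext (by
      show u * v * u⁻¹ = (v : G)⁻¹
      rw [inv_eq_of_mul_eq_one_right (mul_self_of_orderOf_two L.invol)]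
      exact (X.pairTwo_two hs L W).2 v (hV ▸ v.2))
  haveI := Subgroup.normal_of_index_eq_two hN
  haveI : Fact (Nat.Prime 2) := ⟨Nat.prime_two⟩
  haveI : IsCyclic (stabilizer G a ⧸ N) := isCyclic_of_prime_card (p := 2) (by rw [← Subgroup.index_eq_card, hN])
  letI := IsCyclic.commGroup (α := stabilizer G a ⧸ N)
  exact huN ((QuotientGroup.eq_one_iff _).1
    (X.hyp.hom_stabilizer_invol X.gen (X.four a) (QuotientGroup.mk' N) L.invol (mem_stabilizer_iff.2 L.fix_a)))

end Setting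

end Cfsg.Agent.Invol.Aschbacher.Last
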