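import Cfsg.Agent.Lib.Invol.Aschbacher.Last.LineInvert

/-!
# Elements fixing the pair of a short line

Those commuting with the involution normalise the torus, their commutators centralise it, and an element centralising it
is a torus element times one of the pair group.  A two-subgroup of the pair stabiliser containing `u` centralises it.
-/

set_option autoImplicit false
set_option linter.unusedSectionVars false

namespace Cfsg.Agent.Invol.Aschbacher.Last

open MulAction Subgroup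
open scoped commutatorElement
open Cfsg.Agent.Invol.Bender (pairStab mem_pair conj_smul_smul)

universe u

variable {G : Type u} [Group G] [Finite G] {Ω : Type u} [MulAction G Ω] {Z : Set G}

namespace Setting

variable (X : Setting G Ω Z) {u : G} {a b : Ω} {A T : Subgroup G}
include X

/-- The torus is the pair stabiliser in the group of the involution. -/
theorem mem_torus (L : LineSetup Z u a b A) {g : G} (hg : g ∈ lgen Z u) (hga : g • a = a) (hgb : g • b = b) :
    g ∈ A := by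
  obtain ⟨e, he, t, ht, rfl⟩ := L.stab g hg hga
  rw [mul_smul, (L.fix t ht).2] at hgb
  rw [X.el_semiregular L.ne.symm he hgb, one_mul]
  exact ht

theorem conj_torus (L : LineSetup Z u a b A) {g : G} (hgu : Commute g u) (hga : g • a = a) (hgb : g • b = b)
    {t : G} (ht : t ∈ A) : g * t * g⁻¹ ∈ A := by
  have hle : lgen Z u ≤ (lgen Z u).comap (MulAut.conj g).toMonoidHom :=
    (Subgroup.closure_le _).2 fun z hz => mem_lgen (X.hyp.conj_mem g z hz.1)
      (show Commute (g * z * g⁻¹) u from (hgu.mul_left hz.2).mul_left hgu.inv_left)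
  obtain ⟨hta, htb⟩ := L.fix t ht
  exact X.mem_torus L (hle (L.le ht)) (by rw [mul_smul, mul_smul, inv_smul_eq_iff.2 hga.symm, hta, hga])
    (by rw [mul_smul, mul_smul, inv_smul_eq_iff.2 hgb.symm, htb, hgb])

theorem norm_torus (L : LineSetup Z u a b A) {g : G} (hgu : Commute g u) (hga : g • a = a) (hgb : g • b = b) :
    g ∈ normalizer (A : Set G) := by
  refine Subgroup.mem_normalizer_iff.2 fun t => ⟨fun ht => X.conj_torus L hgu hga hgb ht, fun ht => ?_⟩
  have h := X.conj_torus L hgu.inv_left (inv_smul_eq_iff.2 hga.symm) (inv_smul_eq_iff.2 hgb.symm) ht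
  rwa [show g⁻¹ * (g * t * g⁻¹) * g⁻¹⁻¹ = t by group] at h

/-- Commutators of normalisers of the torus centralise it. -/
theorem comm_torus (L : LineSetup Z u a b A) {g h : G} (hg : g ∈ normalizer (A : Set G))
    (hh : h ∈ normalizer (A : Set G)) {t : G} (ht : t ∈ A) : Commute (g * h * g⁻¹ * h⁻¹) t := by
  obtain ⟨⟨c, hc⟩, hgen⟩ := L.cyclic.exists_generator
  have hpow : ∀ k ∈ normalizer (A : Set G), ∃ i : ℤ, ∀ s ∈ A, k * s * k⁻¹ = s ^ i := by
    intro k hk
    obtain ⟨i, hi⟩ := Subgroup.mem_zpowers_iff.1 (hgen ⟨_, conj_mem_normalizer hk hc⟩)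
    have hi' : c ^ i = k * c * k⁻¹ := congrArg Subtype.val hi
    refine ⟨i, fun s hs => ?_⟩
    obtain ⟨j, hj⟩ := Subgroup.mem_zpowers_iff.1 (hgen ⟨s, hs⟩)
    have hj' : c ^ j = s := congrArg Subtype.val hj
    rw [← hj', ← conj_zpow, ← hi', ← zpow_mul, ← zpow_mul, mul_comm]
  obtain ⟨i, hi⟩ := hpow g hg
  obtain ⟨j, hj⟩ := hpow h hh
  have hs : h⁻¹ * g⁻¹ * t * g * h ∈ A := by
    have h0 := conj_mem_normalizer (inv_mem (mul_mem hg hh)) ht
    rwa [show (g * h)⁻¹ * t * (g * h)⁻¹⁻¹ = h⁻¹ * g⁻¹ * t * g * h by group] at h0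
  -- both products act as the same power
  have key : ∀ s ∈ A, g * h * s * (g * h)⁻¹ = h * g * s * (h * g)⁻¹ := fun s hs => by
    have hA : ∀ k : ℤ, s ^ k ∈ A := fun k => zpow_mem hs k
    calc g * h * s * (g * h)⁻¹ = g * (h * s * h⁻¹) * g⁻¹ := by group
      _ = (s ^ j) ^ i := by rw [hj s hs, hi _ (hA j)]
      _ = (s ^ i) ^ j := by rw [← zpow_mul, ← zpow_mul, mul_comm]
      _ = h * (g * s * g⁻¹) * h⁻¹ := by rw [hi s hs, hj _ (hA i)]
      _ = h * g * s * (h * g)⁻¹ := by group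
  have h1 := key _ (show g⁻¹ * h⁻¹ * t * h * g ∈ A by
    have h0 := conj_mem_normalizer (inv_mem (mul_mem hh hg)) ht
    rwa [show (h * g)⁻¹ * t * (h * g)⁻¹⁻¹ = g⁻¹ * h⁻¹ * t * h * g by group] at h0)
  rw [show h * g * (g⁻¹ * h⁻¹ * t * h * g) * (h * g)⁻¹ = t by group] at h1
  refine (mul_inv_eq_iff_eq_mul.1 (?_ : g * h * g⁻¹ * h⁻¹ * t * (g * h * g⁻¹ * h⁻¹)⁻¹ = t))
  calc g * h * g⁻¹ * h⁻¹ * t * (g * h * g⁻¹ * h⁻¹)⁻¹
      = g * h * (g⁻¹ * h⁻¹ * t * h * g) * (g * h)⁻¹ := by group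
    _ = t := h1

/-- An element of the pair stabiliser centralising the torus is a torus element times one of the pair group. -/
theorem exists_torus_mul (L : LineSetup Z u a b A) {g : G} (hga : g • a = a) (hgb : g • b = b)
    (hgA : ∀ t ∈ A, Commute t g) : ∃ t ∈ A, t⁻¹ * g ∈ cPair Z a b := by
  obtain ⟨z, hz⟩ := X.hyp.zAt_nonempty a
  have hz' : g * z * g⁻¹ ∈ zAt Z a := by
    have h := X.hyp.zAt_conj (g := g) hz
    rwa [hga] at h
  obtain ⟨t, ⟨ht, htz⟩, -⟩ := L.regular z hz _ hz'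
  obtain ⟨hta, htb⟩ := L.fix t ht
  refine ⟨t, ht, mem_cPair.2 ⟨by rw [mul_smul, hga, inv_smul_eq_iff, hta],
    by rw [mul_smul, hgb, inv_smul_eq_iff, htb], fun z' hz'' => ?_⟩⟩
  obtain ⟨s, ⟨hs, rfl⟩, -⟩ := L.regular z hz z' hz''
  have h1 : Commute z (t⁻¹ * g) := by
    refine (mul_inv_eq_iff_eq_mul.1 (?_ : t⁻¹ * g * z * (t⁻¹ * g)⁻¹ = z)).symm
    calc t⁻¹ * g * z * (t⁻¹ * g)⁻¹ = t⁻¹ * (g * z * g⁻¹) * t := by group
      _ = z := by rw [← htz]; group
  have h2 : Commute s (t⁻¹ * g) := (L.comm s hs t ht).inv_right.mul_right (hgA s hs)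
  exact (h2.mul_left h1).mul_left h2.inv_left

/-- The pair group has twice odd order. -/
theorem card_cPair (hs : Short Z Ω) (L : LineSetup Z u a b A) (W : LineTwo Z u a A T) :
    ∃ m : ℕ, Odd m ∧ Nat.card (cPair Z a b) = 2 * m := by
  haveI : Fact (Nat.Prime 2) := ⟨Nat.prime_two⟩
  have h1 := ncard_orb_mul T b
  have h2 := X.ncard_orb_mul_cPair a b
  have h3 := Subgroup.card_mul_index (T.subgroupOf (cHull Z a))
  rw [Nat.card_congr (Subgroup.subgroupOfEquivOfLe W.sylow.1).toEquiv, ← h1, ← h2, X.orb_two hs L W, mul_assoc] at h3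
  haveI := X.hyp.finite_points
  have h4 := Nat.eq_of_mul_eq_mul_left ((Set.ncard_pos (Set.toFinite _)).2 ⟨b, mem_orb_self (cHull Z a) b⟩) h3
  have hX : Nat.card ↥(T ⊓ stabilizer G b) = 2 := by
    have hXb : T ⊓ stabilizer G b = pairTwo Z a b T := by
      rw [pairTwo, ← X.cHull_inf a b, ← inf_assoc, inf_eq_left.2 W.sylow.1]
    have hu : u ∈ pairTwo Z a b T := X.mem_pairTwo.2 ⟨W.mem, X.invol_mem_cPair L.invol L.fix_a L.fix_b⟩
    have hu1 : u ≠ 1 := fun h => by have := L.invol; rw [h, orderOf_one] at this; omega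
    rw [hXb, ← L.invol, ← Nat.card_zpowers]
    congr 2
    refine le_antisymm (fun x hx => ?_) (Subgroup.zpowers_le.2 hu)
    rcases (X.pairTwo_two hs L W).1 x hx with rfl | rfl
    · exact one_mem _
    · exact Subgroup.mem_zpowers _
  refine ⟨_, Nat.not_even_iff_odd.1 fun h => W.sylow.2.2 (even_iff_two_dvd.1 h), ?_⟩
  rw [← h4, hX]
  rfl

/-- A two-subgroup of the pair group containing `u` is `{1, u}`. -/
theorem cPair_pgroup (hs : Short Z Ω) (L : LineSetup Z u a b A) (W : LineTwo Z u a A T) {P : Subgroup G}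
    (hP : IsPGroup 2 P) (hPK : P ≤ cPair Z a b) (hu : u ∈ P) : ∀ x ∈ P, x = 1 ∨ x = u := by
  haveI : Fact (Nat.Prime 2) := ⟨Nat.prime_two⟩
  obtain ⟨m, hm, hK⟩ := X.card_cPair hs L W
  obtain ⟨k, hk⟩ := IsPGroup.iff_card.1 hP
  have hd := Subgroup.card_dvd_of_le hPK
  rw [hK, hk] at hd
  have hk1 : k ≤ 1 := by
    by_contra hlt
    push Not at hlt
    obtain ⟨j, rfl⟩ : ∃ j, k = 2 + j := ⟨k - 2, by omega⟩
    rw [pow_add, show 2 ^ 2 = 2 * 2 from rfl, mul_assoc] at hd
    exact Nat.not_even_iff_odd.2 hm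
      (even_iff_two_dvd.2 ((dvd_mul_right 2 (2 ^ j)).trans ((Nat.mul_dvd_mul_iff_left two_pos).1 hd)))
  intro x hx
  by_contra hcon
  push Not at hcon
  haveI := Fintype.ofFinite P
  have hu1 : u ≠ 1 := fun h => by have := L.invol; rw [h, orderOf_one] at this; omega
  classical
  have h1 : ({1, ⟨u, hu⟩, ⟨x, hx⟩} : Finset P).card ≤ Fintype.card P := Finset.card_le_univ _
  rw [Finset.card_insert_of_notMem (by
      simp only [Finset.mem_insert, Finset.mem_singleton, not_or]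
      exact ⟨fun h => hu1 (congrArg Subtype.val h).symm, fun h => hcon.1 (congrArg Subtype.val h).symm⟩),
    Finset.card_pair (fun h => hcon.2 (congrArg Subtype.val h).symm)] at h1
  rw [Nat.card_eq_fintype_card] at hk
  have := Nat.pow_le_pow_right (show 0 < 2 by norm_num) hk1
  omega

/-- A two-subgroup of the pair stabiliser containing `u` centralises it. -/
theorem pgroup_commute (hs : Short Z Ω) (L : LineSetup Z u a b A) (W : LineTwo Z u a A T) {P : Subgroup G}
    (hP : IsPGroup 2 P) (hPD : P ≤ pairStab G a b) (hu : u ∈ P) {x : G} (hx : x ∈ P) : Commute x u := by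
  obtain ⟨Q, hQ⟩ : ∃ Q, Q = P ⊓ cPair Z a b := ⟨_, rfl⟩
  have huQ : u ∈ Q := hQ ▸ Subgroup.mem_inf.2 ⟨hu, X.invol_mem_cPair L.invol L.fix_a L.fix_b⟩
  have h : x * u * x⁻¹ ∈ Q := by
    rw [hQ, Subgroup.mem_inf]
    obtain ⟨hxa, hxb⟩ := mem_pair.1 (hPD hx)
    refine ⟨mul_mem (mul_mem hx hu) (inv_mem hx), X.invol_mem_cPair ?_ ?_ ?_⟩
    · rw [← MulAut.conj_apply, MulEquiv.orderOf_eq, L.invol]
    · rw [mul_smul, mul_smul, inv_smul_eq_iff.2 hxa.symm, L.fix_a, hxa]
    · rw [mul_smul, mul_smul, inv_smul_eq_iff.2 hxb.symm, L.fix_b, hxb]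
  rcases X.cPair_pgroup hs L W (hQ ▸ hP.to_le inf_le_left) (hQ ▸ inf_le_right) huQ _ h with h1 | h1
  · exfalso
    have hu1 : u = 1 := by
      calc u = x⁻¹ * (x * u * x⁻¹) * x := by group
        _ = 1 := by rw [h1, mul_one, inv_mul_cancel]
    have := L.invol
    rw [hu1, orderOf_one] at this
    omega
  · exact mul_inv_eq_iff_eq_mul.1 h1

/-- A normaliser of the family normaliser normalises its commutator part. -/
theorem conj_trTwo (hs : Short Z Ω) (L : LineSetup Z u a b A) (W : LineTwo Z u a A T) {h : G} (hha : h • a = a)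
    (hnorm : ∀ g ∈ famTwo Z a b T, h * g * h⁻¹ ∈ famTwo Z a b T) {v : G} (hv : v ∈ trTwo Z a b A T) :
    h * v * h⁻¹ ∈ trTwo Z a b A T := by
  by_cases hve : v ∈ el Z a
  · exact Subgroup.mem_sup_left (X.conj_el hha hve)
  obtain ⟨v', hv', x, hx, hex⟩ := X.famTwo_decomp hs L W (hnorm v (X.trTwo_le hs L W hv))
  rcases (X.pairTwo_two hs L W).1 x hx with rfl | rfl
  · rw [hex, mul_one]
    exact hv'
  exfalso
  refine hve (X.trTwo_invol hs L W hv ?_)
  have h1 : h * (v * v) * h⁻¹ = 1 := by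
    calc h * (v * v) * h⁻¹ = (h * v * h⁻¹) * (h * v * h⁻¹) := by group
      _ = v' * (x * v' * x) := by rw [hex]; group
      _ = 1 := by rw [(X.pairTwo_two hs L W).2 v' hv', mul_inv_cancel]
  calc v * v = h⁻¹ * (h * (v * v) * h⁻¹) * h := by group
    _ = 1 := by rw [h1, mul_one, inv_mul_cancel]

end Setting

end Cfsg.Agent.Invol.Aschbacher.Last
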