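import Cfsg.Agent.Lib.Invol.Aschbacher.Last.Regular

/-!
# The orbits of `cHull` at a short line

The orbit of `cHull Z a` on the other points has `q ^ 2` or `q ^ 3` elements, and the pair group has order prime to
`q - 1`: in the first case it is a 2-group, in the second an element of prime order `p ∣ q - 1` of the pair group would
give, with an element of the torus, an element fixing `q + 1` points with centraliser in `cHull` of odd order.
-/

set_option autoImplicit false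
set_option linter.unusedSectionVars false

namespace Cfsg.Agent.Invol.Aschbacher.Last

open MulAction Subgroup
open Cfsg.Agent.Invol.Bender (pairStab mem_pair conj_smul_smul)

universe u

variable {G : Type u} [Group G] [Finite G] {Ω : Type u} [MulAction G Ω] {Z : Set G}

/-- The orbit of a point under a subgroup. -/
def orb (M : Subgroup G) (x : Ω) : Set Ω := {y | ∃ m ∈ M, m • x = y}

omit [Finite G] in
theorem mem_orb_self (M : Subgroup G) (x : Ω) : x ∈ orb M x := ⟨1, one_mem M, one_smul _ _⟩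

omit [Finite G] in
theorem orb_smul {M : Subgroup G} {x y : Ω} (hy : y ∈ orb M x) {m : G} (hm : m ∈ M) : m • y ∈ orb M x := by
  obtain ⟨k, hk, rfl⟩ := hy
  exact ⟨m * k, mul_mem hm hk, mul_smul m k x⟩

theorem ncard_orb_mul (M : Subgroup G) (x : Ω) :
    (orb M x).ncard * Nat.card ↥(M ⊓ stabilizer G x) = Nat.card M := by
  have h := MulAction.index_stabilizer (G := M) (x := x)
  have hset : MulAction.orbit M x = orb M x := by
    ext y
    constructor
    · rintro ⟨m, rfl⟩; exact ⟨m, m.2, rfl⟩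
    · rintro ⟨m, hm, rfl⟩; exact ⟨⟨m, hm⟩, rfl⟩
  rw [hset] at h
  rw [← h, show MulAction.stabilizer M x = (M ⊓ stabilizer G x).subgroupOf M by
    ext m
    simp [Subgroup.mem_subgroupOf, Subgroup.smul_def]]
  rw [← Nat.card_congr (Subgroup.subgroupOfEquivOfLe (inf_le_left : M ⊓ stabilizer G x ≤ M)).toEquiv,
    Subgroup.index_mul_card]

/-- If `2 ^ n - 1` divides `2 ^ m - 1` then `n` divides `m`. -/
theorem dvd_of_pow_sub_dvd {n : ℕ} (hn : 0 < n) :
    ∀ m : ℕ, 2 ^ n - 1 ∣ 2 ^ m - 1 → n ∣ m := by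
  intro m
  induction m using Nat.strong_induction_on with
  | _ m ih =>
  intro h
  rcases Nat.lt_or_ge m n with hmn | hmn
  · rcases Nat.eq_zero_or_pos m with rfl | hm
    · exact dvd_zero n
    exfalso
    have h1 : 2 ^ m < 2 ^ n := Nat.pow_lt_pow_right (by norm_num) hmn
    have h2 : 2 ≤ 2 ^ m := Nat.le_self_pow hm.ne' 2
    have := Nat.le_of_dvd (by omega) h
    omega
  · obtain ⟨k, rfl⟩ : ∃ k, m = n + k := ⟨m - n, by omega⟩
    refine dvd_add dvd_rfl (ih k (by omega) ?_)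
    obtain ⟨P, hP⟩ : ∃ P, 2 ^ k = P + 1 := ⟨2 ^ k - 1, by have := Nat.one_le_two_pow (n := k); omega⟩
    obtain ⟨Q, hQ⟩ : ∃ Q, 2 ^ n = Q + 1 := ⟨2 ^ n - 1, by have := Nat.one_le_two_pow (n := n); omega⟩
    rw [pow_add, hP, hQ] at h
    rw [Nat.add_sub_cancel] at h
    rw [hQ, Nat.add_sub_cancel]
    rw [hP, Nat.add_sub_cancel]
    rw [show (Q + 1) * (P + 1) - 1 = Q * (P + 1) + P by rw [add_mul, one_mul]; omega] at h
    exact (Nat.dvd_add_right (dvd_mul_right Q (P + 1))).1 h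

namespace Setting

variable (X : Setting G Ω Z) {u : G} {a b : Ω} {A : Subgroup G}
include X

theorem four_le_card_el (a : Ω) : 4 ≤ Nat.card (el Z a) := by
  obtain ⟨x, hx, y, hy, hne, hc⟩ := X.four a
  have hxy : x * y ∈ zAt Z a := ⟨X.hyp.mul_mem hx.1 hy.1 hne hc, by rw [mul_smul, hy.2, hx.2]⟩
  have h1 : x ≠ x * y := fun h => X.one_notMem_zAt a (by
    have : y = 1 := left_eq_mul.1 h
    rwa [this] at hy)
  have h2 : y ≠ x * y := fun h => X.one_notMem_zAt a (by
    have : x = 1 := right_eq_mul.1 h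
    rwa [this] at hx)
  rw [X.card_el]
  have hsub : ({x, y, x * y} : Set G) ⊆ zAt Z a := by
    rintro t (rfl | rfl | rfl) <;> assumption
  have := Set.ncard_le_ncard hsub (Set.toFinite _)
  rw [Set.ncard_insert_of_notMem (by simp [hne, h1]), Set.ncard_pair h2] at this
  omega

theorem exists_card_el (a : Ω) : ∃ n, 2 ≤ n ∧ Nat.card (el Z a) = 2 ^ n := by
  haveI : Fact (Nat.Prime 2) := ⟨Nat.prime_two⟩
  obtain ⟨n, hn⟩ := IsPGroup.iff_card.1 (show IsPGroup 2 (el Z a) from fun e => ⟨1, Subtype.ext (by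
    rw [SubmonoidClass.coe_pow, pow_one, pow_two, X.el_mul_self e.2, OneMemClass.coe_one])⟩)
  refine ⟨n, ?_, hn⟩
  have h4 := X.four_le_card_el a
  rw [hn] at h4
  by_contra h
  interval_cases n <;> simp at h4

theorem cHull_inf (a x : Ω) : cHull Z a ⊓ stabilizer G x = cPair Z a x := by
  ext g
  rw [Subgroup.mem_inf, mem_cHull, mem_cPair, mem_stabilizer_iff]
  tauto

theorem ncard_orb_mul_cPair (a b : Ω) :
    (orb (cHull Z a) b).ncard * Nat.card (cPair Z a b) = Nat.card (cHull Z a) := by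
  rw [← X.cHull_inf a b, ncard_orb_mul]

theorem notMem_orb {a b : Ω} (hb : b ≠ a) : a ∉ orb (cHull Z a) b := by
  rintro ⟨h, hh, hhb⟩
  exact hb (MulAction.injective h (hhb.trans (mem_cHull.1 hh).1.symm))

theorem lineOff_subset_orb (a b : Ω) : lineOff Z a b ⊆ orb (cHull Z a) b := by
  rintro x ⟨e, he, rfl⟩
  exact ⟨e, X.el_le_cHull a he, rfl⟩

theorem orb_conj {a b : Ω} {g : G} (hg : g • a = a) : orb (cHull Z a) (g • b) = (g • ·) '' orb (cHull Z a) b := by
  ext y
  constructor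
  · rintro ⟨h, hh, rfl⟩
    refine ⟨(g⁻¹ * h * g⁻¹⁻¹) • b, ⟨_, X.conj_cHull (inv_smul_eq_iff.2 hg.symm) hh, rfl⟩, ?_⟩
    show g • _ = _
    rw [← mul_smul, ← mul_smul]
    congr 1
    group
  · rintro ⟨_, ⟨h, hh, rfl⟩, rfl⟩
    refine ⟨g * h * g⁻¹, X.conj_cHull hg hh, ?_⟩
    rw [mul_smul, inv_smul_smul, mul_smul]

theorem exists_stab_smul {a b y : Ω} (hb : b ≠ a) (hy : y ≠ a) : ∃ g : G, g • a = a ∧ g • b = y :=
  X.two_trans a b a y hb.symm hy.symm

theorem ncard_orb_eq {a b y : Ω} (hb : b ≠ a) (hy : y ≠ a) :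
    (orb (cHull Z a) y).ncard = (orb (cHull Z a) b).ncard := by
  obtain ⟨g, hga, rfl⟩ := X.exists_stab_smul hb hy
  rw [X.orb_conj hga, Set.ncard_image_of_injective _ (MulAction.injective g)]

/-- The orbit length divides the number of other points. -/
theorem ncard_orb_dvd {a b : Ω} (hb : b ≠ a) : (orb (cHull Z a) b).ncard ∣ Nat.card Ω - 1 := by
  classical
  haveI := X.hyp.finite_points
  haveI := Fintype.ofFinite Ω
  let P : Ω → Finset Ω := fun y => Finset.univ.filter (fun z => z ∈ orb (cHull Z a) y)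
  set U := Finset.univ.filter (fun y : Ω => y ≠ a) with hU
  have hP : ∀ y z : Ω, z ∈ orb (cHull Z a) y → orb (cHull Z a) z = orb (cHull Z a) y := fun y z hz => by
    obtain ⟨m, hm, rfl⟩ := hz
    ext x
    constructor
    · rintro ⟨k, hk, rfl⟩
      exact ⟨k * m, mul_mem hk hm, mul_smul k m y⟩
    · rintro ⟨k, hk, rfl⟩
      exact ⟨k * m⁻¹, mul_mem hk (inv_mem hm), by rw [mul_smul, inv_smul_smul]⟩
  have hUc : U.card = Nat.card Ω - 1 := by
    rw [hU, Finset.filter_ne', Finset.card_erase_of_mem (Finset.mem_univ a), Finset.card_univ, Nat.card_eq_fintype_card]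
  rw [← hUc, Finset.card_eq_sum_card_image P U]
  refine Finset.dvd_sum fun s hs => ?_
  obtain ⟨y, hy, rfl⟩ := Finset.mem_image.1 hs
  simp only [hU, Finset.mem_filter, Finset.mem_univ, true_and] at hy
  refine dvd_of_eq ((X.ncard_orb_eq hb hy).symm.trans ?_)
  rw [← Set.ncard_coe_finset]
  congr 1
  ext z
  simp only [hU, P, Finset.coe_filter, Finset.mem_filter, Finset.mem_univ, true_and, Set.mem_setOf_eq]
  constructor
  · intro hz
    refine ⟨fun h => X.notMem_orb hy (h ▸ hz), ?_⟩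
    rw [hP y z hz]
  · rintro ⟨-, h⟩
    have hzz : z ∈ Finset.univ.filter (fun x => x ∈ orb (cHull Z a) z) := by
      simp [mem_orb_self (cHull Z a) z]
    rw [h] at hzz
    simpa using hzz

/-- The orbit has `q ^ 2` or `q ^ 3` points. -/
theorem orb_cases (hs : Short Z Ω) (T : LineSetup Z u a b A) :
    (orb (cHull Z a) b).ncard = Nat.card (el Z a) ^ 2 ∨ (orb (cHull Z a) b).ncard = Nat.card (el Z a) ^ 3 := by
  haveI := X.hyp.finite_points
  obtain ⟨n, hn, hq⟩ := X.exists_card_el a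
  set o := (orb (cHull Z a) b).ncard with ho
  have hN : Nat.card Ω - 1 = 2 ^ (3 * n) := by
    rw [X.card_points hs T.invol T.notMem T.fix_a, Nat.add_sub_cancel, hq, ← pow_mul, mul_comm]
  obtain ⟨i, hi3, hi⟩ := (Nat.dvd_prime_pow Nat.prime_two).1 (hN ▸ X.ncard_orb_dvd T.ne.symm)
  rw [← ho] at hi
  have hsub := X.lineOff_subset_orb a b
  have hle : 2 ^ n ≤ o := by
    rw [← hq, ← X.ncard_lineOff T.ne.symm]
    exact Set.ncard_le_ncard hsub (Set.toFinite _)
  have hdiv : Nat.card A ∣ o - Nat.card (el Z a) := by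
    rw [← X.ncard_lineOff T.ne.symm, ho, ← Set.ncard_sdiff hsub (Set.toFinite _)]
    refine X.torus_dvd hs T (fun h => X.notMem_orb T.ne.symm h.1) (fun h => h.2 (mem_lineOff_self a b)) ?_
    intro t ht x hx
    obtain ⟨hta, htb⟩ := T.fix t ht
    refine ⟨?_, fun h => hx.2 ?_⟩
    · obtain ⟨h, hh, rfl⟩ := hx.1
      exact ⟨t * h * t⁻¹, X.conj_cHull hta hh, by rw [mul_smul, mul_smul, inv_smul_eq_iff.2 htb.symm]⟩
    · obtain ⟨e, he, hex⟩ := h
      refine ⟨t⁻¹ * e * t⁻¹⁻¹, X.conj_el (inv_smul_eq_iff.2 hta.symm) he, ?_⟩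
      rw [inv_inv, mul_smul, mul_smul, htb, hex, inv_smul_smul]
  rw [X.card_torus T, hq, hi] at hdiv
  rw [hi] at hle
  have hin : n ≤ i := (Nat.pow_le_pow_iff_right (by norm_num)).1 hle
  obtain ⟨m, rfl⟩ : ∃ m, i = n + m := ⟨i - n, by omega⟩
  rw [pow_add, show 2 ^ n * 2 ^ m - 2 ^ n = 2 ^ n * (2 ^ m - 1) by rw [Nat.mul_sub_one]] at hdiv
  have hcop : (2 ^ n - 1).Coprime (2 ^ n) := by
    refine Nat.Coprime.pow_right n (Nat.coprime_two_right.2 ?_)
    exact Nat.Even.sub_odd Nat.one_le_two_pow (Nat.even_pow.2 ⟨even_two, by omega⟩) odd_one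
  obtain ⟨c, rfl⟩ := dvd_of_pow_sub_dvd (by omega) m (hcop.dvd_of_dvd_mul_left hdiv)
  rcases Nat.lt_or_ge c 3 with hc | hc
  swap
  · exfalso
    have : n * 3 ≤ n * c := Nat.mul_le_mul_left n hc
    omega
  interval_cases c
  · -- the orbits would be the lines
    exfalso
    rw [mul_zero, add_zero] at hi
    have heq : ∀ y : Ω, y ≠ a → orb (cHull Z a) y = lineOff Z a y := fun y hy => by
      refine (Set.eq_of_subset_of_ncard_le (X.lineOff_subset_orb a y) ?_ (Set.toFinite _)).symm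
      rw [X.ncard_orb_eq T.ne.symm hy, X.ncard_lineOff hy, ← ho, hi, hq]
    have hall : {y : Ω | y ≠ a} ⊆ fam Z u a := by
      intro y hy
      have h1 : u • y ∈ lineOff Z a y := by
        rw [← heq y hy]
        exact ⟨u, X.invol_mem_cHull T.invol T.fix_a, rfl⟩
      obtain ⟨e, he, hey⟩ := h1
      refine ⟨hy, e, he, ?_⟩
      rw [mul_smul, hey, ← mul_smul, mul_self_of_orderOf_two T.invol, one_smul]
    have h1 := Set.ncard_le_ncard hall (Set.toFinite _)
    rw [X.ncard_fam hs T.invol T.notMem T.fix_a, hq, ← pow_add] at h1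
    have h2 : ({y : Ω | y ≠ a}).ncard = Nat.card Ω - 1 := by
      rw [show ({y : Ω | y ≠ a}) = {a}ᶜ from rfl, Set.ncard_compl, Set.ncard_singleton]
    rw [h2, hN] at h1
    have := (Nat.pow_le_pow_iff_right (by norm_num : 1 < 2)).1 h1
    omega
  · left
    rw [hi, hq, ← pow_mul]
    congr 1
    ring
  · right
    rw [hi, hq, ← pow_mul]
    congr 1
    ring

/-- No element of prime order dividing `q - 1` lies in the pair group. -/
theorem coprime_cPair (hs : Short Z Ω) (T : LineSetup Z u a b A) :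
    (Nat.card (cPair Z a b)).Coprime (Nat.card (el Z a) - 1) := by
  classical
  have S := X.hyp
  haveI := S.finite_points
  obtain ⟨n, hn, hq⟩ := X.exists_card_el a
  refine Nat.coprime_of_dvd fun p hp hpK hpA => ?_
  haveI := Fact.mk hp
  have hp2 : p ≠ 2 := by
    rintro rfl
    rw [hq] at hpA
    have : Odd (2 ^ n - 1) := Nat.Even.sub_odd Nat.one_le_two_pow (Nat.even_pow.2 ⟨even_two, by omega⟩) odd_one
    exact Nat.not_even_iff_odd.2 this (even_iff_two_dvd.2 hpA)
  obtain ⟨⟨k, hk⟩, hkp'⟩ := exists_prime_orderOf_dvd_card' (G := cPair Z a b) p hpK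
  have hkp : orderOf k = p := by rw [← hkp', Subgroup.orderOf_mk]
  have hk1 : k ≠ 1 := fun h => hp.one_lt.ne' (by rw [← hkp, h, orderOf_one])
  have hu := T.invol
  have huZ := T.notMem
  have hout : ∀ x : Ω, u • x ≠ x → x ≠ a ∧ x ≠ b := fun x hx =>
    ⟨fun h => hx (h ▸ T.fix_a), fun h => hx (h ▸ T.fix_b)⟩
  rcases X.orb_cases hs T with ho | ho
  · -- other orbits have two-power length, and `k` is semiregular there
    obtain ⟨y, hy, hyo⟩ : ∃ y : Ω, y ≠ a ∧ y ∉ orb (cHull Z a) b := by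
      by_contra h
      push Not at h
      have h1 := Set.ncard_le_ncard (show {y : Ω | y ≠ a} ⊆ orb (cHull Z a) b from h) (Set.toFinite _)
      rw [show ({y : Ω | y ≠ a}) = {a}ᶜ from rfl, Set.ncard_compl, Set.ncard_singleton, ho,
        X.card_points hs hu huZ T.fix_a, Nat.add_sub_cancel, hq, ← pow_mul, ← pow_mul] at h1
      have := (Nat.pow_le_pow_iff_right (by norm_num : 1 < 2)).1 h1
      omega
    obtain ⟨O, hO⟩ : ∃ O, O = orb (cHull Z a) y := ⟨_, rfl⟩
    letI : MulAction (Subgroup.zpowers k) O :=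
      { smul := fun g x => ⟨(g : G) • (x : Ω), Eq.mpr (congrArg ((g : G) • (x : Ω) ∈ ·) hO)
          (orb_smul (Eq.mp (congrArg ((x : Ω) ∈ ·) hO) x.2) (X.cPair_le_cHull a b (Subgroup.zpowers_le.2 hk g.2)))⟩
        one_smul := fun x => Subtype.ext (one_smul G (x : Ω))
        mul_smul := fun g h x => Subtype.ext (mul_smul (g : G) (h : G) (x : Ω)) }
    have hP : IsPGroup p (Subgroup.zpowers k) := IsPGroup.of_card (n := 1) (by rw [Nat.card_zpowers, hkp, pow_one])
    have hnd : ¬ p ∣ Nat.card O := by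
      rw [Nat.card_coe_set_eq, hO, X.ncard_orb_eq T.ne.symm hy, ho, hq, ← pow_mul]
      exact fun h => hp2 ((Nat.prime_dvd_prime_iff_eq hp Nat.prime_two).1 (hp.dvd_of_dvd_pow h))
    obtain ⟨x, hx⟩ := hP.nonempty_fixed_point_of_prime_not_dvd_card O hnd
    have hkx : k • (x : Ω) = x := congrArg Subtype.val (hx ⟨k, Subgroup.mem_zpowers k⟩)
    have hxO : (x : Ω) ∈ orb (cHull Z a) y := hO ▸ x.2
    refine hk1 (X.cPair_semiregular hs hu huZ T.ne T.fix_a T.fix_b hk hkx fun hux => ?_)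
    rcases (X.fix_iff hs hu huZ T.ne T.fix_a T.fix_b).1 hux with h | h
    · exact X.notMem_orb hy (h ▸ hxO)
    · obtain ⟨m, hm, hmx⟩ := hxO
      refine hyo ?_
      rw [show y = m⁻¹ • (x : Ω) by rw [← hmx, inv_smul_smul]]
      exact orb_smul (X.lineOff_subset_orb a b h) (inv_mem hm)
  -- a product with a torus element fixes an outside point
  obtain ⟨t, ht, g₁, hg₁, ⟨x, hux, hgx⟩, ht1, hg₁1⟩ : ∃ t ∈ A, ∃ g₁ ∈ Subgroup.zpowers k,
      (∃ x : Ω, u • x ≠ x ∧ (t * g₁) • x = x) ∧ t ≠ 1 ∧ g₁ ≠ 1 := by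
    by_contra hcon
    push Not at hcon
    obtain ⟨O, hO⟩ : ∃ O : Set Ω, O = {x | u • x ≠ x} := ⟨_, rfl⟩
    have hzk : Subgroup.zpowers k ≤ cPair Z a b := Subgroup.zpowers_le.2 hk
    have hinv : ∀ (t : A) (g : Subgroup.zpowers k), ∀ x ∈ O, ((t : G) * g) • x ∈ O := fun t g x hx => by
      rw [hO] at hx ⊢
      intro h
      rw [mul_smul, ← mul_smul u, ← (commute_of_mem_lgen (T.le t.2)).eq, mul_smul] at h
      have h2 : u • (g : G) • x = (g : G) • x := MulAction.injective (t : G) h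
      refine hx ?_
      rcases (X.fix_iff hs hu huZ T.ne T.fix_a T.fix_b).1 h2 with h3 | h3
      · rw [MulAction.injective (g : G) (h3.trans (mem_cPair.1 (hzk g.2)).1.symm)]
        exact T.fix_a
      · have h4 := X.cPair_line (hzk (inv_mem g.2)) h3
        rw [inv_smul_smul] at h4
        rw [h4]
        exact (X.fix_iff hs hu huZ T.ne T.fix_a T.fix_b).2 (Or.inr h3)
    letI : MulAction (A × Subgroup.zpowers k) O :=
      { smul := fun g x => ⟨((g.1 : G) * g.2) • (x : Ω), hinv g.1 g.2 x x.2⟩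
        one_smul := fun x => Subtype.ext (by show ((1 : G) * 1) • (x : Ω) = x; rw [one_mul, one_smul])
        mul_smul := fun g h x => Subtype.ext (by
          show (((g.1 * h.1 : A) : G) * ((g.2 * h.2 : Subgroup.zpowers k) : G)) • (x : Ω) =
            ((g.1 : G) * g.2) • ((h.1 : G) * h.2) • (x : Ω)
          rw [← mul_smul, Subgroup.coe_mul, Subgroup.coe_mul, mul_assoc, ← mul_assoc (h.1 : G),
            (X.torus_commute hs T h.1.2 (hzk g.2.2)).eq]
          group) }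
    haveI := Fintype.ofFinite (A × Subgroup.zpowers k)
    haveI := Fintype.ofFinite O
    haveI := Fintype.ofFinite (Quotient (orbitRel (A × Subgroup.zpowers k) O))
    haveI : ∀ g : A × Subgroup.zpowers k, Fintype (fixedBy O g) := fun g => Fintype.ofFinite _
    have h := sum_card_fixedBy_eq_card_orbits_mul_card_group (A × Subgroup.zpowers k) O
    rw [Finset.sum_eq_single (1 : A × Subgroup.zpowers k)] at h
    · have h1 : Fintype.card (fixedBy O (1 : A × Subgroup.zpowers k)) = Fintype.card O :=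
        Fintype.card_congr (Equiv.subtypeUnivEquiv fun x => one_smul (A × Subgroup.zpowers k) x)
      have hdvd : Nat.card A * p ∣ O.ncard := by
        rw [← hkp, ← Nat.card_zpowers, ← Nat.card_prod, ← Nat.card_coe_set_eq, Nat.card_eq_fintype_card,
          Nat.card_eq_fintype_card, ← h1, h]
        exact Dvd.intro_left _ rfl
      have hOc : O.ncard = (Nat.card (el Z a) + 1) * (Nat.card (el Z a) - 1) * Nat.card (el Z a) := by
        have h2 : O = {x | u • x = x}ᶜ := by rw [hO]; rfl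
        rw [h2, Set.ncard_compl, X.card_points hs hu huZ T.fix_a, hs u hu huZ a T.fix_a]
        obtain ⟨r, hr⟩ : ∃ r, Nat.card (el Z a) = r + 1 := ⟨_ - 1, (Nat.succ_pred_eq_of_pos Nat.card_pos).symm⟩
        rw [hr, Nat.add_sub_cancel]
        refine Nat.sub_eq_of_eq_add ?_
        ring
      rw [X.card_torus T, hOc, mul_comm (Nat.card (el Z a) + 1), mul_assoc] at hdvd
      have hq0 : 0 < Nat.card (el Z a) - 1 := by have := X.four_le_card_el a; omega
      rcases (Nat.Prime.dvd_mul hp).1 ((Nat.mul_dvd_mul_iff_left hq0).1 hdvd) with h3 | h3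
      · have h4 := Nat.dvd_sub h3 hpA
        rw [show Nat.card (el Z a) + 1 - (Nat.card (el Z a) - 1) = 2 by omega] at h4
        exact hp2 ((Nat.prime_dvd_prime_iff_eq hp Nat.prime_two).1 h4)
      · have h4 := Nat.dvd_sub h3 hpA
        rw [show Nat.card (el Z a) - (Nat.card (el Z a) - 1) = 1 by omega] at h4
        exact hp.one_lt.ne' (Nat.dvd_one.1 h4)
    · intro g _ hg1
      rw [Fintype.card_eq_zero_iff]
      refine ⟨fun z => ?_⟩
      obtain ⟨⟨z, hz⟩, hzf⟩ := z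
      have hz' : ((g.1 : G) * g.2) • z = z := congrArg Subtype.val hzf
      have hzO : u • z ≠ z := by rw [hO] at hz; exact hz
      by_cases hg11 : (g.1 : G) = 1
      · rw [hg11, one_mul] at hz'
        have hg2 := X.cPair_semiregular hs hu huZ T.ne T.fix_a T.fix_b (hzk g.2.2) hz' hzO
        exact hg1 (Prod.ext (Subtype.ext hg11) (Subtype.ext hg2))
      by_cases hg21 : (g.2 : G) = 1
      · rw [hg21, mul_one] at hz'
        rcases X.torus_fix hs T g.1.2 hg11 hz' with h | h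
        · exact (hout z hzO).1 h
        · exact (hout z hzO).2 h
      exact hg21 (hcon _ g.1.2 _ g.2.2 ⟨z, hzO, hz'⟩ hg11)
    · exact fun h => absurd (Finset.mem_univ _) h
  have hzk : Subgroup.zpowers k ≤ cPair Z a b := Subgroup.zpowers_le.2 hk
  have hg₁K := hzk hg₁
  obtain ⟨hta, htb⟩ := T.fix t ht
  have hc₁ : Commute t g₁ := X.torus_commute hs T ht hg₁K
  set g := t * g₁ with hgdef
  have hg₁p : g₁ ^ p = 1 := by
    obtain ⟨i, rfl⟩ := Subgroup.mem_zpowers_iff.1 hg₁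
    rw [← zpow_natCast, ← zpow_mul, mul_comm, zpow_mul, zpow_natCast, ← hkp, pow_orderOf_eq_one, one_zpow]
  have hga : g • a = a := by rw [hgdef, mul_smul, (mem_cPair.1 hg₁K).1, hta]
  have hgb : g • b = b := by rw [hgdef, mul_smul, (mem_cPair.1 hg₁K).2.1, htb]
  have htp : t ^ p = 1 := by
    by_contra hne
    have h1 : g ^ p = t ^ p := by rw [hgdef, hc₁.mul_pow, hg₁p, mul_one]
    have h2 : (g ^ p) • x = x := mem_stabilizer_iff.1 (pow_mem (mem_stabilizer_iff.2 hgx) p)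
    rw [h1] at h2
    rcases X.torus_fix hs T (pow_mem ht p) hne h2 with h | h
    · exact (hout x hux).1 h
    · exact (hout x hux).2 h
  have hgp : g ^ p = 1 := by rw [hgdef, hc₁.mul_pow, htp, hg₁p, one_mul]
  -- the fixed points
  have hfix : ∀ y : Ω, y ≠ a → g • y = y → y = b ∨ ∃ l ∈ A, l • x = y := by
    intro y hya hgy
    by_cases huy : u • y = y
    · left
      rcases (X.fix_iff hs hu huZ T.ne T.fix_a T.fix_b).1 huy with h | h
      · exact absurd h hya
      rw [hgdef, mul_smul, X.cPair_line hg₁K h] at hgy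
      exact (X.torus_fix hs T ht ht1 hgy).resolve_left hya
    right
    obtain ⟨l, hl, rfl⟩ := X.lgen_trans_out hs hu huZ hux huy
    refine ⟨l, X.lgen_centralizer_torus hs T ht ht1 hl ?_, rfl⟩
    have hkl := X.commute_lgen hs hu huZ T.ne T.fix_a T.fix_b hg₁K hl
    have h1 : l⁻¹ * (t * l * t⁻¹) = 1 := by
      refine X.lgen_semiregular T hux (mul_mem (inv_mem hl) (mul_mem (mul_mem (T.le ht) hl) (inv_mem (T.le ht)))) ?_
      rw [mul_smul, inv_smul_eq_iff]
      have h2 : t * l * t⁻¹ = g * l * g⁻¹ := by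
        rw [hgdef]
        calc t * l * t⁻¹ = t * (l * g₁) * g₁⁻¹ * t⁻¹ := by group
          _ = t * (g₁ * l) * g₁⁻¹ * t⁻¹ := by rw [hkl.eq]
          _ = t * g₁ * l * (t * g₁)⁻¹ := by group
      rw [h2, mul_smul, mul_smul, inv_smul_eq_iff.2 hgx.symm, hgy]
    rw [inv_mul_eq_one] at h1
    exact (mul_inv_eq_iff_eq_mul.1 h1.symm).symm
  have hAfix : ∀ l ∈ A, Commute l g := fun l hl => (T.comm l hl t ht).mul_right (X.torus_commute hs T hl hg₁K)
  -- the view from `x`
  have hxa := (hout x hux).1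
  have hxb := (hout x hux).2
  obtain ⟨h, hh, hhb⟩ : x ∈ orb (cHull Z a) b := by
    have hall : orb (cHull Z a) b = {a}ᶜ := Set.eq_of_subset_of_ncard_le
      (fun y hy (h : y = a) => X.notMem_orb T.ne.symm (h ▸ hy)) (by
        rw [ho, Set.ncard_compl, Set.ncard_singleton, X.card_points hs hu huZ T.fix_a]
        omega) (Set.toFinite _)
    rw [hall]
    exact hxa
  obtain ⟨hha, hhc⟩ := mem_cHull.1 hh
  obtain ⟨t', ht'⟩ : ∃ t', t' = h * t * h⁻¹ := ⟨_, rfl⟩
  have hhx : h⁻¹ • x = b := inv_smul_eq_iff.2 hhb.symm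
  have hhia : h⁻¹ • a = a := inv_smul_eq_iff.2 hha.symm
  have ht'fix : ∀ y : Ω, t' • y = y → y = a ∨ y = x := fun y hy => by
    rw [ht', mul_smul, mul_smul, smul_eq_iff_eq_inv_smul] at hy
    rcases X.torus_fix hs T ht ht1 hy with h1 | h1
    · exact Or.inl ((inv_smul_eq_iff.1 h1).trans hha)
    · exact Or.inr ((inv_smul_eq_iff.1 h1).trans hhb)
  have ht'a : t' • a = a := by rw [ht', mul_smul, mul_smul, hhia, hta, hha]
  have ht'x : t' • x = x := by rw [ht', mul_smul, mul_smul, hhx, htb, hhb]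
  have ht'comm : ∀ k' ∈ cPair Z a x, Commute t' k' := fun k' hk' => by
    have hk'' : h⁻¹ * k' * h⁻¹⁻¹ ∈ cPair Z a b := by
      have h1 := X.conj_cHull hhia (X.cPair_le_cHull a x hk')
      refine mem_cPair.2 ⟨(mem_cHull.1 h1).1, ?_, (mem_cHull.1 h1).2⟩
      rw [inv_inv, mul_smul, mul_smul, hhb, (mem_cPair.1 hk').2.1, hhx]
    have h2 := (X.torus_commute hs T ht hk'').map (MulAut.conj h).toMonoidHom
    simp only [MulEquiv.coe_toMonoidHom, MulAut.conj_apply, ← ht'] at h2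
    rwa [show h * (h⁻¹ * k' * h⁻¹⁻¹) * h⁻¹ = k' by group] at h2
  obtain ⟨k', hk'⟩ : ∃ k', k' = g * t'⁻¹ := ⟨_, rfl⟩
  have hk'K : k' ∈ cPair Z a x := by
    refine mem_cPair.2 ⟨?_, ?_, fun z hz => ?_⟩
    · rw [hk', mul_smul, inv_smul_eq_iff.2 ht'a.symm, hga]
    · rw [hk', mul_smul, inv_smul_eq_iff.2 ht'x.symm, hgx]
    have hz' : t⁻¹ * z * t ∈ zAt Z a := by
      have h' := X.hyp.zAt_conj (g := t⁻¹) hz
      rwa [inv_inv, inv_smul_eq_iff.2 hta.symm] at h'
    have e1 : t'⁻¹ * z * t' = t⁻¹ * z * t := by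
      rw [ht']
      calc (h * t * h⁻¹)⁻¹ * z * (h * t * h⁻¹) = h * (t⁻¹ * (h⁻¹ * (z * h)) * t) * h⁻¹ := by group
        _ = h * (t⁻¹ * z * t) * h⁻¹ := by rw [(hhc z hz).eq, inv_mul_cancel_left]
        _ = t⁻¹ * z * t := by rw [← (hhc _ hz').eq, mul_inv_cancel_right]
    have e2 : g * (t⁻¹ * z * t) * g⁻¹ = z := by
      rw [hgdef]
      calc t * g₁ * (t⁻¹ * z * t) * (t * g₁)⁻¹ = t * (g₁ * (t⁻¹ * z * t) * g₁⁻¹) * t⁻¹ := by group
        _ = z := by rw [← ((mem_cPair.1 hg₁K).2.2 _ hz').eq, mul_inv_cancel_right]; group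
    rw [hk']
    refine (mul_inv_eq_iff_eq_mul.1 (?_ : g * t'⁻¹ * z * (g * t'⁻¹)⁻¹ = z)).symm
    calc g * t'⁻¹ * z * (g * t'⁻¹)⁻¹ = g * (t'⁻¹ * z * t') * g⁻¹ := by group
      _ = z := by rw [e1, e2]
  have hk'1 : k' ≠ 1 := fun h1 => by
    rw [hk', mul_inv_eq_one] at h1
    rcases ht'fix b (h1 ▸ hgb) with h2 | h2
    · exact T.ne h2.symm
    · exact hxb h2.symm
  have hgk : g = k' * t' := by rw [hk', inv_mul_cancel_right]
  have hk'g : Commute k' g := by rw [hgk]; exact (Commute.refl k').mul_right (ht'comm k' hk'K).symm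
  have hk'p : k' ^ p = 1 := by
    have h1 : t' ^ p = 1 := by rw [ht', conj_pow, htp, mul_one, mul_inv_cancel]
    rw [hk', (show Commute g t'⁻¹ from (hgk ▸ (ht'comm k' hk'K).symm.mul_left (Commute.refl t')).inv_right).mul_pow,
      hgp, inv_pow, h1, one_mul, inv_one]
  have hsq : ∀ {y : G}, y ^ p = 1 → y * y = 1 → y = 1 := fun {y} h1 h2 => by
    obtain ⟨m, hm⟩ := hp.odd_of_ne_two hp2
    rw [hm, pow_succ, pow_mul, pow_two, h2, one_pow, one_mul] at h1
    exact h1
  -- the centraliser of `g` has odd order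
  obtain ⟨C, hC⟩ : ∃ C : Subgroup G, C = cHull Z a ⊓ Subgroup.centralizer ({g} : Set G) := ⟨_, rfl⟩
  have hmemC : ∀ {c : G}, c ∈ C ↔ c ∈ cHull Z a ∧ Commute c g := fun {c} => by
    rw [hC, Subgroup.mem_inf, Subgroup.mem_centralizer_singleton_iff]
    exact Iff.rfl
  have hodd : Odd (Nat.card C) := by
    rw [← Nat.not_even_iff_odd]
    intro he
    obtain ⟨⟨i, hi⟩, hi2'⟩ := exists_prime_orderOf_dvd_card' (G := C) 2 (even_iff_two_dvd.1 he)
    have hi2 : orderOf i = 2 := by rw [← hi2', Subgroup.orderOf_mk]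
    obtain ⟨hiH, hig⟩ := hmemC.1 hi
    obtain ⟨hia, hic⟩ := mem_cHull.1 hiH
    by_cases hiZ : i ∈ Z
    · refine X.torus_free T ht ht1 ⟨hiZ, hia⟩ ?_
      have h1 := hig.symm.mul_left ((mem_cPair.1 hg₁K).2.2 i ⟨hiZ, hia⟩).symm.inv_left
      rwa [hgdef, mul_inv_cancel_right] at h1
    obtain ⟨y₀, hy₀, hy₀a⟩ := X.exists_fix_ne hi2 hiZ a
    obtain ⟨Y, hY⟩ : ∃ Y : Set Ω, Y = lineOff Z a y₀ := ⟨_, rfl⟩
    have hmemY : ∀ z : Ω, z ∈ Y ↔ i • z = z ∧ z ≠ a := fun z => by
      rw [hY]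
      refine ⟨fun hz => ⟨(X.fix_iff hs hi2 hiZ hy₀a.symm hia hy₀).2 (Or.inr hz), X.ne_of_mem_lineOff hy₀a hz⟩,
        fun hz => ((X.fix_iff hs hi2 hiZ hy₀a.symm hia hy₀).1 hz.1).resolve_left hz.2⟩
    have hgY : ∀ g' ∈ Subgroup.zpowers g, ∀ z ∈ Y, g' • z ∈ Y := by
      intro g' hg' z hz
      obtain ⟨m, rfl⟩ := Subgroup.mem_zpowers_iff.1 hg'
      rw [hmemY] at hz ⊢
      refine ⟨by rw [← mul_smul, ← (hig.symm.zpow_left m).eq, mul_smul, hz.1], fun h1 => hz.2 ?_⟩
      refine MulAction.injective (g ^ m) (h1.trans ?_)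
      exact (mem_stabilizer_iff.1 (zpow_mem (mem_stabilizer_iff.2 hga) m)).symm
    letI : MulAction (Subgroup.zpowers g) Y :=
      { smul := fun g' z => ⟨(g' : G) • (z : Ω), hgY g' g'.2 z z.2⟩
        one_smul := fun z => Subtype.ext (one_smul G (z : Ω))
        mul_smul := fun g' h' z => Subtype.ext (mul_smul (g' : G) (h' : G) (z : Ω)) }
    have hPg : IsPGroup p (Subgroup.zpowers g) := fun g' => ⟨1, Subtype.ext (by
      obtain ⟨m, hm⟩ := Subgroup.mem_zpowers_iff.1 g'.2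
      rw [SubmonoidClass.coe_pow, pow_one, ← hm, ← zpow_natCast, ← zpow_mul, mul_comm, zpow_mul, zpow_natCast, hgp,
        one_zpow, OneMemClass.coe_one])⟩
    have hnd : ¬ p ∣ Nat.card Y := by
      rw [Nat.card_coe_set_eq, hY, X.ncard_lineOff hy₀a, hq]
      exact fun h => hp2 ((Nat.prime_dvd_prime_iff_eq hp Nat.prime_two).1 (hp.dvd_of_dvd_pow h))
    obtain ⟨⟨y, hyY⟩, hy⟩ := hPg.nonempty_fixed_point_of_prime_not_dvd_card Y hnd
    have hgy : g • y = y := congrArg Subtype.val (hy ⟨g, Subgroup.mem_zpowers g⟩)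
    obtain ⟨hiy, hya⟩ := (hmemY y).1 hyY
    rcases hfix y hya hgy with rfl | ⟨l, hl, rfl⟩
    · -- the involution fixes `b`
      have hiK := X.invol_mem_cPair hi2 hia hiy
      have hit : Commute i t := (X.torus_commute hs T ht hiK).symm
      have hig₁ : Commute g₁ i := by
        have h1 := hit.inv_right.mul_right hig
        rw [hgdef, inv_mul_cancel_left] at h1
        exact h1.symm
      exact hg₁1 (hsq hg₁p (X.cPair_sq hs hi2 hiZ hya.symm hia hiy hg₁K hig₁))
    · -- it fixes an outside point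
      obtain ⟨hla, -⟩ := T.fix l hl
      have hlia : l⁻¹ • a = a := inv_smul_eq_iff.2 hla.symm
      set i' := l⁻¹ * i * l⁻¹⁻¹ with hi'
      have hi'2 : orderOf i' = 2 := by rw [hi', ← MulAut.conj_apply, MulEquiv.orderOf_eq, hi2]
      have hi'Z : i' ∉ Z := fun h1 => hiZ (by
        have h2 := S.conj_mem l i' h1
        rwa [hi', show l * (l⁻¹ * i * l⁻¹⁻¹) * l⁻¹ = i by group] at h2)
      have hi'a : i' • a = a := by rw [hi', inv_inv, mul_smul, mul_smul, hla, hia, hlia]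
      have hi'x : i' • x = x := by rw [hi', inv_inv, mul_smul, mul_smul, hiy, inv_smul_smul]
      have hi'K := X.invol_mem_cPair hi'2 hi'a hi'x
      have hi'g : Commute i' g := by
        rw [hi', inv_inv]
        exact ((hAfix l hl).inv_left.mul_left hig).mul_left (hAfix l hl)
      have hi'k : Commute k' i' := by
        rw [hk']
        exact hi'g.symm.mul_left (ht'comm i' hi'K).inv_left
      exact hk'1 (hsq hk'p (X.cPair_sq hs hi'2 hi'Z hxa.symm hi'a hi'x hk'K hi'k))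
  -- so it fixes `b`
  have hk'C : k' ∈ C := hmemC.2 ⟨X.cPair_le_cHull a x hk'K, hk'g⟩
  have hCb : ∀ c ∈ C, c • b = b := by
    intro c hc
    by_contra hcb
    have hmv : ∀ y ∈ orb C b, y ≠ a ∧ g • y = y := by
      rintro _ ⟨m, hm, rfl⟩
      obtain ⟨hmH, hmg⟩ := hmemC.1 hm
      exact ⟨fun h1 => T.ne (MulAction.injective m (h1.trans (mem_cHull.1 hmH).1.symm)).symm,
        by rw [← mul_smul, ← hmg.eq, mul_smul, hgb]⟩
    obtain ⟨l₀, hl₀, hl₀x⟩ := (hfix _ (hmv _ ⟨c, hc, rfl⟩).1 (hmv _ ⟨c, hc, rfl⟩).2).resolve_left hcb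
    have hAorb : ∀ l ∈ A, ∀ y ∈ orb C b, l • y ∈ orb C b := by
      rintro l hl _ ⟨m, hm, rfl⟩
      obtain ⟨hmH, hmg⟩ := hmemC.1 hm
      obtain ⟨hla, hlb⟩ := T.fix l hl
      refine ⟨l * m * l⁻¹, hmemC.2 ⟨X.conj_cHull hla hmH, ((hAfix l hl).mul_left hmg).mul_left
        (hAfix l hl).inv_left⟩, ?_⟩
      rw [mul_smul, mul_smul, inv_smul_eq_iff.2 hlb.symm]
    have hset : orb C b = insert b (orb A x) := by
      refine Set.Subset.antisymm (fun y hy => ?_) ?_
      · rcases hfix y (hmv y hy).1 (hmv y hy).2 with rfl | hl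
        · exact Or.inl rfl
        · exact Or.inr hl
      · rintro y (rfl | ⟨l, hl, rfl⟩)
        · exact mem_orb_self C y
        · have h1 := hAorb (l * l₀⁻¹) (mul_mem hl (inv_mem hl₀)) _ ⟨c, hc, rfl⟩
          rwa [← hl₀x, ← mul_smul, inv_mul_cancel_right] at h1
    have h1 := ncard_orb_mul C b
    have h2 : (orb A x).ncard = Nat.card A := by
      rw [← Nat.card_coe_set_eq]
      refine (Nat.card_eq_of_bijective (fun l : A => (⟨(l : G) • x, l, l.2, rfl⟩ : orb A x)) ⟨fun l m e => ?_,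
        fun ⟨_, l, hl, rfl⟩ => ⟨⟨l, hl⟩, rfl⟩⟩).symm
      by_contra hne
      have e' : ((m : G)⁻¹ * l) • x = x := by
        rw [mul_smul, show (l : G) • x = (m : G) • x from congrArg Subtype.val e, inv_smul_smul]
      rcases X.torus_fix hs T (mul_mem (inv_mem m.2) l.2) (fun h => hne (Subtype.ext (inv_mul_eq_one.1 h).symm)) e'
        with h3 | h3
      · exact hxa h3
      · exact hxb h3
    rw [hset, Set.ncard_insert_of_notMem (by
      rintro ⟨l, hl, hlx⟩
      exact hxb (MulAction.injective l (hlx.trans (T.fix l hl).2.symm))) (Set.toFinite _), h2, X.card_torus T,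
      Nat.sub_add_cancel Nat.card_pos, hq] at h1
    exact Nat.not_even_iff_odd.2 hodd (h1 ▸ (Nat.even_pow.2 ⟨even_two, by omega⟩).mul_right _)
  exact hk'1 (X.cPair_semiregular hs hu huZ T.ne T.fix_a T.fix_b
    (mem_cPair.2 ⟨(mem_cPair.1 hk'K).1, hCb k' hk'C, (mem_cPair.1 hk'K).2.2⟩) (mem_cPair.1 hk'K).2.1 hux)

end Setting

end Cfsg.Agent.Invol.Aschbacher.Last
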