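import Cfsg.Agent.Lib.Invol.Aschbacher.Last.LineBase

/-!
# The torus on a short line

A commutative subgroup of the group of an outside involution fixing two points and regular on the members at one of
them fixes only these two points; the group of the involution is semiregular on the points it moves.
-/

set_option autoImplicit false
set_option linter.unusedSectionVars false

namespace Cfsg.Agent.Invol.Aschbacher.Last

open MulAction Subgroup
open Cfsg.Agent.Invol.Bender (pairStab mem_pair conj_smul_smul)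

universe u

variable {G : Type u} [Group G] [Finite G] {Ω : Type u} [MulAction G Ω] {Z : Set G}

/-- The set-up: an outside involution fixing two points on a short line, with its torus. -/
structure LineSetup (Z : Set G) (u : G) (a b : Ω) (A : Subgroup G) : Prop where
  invol : orderOf u = 2
  notMem : u ∉ Z
  ne : a ≠ b
  fix_a : u • a = a
  fix_b : u • b = b
  le : A ≤ lgen Z u
  fix : ∀ t ∈ A, t • a = a ∧ t • b = b
  cyclic : IsCyclic A
  regular : ∀ z ∈ zAt Z a, ∀ t ∈ zAt Z a, ∃! g, g ∈ A ∧ g * z * g⁻¹ = t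
  stab : ∀ g ∈ lgen Z u, g • a = a → ∃ e ∈ el Z a, ∃ t ∈ A, g = e * t

theorem LineSetup.comm {u : G} {a b : Ω} {A : Subgroup G} (T : LineSetup Z u a b A) :
    ∀ s ∈ A, ∀ t ∈ A, Commute s t := fun s hs t ht => by
  letI := @IsCyclic.commGroup A _ T.cyclic
  exact congrArg Subtype.val (mul_comm (⟨s, hs⟩ : A) ⟨t, ht⟩)

namespace Setting

variable (X : Setting G Ω Z) {u : G} {a b : Ω} {A : Subgroup G}
include X

theorem torus_free (T : LineSetup Z u a b A) {t : G} (ht : t ∈ A) (ht1 : t ≠ 1) {z : G} (hz : z ∈ zAt Z a) :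
    ¬ Commute t z := fun h => ht1 ((T.regular z hz z hz).unique ⟨ht, by rw [h.eq, mul_inv_cancel_right]⟩
      ⟨one_mem A, by rw [one_mul, inv_one, mul_one]⟩)

theorem card_torus (T : LineSetup Z u a b A) : Nat.card A = Nat.card (el Z a) - 1 := by
  obtain ⟨z, hz⟩ := X.hyp.zAt_nonempty a
  rw [X.card_el, Nat.add_sub_cancel, ← Nat.card_coe_set_eq]
  have hmem : ∀ g : A, (g : G) * z * (g : G)⁻¹ ∈ zAt Z a := fun g => by
    have h := X.hyp.zAt_conj (g := (g : G)) hz
    rwa [(T.fix g g.2).1] at h
  refine Nat.card_eq_of_bijective (fun g : A => (⟨_, hmem g⟩ : zAt Z a)) ⟨fun g h e => ?_, fun t => ?_⟩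
  · exact Subtype.ext ((T.regular z hz _ (hmem h)).unique ⟨g.2, congrArg Subtype.val e⟩ ⟨h.2, rfl⟩)
  · obtain ⟨g, ⟨hg, hgt⟩, -⟩ := T.regular z hz t t.2
    exact ⟨⟨g, hg⟩, Subtype.ext hgt⟩

/-- Conjugation by an element of the torus preserves the translations. -/
theorem conj_el {g : G} (hg : g • a = a) {e : G} (he : e ∈ el Z a) : g * e * g⁻¹ ∈ el Z a := by
  rcases X.mem_el.1 he with rfl | h
  · rw [mul_one, mul_inv_cancel]; exact one_mem _
  · have h' := X.hyp.zAt_conj (g := g) h
    rw [hg] at h'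
    exact X.mem_el.2 (Or.inr h')

theorem conj_cHull {g : G} (hg : g • a = a) {h : G} (hh : h ∈ cHull Z a) : g * h * g⁻¹ ∈ cHull Z a := by
  obtain ⟨h1, h2⟩ := mem_cHull.1 hh
  refine mem_cHull.2 ⟨by rw [mul_smul, mul_smul, inv_smul_eq_iff.2 hg.symm, h1, hg], fun z hz => ?_⟩
  have hz' : g⁻¹ * z * g ∈ zAt Z a := by
    have h' := X.hyp.zAt_conj (g := g⁻¹) hz
    rwa [inv_inv, inv_smul_eq_iff.2 hg.symm] at h'
  have h3 := (h2 _ hz').map (MulAut.conj g).toMonoidHom
  simp only [MulEquiv.coe_toMonoidHom, MulAut.conj_apply] at h3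
  rwa [show g * (g⁻¹ * z * g) * g⁻¹ = z by group] at h3

/-- An element of the torus moves every point except `a` and `b`. -/
theorem torus_fix (hs : Short Z Ω) (T : LineSetup Z u a b A) {t : G} (ht : t ∈ A) (ht1 : t ≠ 1) {x : Ω}
    (hx : t • x = x) : x = a ∨ x = b := by
  obtain ⟨hta, htb⟩ := T.fix t ht
  have hline : ∀ y ∈ lineOff Z a b, t • y = y → y = b := by
    rintro y ⟨e, he, rfl⟩ hy
    rcases X.mem_el.1 he with rfl | h
    · exact one_smul _ _
    exfalso
    refine X.torus_free T ht ht1 h ?_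
    have h1 : t * e * t⁻¹ = e := X.el_inj T.ne.symm (X.conj_el hta he) he (by
      rw [mul_smul, mul_smul, inv_smul_eq_iff.2 htb.symm, hy])
    exact mul_inv_eq_iff_eq_mul.1 h1
  by_cases hux : u • x = x
  · rcases (X.fix_iff hs T.invol T.notMem T.ne T.fix_a T.fix_b).1 hux with h | h
    · exact Or.inl h
    · exact Or.inr (hline x h hx)
  refine absurd (X.fix_of_free T.invol T.notMem (commute_of_mem_lgen (T.le ht)) ?_ hx) hux
  intro c huc htc z hz hzt
  rcases (X.fix_iff hs T.invol T.notMem T.ne T.fix_a T.fix_b).1 huc with rfl | h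
  · exact X.torus_free T ht ht1 hz hzt
  obtain rfl := hline c h htc
  -- the member at `b` carries `a` to another fixed point of `t` on the line
  have h1 : t • z • a = z • a := by rw [← mul_smul, hzt.eq, mul_smul, hta]
  have h2 : u • z • a = z • a := by
    rw [← mul_smul, ← (X.cent u T.invol T.notMem c huc z hz).eq, mul_smul, T.fix_a]
  rcases (X.fix_iff hs T.invol T.notMem T.ne T.fix_a T.fix_b).1 h2 with h3 | h3
  · exact T.ne (X.hyp.fix_unique hz.1 h3 hz.2)
  · exact T.ne (MulAction.injective z ((hline _ h3 h1).trans hz.2.symm))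

theorem torus_commute (hs : Short Z Ω) (T : LineSetup Z u a b A) {t : G} (ht : t ∈ A) {k : G}
    (hk : k ∈ cPair Z a b) : Commute t k :=
  X.commute_lgen hs T.invol T.notMem T.ne T.fix_a T.fix_b hk (T.le ht)

/-- A set of points avoiding `a` and `b` invariant under the torus has order divisible by that of the torus. -/
theorem torus_dvd (hs : Short Z Ω) (T : LineSetup Z u a b A) {s : Set Ω} (ha : a ∉ s) (hb : b ∉ s)
    (hinv : ∀ t ∈ A, ∀ x ∈ s, t • x ∈ s) : Nat.card A ∣ s.ncard := by
  classical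
  haveI := X.hyp.finite_points
  letI : MulAction A s :=
    { smul := fun t x => ⟨(t : G) • (x : Ω), hinv t t.2 x x.2⟩
      one_smul := fun x => Subtype.ext (one_smul G (x : Ω))
      mul_smul := fun t t' x => Subtype.ext (mul_smul (t : G) (t' : G) (x : Ω)) }
  haveI := Fintype.ofFinite A
  haveI := Fintype.ofFinite s
  haveI := Fintype.ofFinite (Quotient (orbitRel A s))
  haveI : ∀ t : A, Fintype (fixedBy s t) := fun t => Fintype.ofFinite _
  have h := sum_card_fixedBy_eq_card_orbits_mul_card_group A s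
  rw [Finset.sum_eq_single (1 : A)] at h
  · have h1 : Fintype.card (fixedBy s (1 : A)) = Fintype.card s :=
      Fintype.card_congr (Equiv.subtypeUnivEquiv fun x => one_smul A x)
    rw [← Nat.card_coe_set_eq, Nat.card_eq_fintype_card, Nat.card_eq_fintype_card, ← h1, h]
    exact Dvd.intro_left _ rfl
  · intro t _ ht
    rw [Fintype.card_eq_zero_iff]
    refine ⟨fun x => ?_⟩
    have hx : (t : G) • ((x.1 : s) : Ω) = x.1 := congrArg Subtype.val x.2
    rcases X.torus_fix hs T t.2 (fun h => ht (Subtype.ext h)) hx with h | h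
    · exact ha (h ▸ x.1.2)
    · exact hb (h ▸ x.1.2)
  · exact fun h => absurd (Finset.mem_univ _) h

/-- The group of the involution is semiregular on the points it moves. -/
theorem lgen_semiregular (T : LineSetup Z u a b A) {x : Ω} (hux : u • x ≠ x) {l : G} (hl : l ∈ lgen Z u)
    (hlx : l • x = x) : l = 1 := by
  have S := X.hyp
  obtain ⟨w, hw, hwu, hlw, -⟩ := X.exists_middle_fix T.invol T.notMem hux (commute_of_mem_lgen hl) hlx
  obtain ⟨c, hc⟩ := S.exists_fix hw
  obtain ⟨g, hg, hga⟩ := S.exists_smul_lgen T.invol (S.fix_of_commute hw hc hwu.symm) T.fix_a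
  obtain ⟨l', hl'⟩ : ∃ l', l' = g * l * g⁻¹ := ⟨_, rfl⟩
  have hl'L : l' ∈ lgen Z u := hl' ▸ mul_mem (mul_mem hg hl) (inv_mem hg)
  have hz : g * w * g⁻¹ ∈ zAt Z a := by
    have h := S.zAt_conj (g := g) (show w ∈ zAt Z c from ⟨hw, hc⟩)
    rwa [hga] at h
  have hlz : Commute l' (g * w * g⁻¹) := by
    have h := hlw.map (MulAut.conj g).toMonoidHom
    simp only [MulEquiv.coe_toMonoidHom, MulAut.conj_apply] at h
    rwa [hl']
  have hgx : l' • g • x = g • x := by rw [hl', conj_smul_smul, hlx]
  obtain ⟨e, he, t, ht, het⟩ := T.stab l' hl'L (S.fix_of_commute hz.1 hz.2 hlz)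
  have he' : Commute e (g * w * g⁻¹) := X.el_comm (fun z' hz' => X.comm a z' hz' _ hz) he
  have ht' : t = 1 := by
    by_contra ht1
    refine X.torus_free T ht ht1 hz ?_
    have h := he'.inv_left.mul_left hlz
    rwa [het, inv_mul_cancel_left] at h
  rw [ht', mul_one] at het
  have hga' : g • x ≠ a := fun h => by
    have : x = c := MulAction.injective g (h.trans hga.symm)
    exact hux (this ▸ S.fix_of_commute hw hc hwu.symm)
  have he1 : l' = 1 := by
    rw [het] at hgx ⊢
    exact X.el_semiregular hga' he hgx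
  rw [hl'] at he1
  calc l = g⁻¹ * (g * l * g⁻¹) * g := by group
    _ = 1 := by rw [he1, mul_one, inv_mul_cancel]

/-- The centraliser of a torus element in the group of the involution is the torus. -/
theorem lgen_centralizer_torus (hs : Short Z Ω) (T : LineSetup Z u a b A) {t : G} (ht : t ∈ A) (ht1 : t ≠ 1) {l : G}
    (hl : l ∈ lgen Z u) (hlt : Commute l t) : l ∈ A := by
  have S := X.hyp
  obtain ⟨hta, htb⟩ := T.fix t ht
  have hperm : ∀ {x : Ω}, t • x = x → l • x = a ∨ l • x = b := fun {x} hx =>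
    X.torus_fix hs T ht ht1 (by rw [← mul_smul, ← hlt.eq, mul_smul, hx])
  have hA : ∀ g ∈ lgen Z u, g • a = a → g • b = b → g ∈ A := by
    intro g hg hga hgb
    obtain ⟨e, he, t', ht', rfl⟩ := T.stab g hg hga
    have h1 : e = 1 := X.el_semiregular T.ne.symm he (by
      conv_lhs => rw [← (T.fix t' ht').2]
      rw [← mul_smul, hgb])
    rw [h1, one_mul]
    exact ht'
  rcases hperm hta with hla | hla
  · rcases hperm htb with hlb | hlb
    · exact absurd (MulAction.injective l (hlb.trans hla.symm)) T.ne.symm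
    · exact hA l hl hla hlb
  exfalso
  have hlb : l • b = a := by
    rcases hperm htb with hlb | hlb
    · exact hlb
    · exact absurd (MulAction.injective l (hlb.trans hla.symm)) T.ne.symm
  obtain ⟨w, hw, hwa⟩ := S.exists_swapper_at T.ne
  have hwL : w ∈ lgen Z u := X.swap_mem_lgen T.invol T.ne T.fix_a T.fix_b ⟨hw, hwa⟩
  have hww := mul_self_of_orderOf_two (S.invol w hw)
  have hwb : w • b = a := by rw [← hwa, ← mul_smul, hww, one_smul]
  have hg := hA (w * l) (mul_mem hwL hl) (by rw [mul_smul, hla, hwb]) (by rw [mul_smul, hlb, hwa])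
  have hwt : Commute w t := by
    have h := (T.comm _ hg t ht).mul_left hlt.inv_left
    rwa [mul_inv_cancel_right] at h
  obtain ⟨c, hc⟩ := S.exists_fix hw
  rcases X.torus_fix hs T ht ht1 (S.fix_of_commute hw hc hwt.symm) with rfl | rfl
  · exact T.ne (hc.symm.trans hwa)
  · exact T.ne.symm (hc.symm.trans hwb)

end Setting

end Cfsg.Agent.Invol.Aschbacher.Last
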