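import Cfsg.Agent.Lib.Invol.Aschbacher.Last.Glue
import Cfsg.Agent.Lib.Invol.Aschbacher.Last.Regular

/-!
# The first case as a short line with a torus

In the case of `q` other fixed points every outside involution lies on short lines, and at two of its fixed points
it has a torus as in `LineSetup`.
-/

set_option autoImplicit false
set_option linter.unusedSectionVars false

namespace Cfsg.Agent.Invol.Aschbacher.Last

open MulAction Subgroup

universe u

variable {G : Type u} [Group G] [Finite G] {Ω : Type u} [MulAction G Ω] {Z : Set G}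

namespace Setting

variable (X : Setting G Ω Z)
include X

theorem short_of_othersPow (hk : OthersPow Z Ω 1) : Short Z Ω := fun u hu huZ a ha => by
  haveI := X.hyp.finite_points
  rw [← pow_one (Nat.card (el Z a)), ← hk u hu huZ a ha,
    ← Set.ncard_insert_of_notMem (a := a) (fun h : a ∈ others u a => h.2 rfl) (Set.toFinite _)]
  congr 1
  ext x
  exact ⟨fun hx => (eq_or_ne x a).imp id fun hne => ⟨hx, hne⟩, fun hx => hx.elim (fun e => e ▸ ha) fun hx => hx.1⟩

theorem exists_lineSetup (hk : OthersPow Z Ω 1) {u : G} (hu : orderOf u = 2) (huZ : u ∉ Z) {a b : Ω}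
    (hab : a ≠ b) (ha : u • a = a) (hb : u • b = b) : ∃ A : Subgroup G, LineSetup Z u a b A := by
  obtain ⟨A, h1, h2, h3, h4, h5⟩ := X.exists_torus_small hk hu huZ hab ha hb
  exact ⟨A, ⟨hu, huZ, hab, ha, hb, h1, h3, h2, h4, h5⟩⟩

end Setting

end Cfsg.Agent.Invol.Aschbacher.Last
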