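import Cfsg.Agent.Lib.Invol.Aschbacher.Last.LineOrbit
import Cfsg.Agent.Lib.Grp.OddNormSplit

/-!
# The torus invariant Sylow subgroup at a short line

A Sylow 2-subgroup `T` of `cHull Z a` normalised by the torus and containing `u` is transitive on the orbit of `b`,
its part in the pair group is elementary and is the centraliser of the torus.  The normaliser of the stabiliser of the
line is transitive on the lines of the family of `u`, and centralises the pair part modulo `el Z a`.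
-/

set_option autoImplicit false
set_option linter.unusedSectionVars false

namespace Cfsg.Agent.Invol.Aschbacher.Last

open MulAction Subgroup
open scoped commutatorElement
open Cfsg.Agent.Invol.Bender (pairStab mem_pair conj_smul_smul)

universe u

variable {G : Type u} [Group G] [Finite G] {Ω : Type u} [MulAction G Ω] {Z : Set G}

/-- A torus invariant Sylow 2-subgroup of `cHull` containing the involution. -/
structure LineTwo (Z : Set G) (u : G) (a : Ω) (A T : Subgroup G) : Prop where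
  sylow : Grp.IsSylowIn 2 T (cHull Z a)
  norm : A ≤ normalizer (T : Set G)
  mem : u ∈ T

/-- The pair part of a Sylow subgroup. -/
def pairTwo (Z : Set G) (a b : Ω) (T : Subgroup G) : Subgroup G := T ⊓ cPair Z a b

/-- The stabiliser of the line in a Sylow subgroup. -/
def lineTwo (Z : Set G) (a b : Ω) (T : Subgroup G) : Subgroup G := el Z a ⊔ pairTwo Z a b T

/-- The normaliser of the line stabiliser in a Sylow subgroup. -/
def famTwo (Z : Set G) (a b : Ω) (T : Subgroup G) : Subgroup G :=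
  T ⊓ normalizer (lineTwo Z a b T : Set G)

/-- The commutator complement of the pair part. -/
def trTwo (Z : Set G) (a b : Ω) (A T : Subgroup G) : Subgroup G := el Z a ⊔ ⁅famTwo Z a b T, A⁆

omit [Finite G] in
theorem conj_mem_normalizer {H : Subgroup G} {g x : G} (hg : g ∈ normalizer (H : Set G)) (hx : x ∈ H) :
    g * x * g⁻¹ ∈ H := (Subgroup.mem_normalizer_iff.1 hg x).1 hx

namespace Setting

variable (X : Setting G Ω Z) {u : G} {a b : Ω} {A T : Subgroup G}
include X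

theorem el_conj_cHull {a : Ω} {h : G} (hh : h ∈ cHull Z a) {e : G} (he : e ∈ el Z a) : h * e * h⁻¹ = e := by
  rw [← (X.el_comm (mem_cHull.1 hh).2 he).eq, mul_inv_cancel_right]

/-- A torus invariant Sylow subgroup containing the involution. -/
theorem exists_lineTwo (hs : Short Z Ω) (L : LineSetup Z u a b A) : ∃ T, LineTwo Z u a A T := by
  haveI : Fact (Nat.Prime 2) := ⟨Nat.prime_two⟩
  have hAn : A ≤ normalizer (cHull Z a : Set G) := fun t ht => by
    obtain ⟨hta, -⟩ := L.fix t ht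
    refine Subgroup.mem_normalizer_iff.2 fun h => ⟨fun hh => X.conj_cHull hta hh, fun hh => ?_⟩
    have := X.conj_cHull (inv_smul_eq_iff.2 hta.symm) hh
    rwa [show t⁻¹ * (t * h * t⁻¹) * t⁻¹⁻¹ = h by group] at this
  have hcop : (Nat.card A).Coprime (Nat.card (cHull Z a)) := by
    obtain ⟨n, hn, hq⟩ := X.exists_card_el a
    rw [← X.ncard_orb_mul_cPair a b, X.card_torus L]
    refine Nat.Coprime.mul_right ?_ (X.coprime_cPair hs L).symm
    have hodd : Nat.Coprime (Nat.card (el Z a) - 1) 2 := Nat.coprime_two_right.2 (by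
      rw [hq]; exact Nat.Even.sub_odd Nat.one_le_two_pow (Nat.even_pow.2 ⟨even_two, by omega⟩) odd_one)
    rcases X.orb_cases hs L with ho | ho <;> rw [ho, hq, ← pow_mul] <;> exact (hq ▸ hodd).pow_right _
  have hsolv : Group.IsSolvable A := isSolvable_of_comm fun s t => Subtype.ext (L.comm s s.2 t t.2)
  have hu1 : IsPGroup 2 (Subgroup.zpowers u) := IsPGroup.of_card (n := 1) (by rw [Nat.card_zpowers, L.invol, pow_one])
  obtain ⟨T, hT, hTA, hU⟩ := Grp.exists_invariant_sylow_ge A (cHull Z a) hAn hcop (Or.inl hsolv)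
    (U := Subgroup.zpowers u) (Subgroup.zpowers_le.2 (X.invol_mem_cHull L.invol L.fix_a)) hu1 fun t ht => by
      have hc : Commute t u := commute_of_mem_lgen (L.le ht)
      refine Subgroup.centralizer_le_normalizer _ ?_
      rw [Subgroup.mem_centralizer_iff]
      rintro _ ⟨i, rfl⟩
      exact (hc.zpow_right i).eq.symm
  exact ⟨T, hT, hTA, hU (Subgroup.mem_zpowers u)⟩

theorem el_le_two (W : LineTwo Z u a A T) : el Z a ≤ T := by
  haveI : Fact (Nat.Prime 2) := ⟨Nat.prime_two⟩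
  have hn : T ≤ normalizer (el Z a : Set G) := fun h hh => Subgroup.mem_normalizer_iff.2 fun e =>
    ⟨fun he => by rwa [X.el_conj_cHull (W.sylow.1 hh) he], fun he => by
      have h1 := X.el_conj_cHull (W.sylow.1 (inv_mem hh)) he
      rw [show h⁻¹ * (h * e * h⁻¹) * h⁻¹⁻¹ = e by group] at h1
      rwa [h1]⟩
  have hp : IsPGroup 2 (el Z a) := fun e => ⟨1, Subtype.ext (by
    rw [SubmonoidClass.coe_pow, pow_one, pow_two, X.el_mul_self e.2, OneMemClass.coe_one])⟩
  have h := W.sylow.eq_of_le le_sup_right (sup_le (X.el_le_cHull a) W.sylow.1)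
    (hp.to_sup_of_normal_left' W.sylow.2.1 hn)
  exact h ▸ le_sup_left

/-- The Sylow subgroup is transitive on the orbit. -/
theorem orb_two (hs : Short Z Ω) (L : LineSetup Z u a b A) (W : LineTwo Z u a A T) :
    orb T b = orb (cHull Z a) b := by
  haveI : Fact (Nat.Prime 2) := ⟨Nat.prime_two⟩
  haveI := X.hyp.finite_points
  refine Set.eq_of_subset_of_ncard_le (fun x ⟨g, hg, hgx⟩ => ⟨g, W.sylow.1 hg, hgx⟩) ?_ (Set.toFinite _)
  have h1 := ncard_orb_mul T b
  have h2 := X.ncard_orb_mul_cPair a b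
  have h3 := Subgroup.card_mul_index (T.subgroupOf (cHull Z a))
  rw [Nat.card_congr (Subgroup.subgroupOfEquivOfLe W.sylow.1).toEquiv, ← h1, ← h2] at h3
  have hle : T ⊓ stabilizer G b ≤ cPair Z a b := by
    rw [← X.cHull_inf a b]
    exact inf_le_inf_right _ W.sylow.1
  obtain ⟨r, hr⟩ := Subgroup.card_dvd_of_le hle
  rw [hr] at h3
  have h4 : (orb (cHull Z a) b).ncard ∣ (orb T b).ncard * (T.subgroupOf (cHull Z a)).index := by
    refine ⟨r, Nat.eq_of_mul_eq_mul_right (Nat.card_pos (α := ↥(T ⊓ stabilizer G b))) ?_⟩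
    linarith [h3]
  have hcop : (orb (cHull Z a) b).ncard.Coprime (T.subgroupOf (cHull Z a)).index := by
    have hodd : Nat.Coprime (T.subgroupOf (cHull Z a)).index 2 :=
      ((Nat.Prime.coprime_iff_not_dvd Nat.prime_two).2 W.sylow.2.2).symm
    obtain ⟨n, -, hq⟩ := X.exists_card_el a
    rcases X.orb_cases hs L with ho | ho <;> rw [ho, hq, ← pow_mul] <;> exact (hodd.pow_right _).symm
  exact Nat.le_of_dvd ((Set.ncard_pos (Set.toFinite _)).2 ⟨b, mem_orb_self T b⟩) (hcop.dvd_of_dvd_mul_right h4)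

theorem mem_pairTwo {g : G} : g ∈ pairTwo Z a b T ↔ g ∈ T ∧ g ∈ cPair Z a b := Subgroup.mem_inf

/-- The pair part has exponent two. -/
theorem pairTwo_sq (hs : Short Z Ω) (L : LineSetup Z u a b A) (W : LineTwo Z u a A T) {x : G}
    (hx : x ∈ pairTwo Z a b T) : x * x = 1 := by
  haveI : Fact (Nat.Prime 2) := ⟨Nat.prime_two⟩
  obtain ⟨P, hP⟩ : ∃ P, P = pairTwo Z a b T := ⟨_, rfl⟩
  rw [← hP] at hx
  have hu : u ∈ P := hP ▸ X.mem_pairTwo.2 ⟨W.mem, X.invol_mem_cPair L.invol L.fix_a L.fix_b⟩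
  have hPp : IsPGroup 2 P := hP ▸ W.sylow.2.1.to_le inf_le_left
  haveI : Nontrivial P := ⟨⟨u, hu⟩, 1, fun h => by
    have h1 : u = 1 := congrArg Subtype.val h
    have h2 := L.invol
    rw [h1, orderOf_one] at h2
    omega⟩
  haveI := hPp.center_nontrivial
  obtain ⟨c, hc⟩ := exists_prime_orderOf_dvd_card' (G := Subgroup.center P) 2 (by
    obtain ⟨k, hk0, hk⟩ := (hPp.to_subgroup (Subgroup.center P)).nontrivial_iff_card.1 inferInstance
    exact hk ▸ dvd_pow_self 2 hk0.ne')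
  have hv2 : orderOf ((c : P) : G) = 2 := by rw [Subgroup.orderOf_coe, Subgroup.orderOf_coe, hc]
  have hvK : ((c : P) : G) ∈ cPair Z a b := (X.mem_pairTwo.1 (show _ ∈ pairTwo Z a b T by rw [← hP]; exact (c : P).2)).2
  obtain ⟨hva, hvb, -⟩ := mem_cPair.1 hvK
  have hvZ : ((c : P) : G) ∉ Z := fun h => L.ne.symm (X.hyp.fix_unique h hvb hva)
  refine X.cPair_sq hs hv2 hvZ L.ne hva hvb (X.mem_pairTwo.1 (by rw [← hP]; exact hx)).2 ?_
  exact congrArg Subtype.val (Subgroup.mem_center_iff.1 c.2 ⟨x, hx⟩)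

theorem pairTwo_invol (hs : Short Z Ω) (L : LineSetup Z u a b A) (W : LineTwo Z u a A T) {x : G}
    (hx : x ∈ pairTwo Z a b T) (hx1 : x ≠ 1) : orderOf x = 2 ∧ x ∉ Z ∧ x • a = a ∧ x • b = b := by
  obtain ⟨hxa, hxb, -⟩ := mem_cPair.1 (X.mem_pairTwo.1 hx).2
  have h2 : orderOf x = 2 := orderOf_two_iff.2 ⟨X.pairTwo_sq hs L W hx, hx1⟩
  exact ⟨h2, fun h => L.ne.symm (X.hyp.fix_unique h hxb hxa), hxa, hxb⟩

theorem pairTwo_comm (hs : Short Z Ω) (L : LineSetup Z u a b A) (W : LineTwo Z u a A T) {x y : G}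
    (hx : x ∈ pairTwo Z a b T) (hy : y ∈ pairTwo Z a b T) : Commute x y := by
  have hi : ∀ z ∈ pairTwo Z a b T, z⁻¹ = z := fun z hz => inv_eq_of_mul_eq_one_right (X.pairTwo_sq hs L W hz)
  show x * y = y * x
  rw [← hi _ (mul_mem hx hy), mul_inv_rev, hi x hx, hi y hy]

theorem mem_lineTwo (W : LineTwo Z u a A T) (hb : b ≠ a) {g : G} :
    g ∈ lineTwo Z a b T ↔ g ∈ T ∧ g • b ∈ lineOff Z a b := by
  constructor
  · intro hg
    have hn : pairTwo Z a b T ≤ normalizer (el Z a : Set G) := fun h hh => by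
      refine Subgroup.centralizer_le_normalizer _ ?_
      rw [Subgroup.mem_centralizer_iff]
      exact fun e he => (X.el_comm (mem_cPair.1 (X.mem_pairTwo.1 hh).2).2.2 he).eq
    rw [lineTwo, ← SetLike.mem_coe, Subgroup.coe_mul_of_right_le_normalizer_left _ _ hn] at hg
    obtain ⟨e, he, x, hx, rfl⟩ := hg
    exact ⟨mul_mem (X.el_le_two W he) (X.mem_pairTwo.1 hx).1, e, he,
      by rw [mul_smul, (mem_cPair.1 (X.mem_pairTwo.1 hx).2).2.1]⟩
  · rintro ⟨hgT, hgb⟩
    obtain ⟨e, he, heg⟩ := X.exists_el_mul_cPair (W.sylow.1 hgT) hgb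
    rw [show g = e * (e * g) by rw [← mul_assoc, X.el_mul_self he, one_mul]]
    exact Subgroup.mul_mem_sup he (X.mem_pairTwo.2 ⟨mul_mem (X.el_le_two W he) hgT, heg⟩)

theorem lineTwo_decomp (W : LineTwo Z u a A T) (hb : b ≠ a) {g : G} (hg : g ∈ lineTwo Z a b T) :
    ∃ e ∈ el Z a, ∃ x ∈ pairTwo Z a b T, g = e * x := by
  obtain ⟨hgT, hgb⟩ := (X.mem_lineTwo W hb).1 hg
  obtain ⟨e, he, heg⟩ := X.exists_el_mul_cPair (W.sylow.1 hgT) hgb
  exact ⟨e, he, e * g, X.mem_pairTwo.2 ⟨mul_mem (X.el_le_two W he) hgT, heg⟩,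
    by rw [← mul_assoc, X.el_mul_self he, one_mul]⟩

theorem lineTwo_unique (hb : b ≠ a) {e e' x x' : G} (he : e ∈ el Z a) (he' : e' ∈ el Z a)
    (hx : x ∈ pairTwo Z a b T) (hx' : x' ∈ pairTwo Z a b T) (h : e * x = e' * x') : e = e' ∧ x = x' := by
  have h1 : e = e' := X.el_inj hb he he' (by
    have h2 := congrArg (· • b) h
    simp only [mul_smul, (mem_cPair.1 (X.mem_pairTwo.1 hx).2).2.1,
      (mem_cPair.1 (X.mem_pairTwo.1 hx').2).2.1] at h2
    exact h2)
  exact ⟨h1, mul_left_cancel (h1 ▸ h : e' * x = e' * x')⟩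

/-- The centraliser of the torus in the Sylow subgroup lies in the pair group. -/
theorem two_fixed (hs : Short Z Ω) (L : LineSetup Z u a b A) (W : LineTwo Z u a A T) {g : G} (hg : g ∈ T)
    (hc : ∀ t ∈ A, Commute t g) : g ∈ pairTwo Z a b T := by
  have h3 : 1 < Nat.card A := by rw [X.card_torus L]; have := X.four_le_card_el a; omega
  haveI := Finite.one_lt_card_iff_nontrivial.1 h3
  obtain ⟨⟨t, ht⟩, ht1⟩ := exists_ne (1 : A)
  obtain ⟨hga, hgc⟩ := mem_cHull.1 (W.sylow.1 hg)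
  refine X.mem_pairTwo.2 ⟨hg, mem_cPair.2 ⟨hga, ?_, hgc⟩⟩
  have h1 : t • g • b = g • b := by rw [← mul_smul, (hc t ht).eq, mul_smul, (L.fix t ht).2]
  rcases X.torus_fix hs L ht (fun h => ht1 (Subtype.ext h)) h1 with h | h
  · exact absurd (MulAction.injective g (h.trans hga.symm)) L.ne.symm
  · exact h

theorem torus_pairTwo (hs : Short Z Ω) (L : LineSetup Z u a b A) {t x : G} (ht : t ∈ A)
    (hx : x ∈ pairTwo Z a b T) : Commute t x := X.torus_commute hs L ht (X.mem_pairTwo.1 hx).2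

/-- A non-trivial element of the torus stabilises no other line at `a`. -/
theorem torus_line_fix (hs : Short Z Ω) (L : LineSetup Z u a b A) {t : G} (ht : t ∈ A) (ht1 : t ≠ 1) {y : Ω}
    (hy : y ≠ a) (h : t • y ∈ lineOff Z a y) : y ∈ lineOff Z a b := by
  classical
  haveI := X.hyp.finite_points
  obtain ⟨p, hp, hpd⟩ := Nat.exists_prime_and_dvd (fun h1 => ht1 (orderOf_eq_one_iff.1 h1))
  haveI := Fact.mk hp
  obtain ⟨s, hsdef⟩ : ∃ s, s = t ^ (orderOf t / p) := ⟨_, rfl⟩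
  have hsp : orderOf s = p := hsdef ▸ orderOf_pow_orderOf_div (orderOf_pos t).ne' hpd
  have hsA : s ∈ A := hsdef ▸ pow_mem ht _
  have hta := (L.fix t ht).1
  have hinv : ∀ g ∈ Subgroup.zpowers t, ∀ z ∈ lineOff Z a y, g • z ∈ lineOff Z a y := by
    intro g hg
    obtain ⟨i, rfl⟩ : ∃ i : ℕ, t ^ i = g := mem_powers_iff_mem_zpowers.2 hg
    induction i with
    | zero => intro z hz; rwa [pow_zero, one_smul]
    | succ i ih =>
      intro z hz
      rw [pow_succ, mul_smul]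
      refine ih (pow_mem (Subgroup.mem_zpowers t) i) _ ?_
      obtain ⟨e, he, rfl⟩ := hz
      obtain ⟨f, hf, hfy⟩ := h
      refine ⟨t * e * t⁻¹ * f, mul_mem (X.conj_el hta he) hf, ?_⟩
      rw [mul_smul, hfy, mul_smul, mul_smul, inv_smul_smul]
  have hsz : s ∈ Subgroup.zpowers t := hsdef ▸ pow_mem (Subgroup.mem_zpowers t) _
  letI : MulAction (Subgroup.zpowers s) (lineOff Z a y) :=
    { smul := fun g z => ⟨(g : G) • (z : Ω), hinv g (Subgroup.zpowers_le.2 hsz g.2) z z.2⟩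
      one_smul := fun z => Subtype.ext (one_smul G (z : Ω))
      mul_smul := fun g g' z => Subtype.ext (mul_smul (g : G) (g' : G) (z : Ω)) }
  have hP : IsPGroup p (Subgroup.zpowers s) := IsPGroup.of_card (n := 1) (by rw [Nat.card_zpowers, hsp, pow_one])
  have hnd : ¬ p ∣ Nat.card (lineOff Z a y) := by
    rw [Nat.card_coe_set_eq, X.ncard_lineOff hy]
    intro hd
    have h1 : p ∣ Nat.card (el Z a) - 1 :=
      X.card_torus L ▸ hsp ▸ (Subgroup.orderOf_mk s hsA ▸ orderOf_dvd_natCard (⟨s, hsA⟩ : A))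
    have h2 := Nat.dvd_sub hd h1
    rw [show Nat.card (el Z a) - (Nat.card (el Z a) - 1) = 1 by have := X.four_le_card_el a; omega] at h2
    exact hp.one_lt.ne' (Nat.dvd_one.1 h2)
  obtain ⟨⟨z, hz⟩, hzf⟩ := hP.nonempty_fixed_point_of_prime_not_dvd_card (lineOff Z a y) hnd
  have hsz' : s • z = z := congrArg Subtype.val (hzf ⟨s, Subgroup.mem_zpowers s⟩)
  rcases X.torus_fix hs L hsA (fun h => hp.one_lt.ne' (by rw [← hsp, h, orderOf_one])) hsz' with rfl | rfl
  · exact absurd rfl (X.ne_of_mem_lineOff hy hz)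
  · obtain ⟨e, he, hez⟩ := hz
    exact ⟨e, he, by rw [← hez, ← mul_smul, X.el_mul_self he, one_smul]⟩

theorem lineTwo_le_famTwo (W : LineTwo Z u a A T) (hb : b ≠ a) : lineTwo Z a b T ≤ famTwo Z a b T :=
  le_inf (fun _ hg => ((X.mem_lineTwo W hb).1 hg).1) le_normalizer

theorem torus_norm_line (hs : Short Z Ω) (L : LineSetup Z u a b A) (W : LineTwo Z u a A T) :
    A ≤ normalizer (lineTwo Z a b T : Set G) := by
  intro t ht
  have key : ∀ t ∈ A, ∀ g ∈ lineTwo Z a b T, t * g * t⁻¹ ∈ lineTwo Z a b T := by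
    intro t ht g hg
    obtain ⟨e, he, x, hx, rfl⟩ := X.lineTwo_decomp W L.ne.symm hg
    rw [show t * (e * x) * t⁻¹ = t * e * t⁻¹ * (t * x * t⁻¹) by group, (X.torus_pairTwo hs L ht hx).eq,
      mul_inv_cancel_right]
    exact Subgroup.mul_mem_sup (X.conj_el (L.fix t ht).1 he) hx
  refine Subgroup.mem_normalizer_iff.2 fun g => ⟨key t ht g, fun hg => ?_⟩
  have := key t⁻¹ (inv_mem ht) _ hg
  rwa [show t⁻¹ * (t * g * t⁻¹) * t⁻¹⁻¹ = g by group] at this

theorem torus_norm_fam (hs : Short Z Ω) (L : LineSetup Z u a b A) (W : LineTwo Z u a A T) {t g : G} (ht : t ∈ A)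
    (hg : g ∈ famTwo Z a b T) : t * g * t⁻¹ ∈ famTwo Z a b T :=
  ⟨conj_mem_normalizer (W.norm ht) hg.1, Subgroup.mul_mem _ (Subgroup.mul_mem _ (X.torus_norm_line hs L W ht) hg.2)
    (Subgroup.inv_mem _ (X.torus_norm_line hs L W ht))⟩

/-- The normaliser carries `b` into the family of each involution of the pair part. -/
theorem famTwo_smul (W : LineTwo Z u a A T) (hb : b ≠ a) {g : G} (hg : g ∈ famTwo Z a b T) {x : G}
    (hx : x ∈ pairTwo Z a b T) : g • b ∈ fam Z x a := by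
  obtain ⟨hga, hgc⟩ := mem_cHull.1 (W.sylow.1 hg.1)
  refine ⟨fun h => hb (MulAction.injective g (h.trans hga.symm)), ?_⟩
  have h1 : g⁻¹ * x * g⁻¹⁻¹ ∈ lineTwo Z a b T :=
    conj_mem_normalizer (inv_mem hg.2) (Subgroup.mem_sup_right hx)
  obtain ⟨e, he, x', hx', hex⟩ := X.lineTwo_decomp W hb h1
  have hge : g * e * g⁻¹ = e := X.el_conj_cHull (W.sylow.1 hg.1) he
  have h2 : x • g • b = e • g • b := by
    rw [show x = g * (g⁻¹ * x * g⁻¹⁻¹) * g⁻¹ by group, hex, mul_smul, inv_smul_smul, mul_smul, mul_smul,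
      (mem_cPair.1 (X.mem_pairTwo.1 hx').2).2.1, ← mul_smul e, ← mul_smul, show g * e = e * g from
      mul_inv_eq_iff_eq_mul.1 hge]
  refine ⟨e, he, ?_⟩
  rw [(X.el_comm (mem_cPair.1 (X.mem_pairTwo.1 hx).2).2.2 he).symm.eq, mul_smul, h2, ← mul_smul,
    X.el_mul_self he, one_smul]

/-- The normaliser is transitive on the points of the family of each involution of the pair part. -/
theorem orb_famTwo (hs : Short Z Ω) (L : LineSetup Z u a b A) (W : LineTwo Z u a A T) {x : G}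
    (hx : x ∈ pairTwo Z a b T) (hx1 : x ≠ 1) : orb (famTwo Z a b T) b = fam Z x a := by
  classical
  haveI : Fact (Nat.Prime 2) := ⟨Nat.prime_two⟩
  haveI := X.hyp.finite_points
  obtain ⟨n, hn, hq⟩ := X.exists_card_el a
  obtain ⟨hx2, hxZ, hxa, -⟩ := X.pairTwo_invol hs L W hx hx1
  have hsub : orb (famTwo Z a b T) b ⊆ fam Z x a := by
    rintro _ ⟨g, hg, rfl⟩
    exact X.famTwo_smul W L.ne.symm hg hx
  refine Set.eq_of_subset_of_ncard_le hsub ?_ (Set.toFinite _)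
  rw [X.ncard_fam hs hx2 hxZ hxa, hq]
  have hline : lineOff Z a b ⊆ orb (famTwo Z a b T) b := by
    rintro _ ⟨e, he, rfl⟩
    exact ⟨e, X.lineTwo_le_famTwo W L.ne.symm (Subgroup.mem_sup_left he), rfl⟩
  -- the normaliser leaves the line
  have hne : ∃ g ∈ famTwo Z a b T, g • b ∉ lineOff Z a b := by
    by_contra hcon
    push Not at hcon
    have hlt : lineTwo Z a b T < T := by
      refine lt_of_le_of_ne (fun g hg => ((X.mem_lineTwo W L.ne.symm).1 hg).1) fun heq => ?_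
      have h1 : orb T b ⊆ lineOff Z a b := by
        rintro _ ⟨g, hg, rfl⟩
        rw [← heq] at hg
        exact ((X.mem_lineTwo W L.ne.symm).1 hg).2
      have h2 := Set.ncard_le_ncard h1 (Set.toFinite _)
      rw [X.orb_two hs L W, X.ncard_lineOff L.ne.symm, hq] at h2
      rcases X.orb_cases hs L with ho | ho <;>
      · rw [ho, hq, ← pow_mul] at h2
        have := (Nat.pow_le_pow_iff_right (by norm_num : 1 < 2)).1 h2
        omega
    haveI := W.sylow.2.1.isNilpotent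
    have hn' := Group.normalizerCondition_of_isNilpotent ((lineTwo Z a b T).subgroupOf T)
      (lt_top_iff_ne_top.2 fun h => hlt.not_ge (Subgroup.subgroupOf_eq_top.1 h))
    obtain ⟨g, hg, hgn⟩ := Set.exists_of_ssubset hn'
    refine hgn (mem_subgroupOf.2 ((X.mem_lineTwo W L.ne.symm).2 ⟨g.2, hcon _ ⟨g.2, ?_⟩⟩))
    refine Subgroup.mem_normalizer_iff.2 fun y => ⟨fun hy => ?_, fun hy => ?_⟩
    · exact (Subgroup.mem_normalizer_iff.1 hg ⟨y, ((X.mem_lineTwo W L.ne.symm).1 hy).1⟩).1 hy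
    · have hyT : y ∈ T := by
        have := mul_mem (mul_mem (inv_mem g.2) ((X.mem_lineTwo W L.ne.symm).1 hy).1) g.2
        rwa [show (g : G)⁻¹ * ((g : G) * y * (g : G)⁻¹) * (g : G) = y by group] at this
      exact (Subgroup.mem_normalizer_iff.1 hg ⟨y, hyT⟩).2 hy
  obtain ⟨g₀, hg₀, hg₀b⟩ := hne
  -- its length
  obtain ⟨i, hi⟩ : ∃ i, (orb (famTwo Z a b T) b).ncard = 2 ^ i := by
    obtain ⟨j, hj⟩ := IsPGroup.iff_card.1 (W.sylow.2.1.to_le (inf_le_left : famTwo Z a b T ≤ T))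
    obtain ⟨i, -, hi⟩ := (Nat.dvd_prime_pow Nat.prime_two).1
      (hj ▸ ncard_orb_mul (famTwo Z a b T) b ▸ dvd_mul_right _ _)
    exact ⟨i, hi⟩
  have hlt : 2 ^ n < 2 ^ i := by
    rw [← hi, ← hq, ← X.ncard_lineOff L.ne.symm]
    exact Set.ncard_lt_ncard ⟨hline, fun h => hg₀b (h ⟨g₀, hg₀, rfl⟩)⟩ (Set.toFinite _)
  have hni : n < i := (Nat.pow_lt_pow_iff_right (by norm_num)).1 hlt
  have hdiv : Nat.card A ∣ 2 ^ i - 2 ^ n := by
    rw [← hi, ← hq, ← X.ncard_lineOff L.ne.symm, ← Set.ncard_sdiff hline (Set.toFinite _)]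
    refine X.torus_dvd hs L (fun h => ?_) (fun h => h.2 (mem_lineOff_self a b)) fun t ht y hy => ?_
    · exact (hsub h.1).1 rfl
    obtain ⟨hta, htb⟩ := L.fix t ht
    refine ⟨?_, fun h => hy.2 ?_⟩
    · obtain ⟨g, hg, rfl⟩ := hy.1
      exact ⟨t * g * t⁻¹, X.torus_norm_fam hs L W ht hg, by rw [mul_smul, mul_smul, inv_smul_eq_iff.2 htb.symm]⟩
    · obtain ⟨e, he, hey⟩ := h
      refine ⟨t⁻¹ * e * t⁻¹⁻¹, X.conj_el (inv_smul_eq_iff.2 hta.symm) he, ?_⟩
      rw [inv_inv, mul_smul, mul_smul, htb, hey, inv_smul_smul]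
  obtain ⟨m, rfl⟩ : ∃ m, i = n + m := ⟨i - n, by omega⟩
  rw [X.card_torus L, hq, pow_add, show 2 ^ n * 2 ^ m - 2 ^ n = 2 ^ n * (2 ^ m - 1) by rw [Nat.mul_sub_one]] at hdiv
  have hcop : (2 ^ n - 1).Coprime (2 ^ n) := by
    refine Nat.Coprime.pow_right n (Nat.coprime_two_right.2 ?_)
    exact Nat.Even.sub_odd Nat.one_le_two_pow (Nat.even_pow.2 ⟨even_two, by omega⟩) odd_one
  obtain ⟨c, rfl⟩ := dvd_of_pow_sub_dvd (by omega) m (hcop.dvd_of_dvd_mul_left hdiv)
  rw [hi, ← pow_add]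
  refine Nat.pow_le_pow_right (by norm_num) ?_
  rcases Nat.eq_zero_or_pos c with rfl | hc
  · omega
  · have : n ≤ n * c := Nat.le_mul_of_pos_right n hc
    omega

/-- Outside the line stabiliser the normaliser stabilises no line of the family. -/
theorem famTwo_stab (hs : Short Z Ω) (L : LineSetup Z u a b A) (W : LineTwo Z u a A T) {g : G}
    (hg : g ∈ famTwo Z a b T) {x : G} (hx : x ∈ pairTwo Z a b T) (hx1 : x ≠ 1) {y : Ω} (hy : y ∈ fam Z x a)
    (hgy : g • y ∈ lineOff Z a y) : g ∈ lineTwo Z a b T := by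
  rw [← X.orb_famTwo hs L W hx hx1] at hy
  obtain ⟨h, hh, rfl⟩ := hy
  obtain ⟨e, he, hey⟩ := hgy
  have h1 : h⁻¹ * g * h ∈ lineTwo Z a b T := by
    refine (X.mem_lineTwo W L.ne.symm).2 ⟨mul_mem (mul_mem (inv_mem hh.1) hg.1) hh.1, e, he, ?_⟩
    rw [mul_smul, mul_smul, ← hey, X.smul_el (W.sylow.1 (inv_mem hh.1)) he, inv_smul_smul]
  have h2 := conj_mem_normalizer hh.2 h1
  rwa [show h * (h⁻¹ * g * h) * h⁻¹ = g by group] at h2

/-- Two elements outside the line stabiliser differ, up to it, by the torus. -/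
theorem exists_torus_conj (hs : Short Z Ω) (L : LineSetup Z u a b A) (W : LineTwo Z u a A T) {g h : G}
    (hg : g ∈ famTwo Z a b T) (hg' : g ∉ lineTwo Z a b T) (hh : h ∈ famTwo Z a b T)
    (hh' : h ∉ lineTwo Z a b T) : ∃ t ∈ A, ∃ s ∈ lineTwo Z a b T, h = t * g * t⁻¹ * s := by
  classical
  haveI := X.hyp.finite_points
  have hu : u ∈ pairTwo Z a b T := X.mem_pairTwo.2 ⟨W.mem, X.invol_mem_cPair L.invol L.fix_a L.fix_b⟩
  have hu1 : u ≠ 1 := fun h => by have := L.invol; rw [h, orderOf_one] at this; omega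
  have hgb : ∀ {k : G}, k ∈ famTwo Z a b T → k ∉ lineTwo Z a b T → k • b ∉ lineOff Z a b := fun {k} hk hk' h =>
    hk' ((X.mem_lineTwo W L.ne.symm).2 ⟨hk.1, h⟩)
  -- the translates by torus and line cover the family off the line
  obtain ⟨O, hO⟩ : ∃ O : Set Ω, O = {y | ∃ t ∈ A, ∃ e ∈ el Z a, e • t • g • b = y} := ⟨_, rfl⟩
  have hga : ∀ t ∈ A, t • g • b ≠ a := fun t ht h => by
    have h1 := MulAction.injective t (h.trans (L.fix t ht).1.symm)
    exact L.ne.symm (MulAction.injective g (h1.trans (mem_cHull.1 (W.sylow.1 hg.1)).1.symm))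
  have hsub : O ⊆ fam Z u a \ lineOff Z a b := by
    rw [hO]
    rintro _ ⟨t, ht, e, he, rfl⟩
    obtain ⟨hta, htb⟩ := L.fix t ht
    have hte : t * g * t⁻¹ ∈ famTwo Z a b T := X.torus_norm_fam hs L W ht hg
    have h1 : e • t • g • b = (e * (t * g * t⁻¹)) • b := by
      rw [mul_smul, mul_smul, mul_smul, inv_smul_eq_iff.2 htb.symm]
    refine ⟨?_, fun h2 => ?_⟩
    · rw [h1]
      exact X.famTwo_smul W L.ne.symm (mul_mem (X.lineTwo_le_famTwo W L.ne.symm (Subgroup.mem_sup_left he)) hte) hu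
    · obtain ⟨f, hf, hfy⟩ := h2
      refine hgb hg hg' ⟨t⁻¹ * (e * f) * t⁻¹⁻¹, X.conj_el (inv_smul_eq_iff.2 hta.symm) (mul_mem he hf), ?_⟩
      rw [inv_inv, mul_smul, mul_smul, htb, mul_smul, hfy, ← mul_smul e, X.el_mul_self he, one_smul, inv_smul_smul]
  have hcard : O.ncard = Nat.card A * Nat.card (el Z a) := by
    rw [← Nat.card_prod, ← Nat.card_coe_set_eq]
    refine (Nat.card_eq_of_bijective (fun p : A × el Z a => (⟨(p.2 : G) • (p.1 : G) • g • b, by
      rw [hO]; exact ⟨p.1, p.1.2, p.2, p.2.2, rfl⟩⟩ : O)) ⟨?_, ?_⟩).symm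
    · rintro ⟨t, e⟩ ⟨t', e'⟩ hp
      have hp' : (e : G) • (t : G) • g • b = (e' : G) • (t' : G) • g • b := congrArg Subtype.val hp
      obtain rfl : t = t' := by
        by_contra hne
        have hne' : ((t' : G))⁻¹ * t ≠ 1 := fun h => hne (Subtype.ext (inv_mul_eq_one.1 h).symm)
        have hy : g • b ≠ a := fun h => L.ne.symm (MulAction.injective g
          (h.trans (mem_cHull.1 (W.sylow.1 hg.1)).1.symm))
        refine hgb hg hg' (X.torus_line_fix hs L (mul_mem (inv_mem t'.2) t.2) hne' hy ?_)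
        refine ⟨(t' : G)⁻¹ * ((e : G) * e') * (t' : G)⁻¹⁻¹,
          X.conj_el (inv_smul_eq_iff.2 (L.fix t' t'.2).1.symm) (mul_mem e.2 e'.2), ?_⟩
        rw [inv_inv, mul_smul, mul_smul, mul_smul, ← hp', ← mul_smul (e : G) (e : G), X.el_mul_self e.2, one_smul,
          ← mul_smul]
      rw [Subtype.ext (X.el_inj (hga t t.2) e.2 e'.2 hp')]
    · rintro ⟨y, hy⟩
      obtain ⟨t, ht, e, he, hey⟩ := hO ▸ hy
      exact ⟨(⟨t, ht⟩, ⟨e, he⟩), Subtype.ext hey⟩
  have hOeq : O = fam Z u a \ lineOff Z a b := by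
    refine Set.eq_of_subset_of_ncard_le hsub ?_ (Set.toFinite _)
    have hl : lineOff Z a b ⊆ fam Z u a := by
      rintro _ ⟨e, he, rfl⟩
      exact X.famTwo_smul W L.ne.symm (g := e) (X.lineTwo_le_famTwo W L.ne.symm (Subgroup.mem_sup_left he)) hu
    rw [Set.ncard_sdiff hl (Set.toFinite _), X.ncard_fam hs L.invol L.notMem L.fix_a, X.ncard_lineOff L.ne.symm,
      hcard, X.card_torus L, Nat.sub_one_mul]
  have hhy : h • b ∈ O := by
    rw [hOeq]
    exact ⟨X.famTwo_smul W L.ne.symm hh hu, hgb hh hh'⟩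
  rw [hO] at hhy
  obtain ⟨t, ht, e, he, hey⟩ := hhy
  obtain ⟨hta, htb⟩ := L.fix t ht
  refine ⟨t, ht, (t * g * t⁻¹)⁻¹ * h, ?_, by group⟩
  have hte : t * g * t⁻¹ ∈ famTwo Z a b T := X.torus_norm_fam hs L W ht hg
  refine (X.mem_lineTwo W L.ne.symm).2 ⟨mul_mem (inv_mem hte.1) hh.1, e, he, ?_⟩
  rw [mul_smul, ← hey, X.smul_el (W.sylow.1 (inv_mem hte.1)) he]
  congr 1
  rw [← mul_smul t g, ← mul_smul, show (t * g * t⁻¹)⁻¹ * (t * g) = t by group, htb]

/-- The index of the line stabiliser leaves room for three cosets. -/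
theorem exists_two_outside (hs : Short Z Ω) (L : LineSetup Z u a b A) (W : LineTwo Z u a A T) :
    ∃ g ∈ famTwo Z a b T, g ∉ lineTwo Z a b T ∧ ∀ k ∈ famTwo Z a b T,
      ∃ h ∈ famTwo Z a b T, h ∉ lineTwo Z a b T ∧ k * h ∉ lineTwo Z a b T := by
  classical
  haveI := X.hyp.finite_points
  have hu : u ∈ pairTwo Z a b T := X.mem_pairTwo.2 ⟨W.mem, X.invol_mem_cPair L.invol L.fix_a L.fix_b⟩
  have hu1 : u ≠ 1 := fun h => by have := L.invol; rw [h, orderOf_one] at this; omega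
  have key : ∀ k ∈ famTwo Z a b T, ∃ h ∈ famTwo Z a b T, h ∉ lineTwo Z a b T ∧ k * h ∉ lineTwo Z a b T := by
    intro k hk
    obtain ⟨y, hy, hy1⟩ : ∃ y ∈ fam Z u a, y ∉ lineOff Z a b ∪ lineOff Z a (k⁻¹ • b) := by
      by_contra hcon
      push Not at hcon
      have h1 := Set.ncard_le_ncard (show fam Z u a ⊆ lineOff Z a b ∪ lineOff Z a (k⁻¹ • b) from hcon) (Set.toFinite _)
      have h2 := Set.ncard_union_le (lineOff Z a b) (lineOff Z a (k⁻¹ • b))
      rw [X.ncard_fam hs L.invol L.notMem L.fix_a] at h1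
      rw [X.ncard_lineOff L.ne.symm, X.ncard_lineOff (fun h => L.ne.symm (MulAction.injective k⁻¹
        (h.trans (inv_smul_eq_iff.2 (mem_cHull.1 (W.sylow.1 hk.1)).1.symm).symm)))] at h2
      have h4 := X.four_le_card_el a
      nlinarith
    rw [← X.orb_famTwo hs L W hu hu1] at hy
    obtain ⟨h, hh, rfl⟩ := hy
    refine ⟨h, hh, fun h' => hy1 (Or.inl ((X.mem_lineTwo W L.ne.symm).1 h').2), fun h' => hy1 (Or.inr ?_)⟩
    obtain ⟨e, he, hey⟩ := ((X.mem_lineTwo W L.ne.symm).1 h').2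
    refine ⟨e, he, ?_⟩
    rw [← X.smul_el (W.sylow.1 (inv_mem hk.1)) he, hey, mul_smul, inv_smul_smul]
  obtain ⟨g, hg, hg', -⟩ := key 1 (one_mem _)
  exact ⟨g, hg, hg', key⟩

/-- The normaliser centralises the pair part modulo the translations. -/
theorem famTwo_conj (hs : Short Z Ω) (L : LineSetup Z u a b A) (W : LineTwo Z u a A T) {g : G}
    (hg : g ∈ famTwo Z a b T) {x : G} (hx : x ∈ pairTwo Z a b T) : g * x * g⁻¹ * x ∈ el Z a := by
  classical
  choose ε hε π hπ hdec using fun (g : famTwo Z a b T) (x : pairTwo Z a b T) =>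
    X.lineTwo_decomp W L.ne.symm (conj_mem_normalizer g.2.2 (Subgroup.mem_sup_right x.2 : (x : G) ∈ lineTwo Z a b T))
  have huniq : ∀ (g : famTwo Z a b T) (x : pairTwo Z a b T) (e x' : G), e ∈ el Z a → x' ∈ pairTwo Z a b T →
      (g : G) * x * (g : G)⁻¹ = e * x' → π g x = x' := fun g x e x' he hx' h =>
    (X.lineTwo_unique L.ne.symm (hε g x) he (hπ g x) hx' ((hdec g x).symm.trans h)).2
  -- multiplicative, trivial on the line stabiliser and invariant under the torus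
  have hmul : ∀ (g h : famTwo Z a b T) (x : pairTwo Z a b T), π (g * h) x = π g ⟨π h x, hπ h x⟩ := fun g h x =>
    huniq (g * h) x (ε h x * ε g ⟨π h x, hπ h x⟩) _ (mul_mem (hε h x) (hε g _)) (hπ g _) (by
      rw [Subgroup.coe_mul, mul_inv_rev, show (g : G) * h * x * ((h : G)⁻¹ * (g : G)⁻¹) =
        g * ((h : G) * x * (h : G)⁻¹) * (g : G)⁻¹ by group, hdec h x,
        show (g : G) * (ε h x * π h x) * (g : G)⁻¹ = g * ε h x * (g : G)⁻¹ * (g * π h x * (g : G)⁻¹) by group,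
        X.el_conj_cHull (W.sylow.1 g.2.1) (hε h x), hdec g ⟨π h x, hπ h x⟩, mul_assoc])
  have hline : ∀ (s : famTwo Z a b T), (s : G) ∈ lineTwo Z a b T → ∀ x, π s x = x := fun s hs' x => by
    refine huniq s x 1 x (one_mem _) x.2 ?_
    obtain ⟨e, he, y, hy, hey⟩ := X.lineTwo_decomp W L.ne.symm hs'
    have hex : Commute e x := X.el_comm (mem_cPair.1 (X.mem_pairTwo.1 x.2).2).2.2 he
    rw [one_mul, hey, ((hex.mul_left (X.pairTwo_comm hs L W hy x.2))).eq, mul_inv_cancel_right]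
  have hsame : ∀ g h : famTwo Z a b T, (g : G) ∉ lineTwo Z a b T → (h : G) ∉ lineTwo Z a b T →
      ∀ x, π g x = π h x := fun g h hg' hh' x => by
    obtain ⟨t, ht, s, hs', hts⟩ := X.exists_torus_conj hs L W g.2 hg' h.2 hh'
    have hk : (⟨t * g * t⁻¹, X.torus_norm_fam hs L W ht g.2⟩ : famTwo Z a b T) *
        ⟨s, X.lineTwo_le_famTwo W L.ne.symm hs'⟩ = h := Subtype.ext hts.symm
    rw [← hk, hmul]
    have hxs : (⟨π ⟨s, X.lineTwo_le_famTwo W L.ne.symm hs'⟩ x, hπ _ x⟩ : pairTwo Z a b T) = x :=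
      Subtype.ext (hline _ hs' x)
    rw [hxs]
    refine (huniq _ x (t * ε g x * t⁻¹) _ (X.conj_el (L.fix t ht).1 (hε g x)) (hπ g x) ?_).symm
    show t * g * t⁻¹ * x * (t * g * t⁻¹)⁻¹ = t * ε g x * t⁻¹ * π g x
    rw [show t * g * t⁻¹ * x * (t * g * t⁻¹)⁻¹ = t * ((g : G) * (t⁻¹ * (x * t)) * (g : G)⁻¹) * t⁻¹ by group,
      ← (X.torus_pairTwo hs L ht x.2).eq, inv_mul_cancel_left, hdec g x, mul_assoc (t * ε g x),
      show t⁻¹ * π g x = π g x * t⁻¹ from (X.torus_pairTwo hs L ht (hπ g x)).inv_left.eq]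
    group
  by_cases hg' : g ∈ lineTwo Z a b T
  · have := hdec ⟨g, hg⟩ ⟨x, hx⟩
    rw [hline ⟨g, hg⟩ hg' ⟨x, hx⟩] at this
    rw [show g * x * g⁻¹ * x = ε ⟨g, hg⟩ ⟨x, hx⟩ * x * x from congrArg (· * x) this, mul_assoc,
      X.pairTwo_sq hs L W hx, mul_one]
    exact hε _ _
  obtain ⟨-, -, -, key⟩ := X.exists_two_outside hs L W
  obtain ⟨h, hh, hh', hgh⟩ := key g hg
  have h1 : ∀ x, π ⟨g, hg⟩ x = π ⟨g, hg⟩ ⟨π ⟨g, hg⟩ x, hπ _ x⟩ := fun x => by
    have e1 := hsame ⟨g, hg⟩ (⟨g, hg⟩ * ⟨h, hh⟩) hg' hgh x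
    rw [hmul] at e1
    refine e1.trans (congrArg (π ⟨g, hg⟩) (Subtype.ext ?_))
    exact hsame ⟨h, hh⟩ ⟨g, hg⟩ hh' hg' x
  have h2 : π ⟨g, hg⟩ ⟨x, hx⟩ = x := by
    have e2 := h1 ⟨x, hx⟩
    have e3 := hdec ⟨g, hg⟩ ⟨π ⟨g, hg⟩ ⟨x, hx⟩, hπ _ _⟩
    rw [← e2] at e3
    have e4 := hdec ⟨g, hg⟩ ⟨x, hx⟩
    have e5 : g * (π ⟨g, hg⟩ ⟨x, hx⟩ * x) * g⁻¹ ∈ el Z a := by
      have e6 : g * (π ⟨g, hg⟩ ⟨x, hx⟩ * x) * g⁻¹ =
          g * π ⟨g, hg⟩ ⟨x, hx⟩ * g⁻¹ * (g * x * g⁻¹)⁻¹ := by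
        rw [mul_inv_rev, mul_inv_rev, inv_inv, inv_eq_of_mul_eq_one_right (X.pairTwo_sq hs L W hx)]
        group
      rw [e6, e3, e4, show ∀ p q r : G, p * r * (q * r)⁻¹ = p * q⁻¹ from fun p q r => by group]
      exact mul_mem (hε _ _) (inv_mem (hε _ _))
    have e7 : π ⟨g, hg⟩ ⟨x, hx⟩ * x ∈ el Z a := by
      have e8 := X.el_conj_cHull (W.sylow.1 (inv_mem hg.1)) e5
      rw [show g⁻¹ * (g * (π ⟨g, hg⟩ ⟨x, hx⟩ * x) * g⁻¹) * g⁻¹⁻¹ = π ⟨g, hg⟩ ⟨x, hx⟩ * x by group] at e8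
      rwa [e8]
    obtain ⟨e9, -⟩ := X.lineTwo_unique L.ne.symm e7 (one_mem _) (x := 1) (one_mem _)
      (mul_mem (hπ _ _) hx) (by rw [one_mul, mul_one])
    rw [mul_eq_one_iff_eq_inv, inv_eq_of_mul_eq_one_right (X.pairTwo_sq hs L W hx)] at e9
    exact e9
  have := hdec ⟨g, hg⟩ ⟨x, hx⟩
  rw [h2] at this
  rw [show g * x * g⁻¹ * x = ε ⟨g, hg⟩ ⟨x, hx⟩ * x * x from congrArg (· * x) this, mul_assoc,
    X.pairTwo_sq hs L W hx, mul_one]
  exact hε _ _

/-- The normaliser has exponent two modulo the translations. -/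
theorem famTwo_sq (hs : Short Z Ω) (L : LineSetup Z u a b A) (W : LineTwo Z u a A T) {g : G}
    (hg : g ∈ famTwo Z a b T) : g * g ∈ el Z a := by
  have hu : u ∈ pairTwo Z a b T := X.mem_pairTwo.2 ⟨W.mem, X.invol_mem_cPair L.invol L.fix_a L.fix_b⟩
  have huu := mul_self_of_orderOf_two L.invol
  have hgH := W.sylow.1 hg.1
  obtain ⟨hga, hgc⟩ := mem_cHull.1 hgH
  have hgg : g * g ∈ lineTwo Z a b T := by
    have he := X.famTwo_conj hs L W hg hu
    obtain ⟨e, hee⟩ : ∃ e, e = g * u * g⁻¹ * u := ⟨_, rfl⟩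
    rw [← hee] at he
    have h1 : g * u * g⁻¹ = e * u := by rw [hee, mul_assoc (g * u * g⁻¹), huu, mul_one]
    have h2 : g * g * u * (g * g)⁻¹ = u := by
      calc g * g * u * (g * g)⁻¹ = g * (g * u * g⁻¹) * g⁻¹ := by group
        _ = g * (e * u) * g⁻¹ := by rw [h1]
        _ = g * e * g⁻¹ * (g * u * g⁻¹) := by group
        _ = e * e * u := by rw [X.el_conj_cHull hgH he, h1, mul_assoc]
        _ = u := by rw [X.el_mul_self he, one_mul]
    have h4 : u • (g * g) • b = (g * g) • b := by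
      rw [← mul_smul, ← mul_inv_eq_iff_eq_mul.1 h2, mul_smul, L.fix_b]
    have hgga : (g * g) • a = a := by rw [mul_smul, hga, hga]
    rcases (X.fix_iff hs L.invol L.notMem L.ne L.fix_a L.fix_b).1 h4 with h | h
    · exact absurd (MulAction.injective (g * g) (h.trans hgga.symm)) L.ne.symm
    · exact (X.mem_lineTwo W L.ne.symm).2 ⟨mul_mem hg.1 hg.1, h⟩
  obtain ⟨e, he, x, hx, hex⟩ := X.lineTwo_decomp W L.ne.symm hgg
  by_cases hx1 : x = 1
  · rwa [hex, hx1, mul_one]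
  have hcx : Commute g x := by
    have h1 : Commute g (e * x) := hex ▸ (Commute.refl g).mul_right (Commute.refl g)
    have h2 : Commute g e := (X.el_comm hgc he).symm
    have := h2.inv_right.mul_right h1
    rwa [inv_mul_cancel_left] at this
  obtain ⟨hx2, hxZ, hxa, hxb⟩ := X.pairTwo_invol hs L W hx hx1
  have hgl : g ∈ lineTwo Z a b T := by
    refine (X.mem_lineTwo W L.ne.symm).2 ⟨hg.1, ?_⟩
    have h5 : x • g • b = g • b := by rw [← mul_smul, ← hcx.eq, mul_smul, hxb]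
    rcases (X.fix_iff hs hx2 hxZ L.ne hxa hxb).1 h5 with h | h
    · exact absurd (MulAction.injective g (h.trans hga.symm)) L.ne.symm
    · exact h
  obtain ⟨f, hf, y, hy, rfl⟩ := X.lineTwo_decomp W L.ne.symm hgl
  have hfy : Commute f y := X.el_comm (mem_cPair.1 (X.mem_pairTwo.1 hy).2).2.2 hf
  rw [show f * y * (f * y) = f * (y * f) * y by group, ← hfy.eq, show f * (f * y) * y = (f * f) * (y * y) by group,
    X.el_mul_self hf, X.pairTwo_sq hs L W hy, one_mul]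
  exact one_mem _

theorem el_le_famTwo (W : LineTwo Z u a A T) (hb : b ≠ a) : el Z a ≤ famTwo Z a b T :=
  le_sup_left.trans (X.lineTwo_le_famTwo W hb)

theorem trTwo_le (hs : Short Z Ω) (L : LineSetup Z u a b A) (W : LineTwo Z u a A T) :
    trTwo Z a b A T ≤ famTwo Z a b T :=
  sup_le (X.el_le_famTwo W L.ne.symm) ((Subgroup.commutator_le).2 fun g hg t ht => by
    rw [commutatorElement_def, show g * t * g⁻¹ * t⁻¹ = g * (t * g⁻¹ * t⁻¹) by group]
    exact mul_mem hg (X.torus_norm_fam hs L W ht (inv_mem hg)))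

/-- The commutator part meets the pair part trivially. -/
theorem trTwo_inf (hs : Short Z Ω) (L : LineSetup Z u a b A) (W : LineTwo Z u a A T) {x : G}
    (hx : x ∈ pairTwo Z a b T) (hxV : x ∈ trTwo Z a b A T) : x = 1 := by
  have hodd : Odd (Nat.card A) := by
    obtain ⟨n, hn, hq⟩ := X.exists_card_el a
    rw [X.card_torus L, hq]
    exact Nat.Even.sub_odd Nat.one_le_two_pow (Nat.even_pow.2 ⟨even_two, by omega⟩) odd_one
  have h1 := Grp.fixed_mem_of_mem_commutator_sup hodd (fun t ht g hg => X.torus_norm_fam hs L W ht hg)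
    (X.el_le_famTwo W L.ne.symm) (fun g hg e he => by rw [X.el_conj_cHull (W.sylow.1 hg.1) he]; exact he)
    (fun t ht e he => X.conj_el (L.fix t ht).1 he) (fun g hg => X.famTwo_sq hs L W hg) hxV
    (X.lineTwo_le_famTwo W L.ne.symm (Subgroup.mem_sup_right hx)) fun t ht => X.torus_pairTwo hs L ht hx
  exact X.el_semiregular L.ne.symm h1 (mem_cPair.1 (X.mem_pairTwo.1 hx).2).2.1

/-- The commutator part and the pair part generate the normaliser. -/
theorem famTwo_decomp (hs : Short Z Ω) (L : LineSetup Z u a b A) (W : LineTwo Z u a A T) {g : G}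
    (hg : g ∈ famTwo Z a b T) : ∃ v ∈ trTwo Z a b A T, ∃ x ∈ pairTwo Z a b T, g = v * x := by
  have hAn : A ≤ normalizer (famTwo Z a b T : Set G) := fun t ht => by
    refine Subgroup.mem_normalizer_iff.2 fun g => ⟨fun hg => X.torus_norm_fam hs L W ht hg, fun hg => ?_⟩
    have := X.torus_norm_fam hs L W (inv_mem ht) hg
    rwa [show t⁻¹ * (t * g * t⁻¹) * t⁻¹⁻¹ = g by group] at this
  have hcop : (Nat.card A).Coprime (Nat.card (famTwo Z a b T)) := by
    haveI : Fact (Nat.Prime 2) := ⟨Nat.prime_two⟩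
    obtain ⟨j, hj⟩ : ∃ j, Nat.card (famTwo Z a b T) = 2 ^ j :=
      IsPGroup.iff_card.1 (W.sylow.2.1.to_le inf_le_left)
    obtain ⟨n, hn, hq⟩ := X.exists_card_el a
    rw [hj, X.card_torus L, hq]
    exact Nat.Coprime.pow_right j (Nat.coprime_two_right.2
      (Nat.Even.sub_odd Nat.one_le_two_pow (Nat.even_pow.2 ⟨even_two, by omega⟩) odd_one))
  obtain ⟨v, hv, c, hc, rfl⟩ := Grp.exists_commutator_mul_fixed A (famTwo Z a b T) hAn hcop
    (Or.inl (isSolvable_of_comm fun s t => Subtype.ext (L.comm s s.2 t t.2))) hg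
  exact ⟨v, Subgroup.mem_sup_right hv, c,
    X.two_fixed hs L W hc.1.1 fun t ht => Subgroup.mem_centralizer_iff.1 hc.2 t ht, rfl⟩

end Setting

end Cfsg.Agent.Invol.Aschbacher.Last
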