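import Cfsg.Agent.Lib.Invol.Aschbacher.Last.LineNormal
import Cfsg.Agent.Lib.Grp.CyclicTwo

/-!
# Two-elements of the pair stabiliser at a short line

Modulo its part in the pair group a 2-subgroup of the pair stabiliser acts faithfully on the torus; an involution there
has a fixed subgroup of order one less than the square root of `q`, so there is only one, and the 2-subgroup is
commutative.
-/

set_option autoImplicit false
set_option linter.unusedSectionVars false

namespace Cfsg.Agent.Invol.Aschbacher.Last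

open MulAction Subgroup
open Cfsg.Agent.Invol.Bender (pairStab mem_pair conj_smul_smul)

universe u

variable {G : Type u} [Group G] [Finite G] {Ω : Type u} [MulAction G Ω] {Z : Set G}

namespace Setting

variable (X : Setting G Ω Z) {u : G} {a b : Ω} {A T : Subgroup G}
include X

/-- An element with square trivial on `el Z a`, not centralising it, has a fixed subgroup of the torus of one order. -/
theorem card_torus_fixed (L : LineSetup Z u a b A) {s : G} (hsa : s • a = a) (hnA : s ∈ normalizer (A : Set G))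
    (hs2 : ∀ e ∈ el Z a, Commute e (s * s)) (hs1 : ¬ ∀ e ∈ el Z a, Commute e s) :
    ∃ j : ℕ, Nat.card (el Z a) = 2 ^ (2 * j) ∧
      Nat.card ↥(A ⊓ Subgroup.centralizer ({s} : Set G)) = 2 ^ j - 1 := by
  classical
  haveI : Fact (Nat.Prime 2) := ⟨Nat.prime_two⟩
  obtain ⟨n, hn, hq⟩ := X.exists_card_el a
  obtain ⟨W, hW⟩ : ∃ W : Subgroup G, W = el Z a ⊓ Subgroup.centralizer ({s} : Set G) := ⟨_, rfl⟩
  have hmemW : ∀ e, e ∈ W ↔ e ∈ el Z a ∧ Commute e s := fun e => by
    rw [hW, Subgroup.mem_inf, Subgroup.mem_centralizer_singleton_iff]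
    exact Iff.rfl
  have hcomm : ∀ {e}, e ∈ el Z a → Commute e (s * e * s⁻¹) := fun {e} he => X.el_comm_el he (X.conj_el hsa he)
  let d : el Z a →* el Z a :=
    { toFun := fun e => ⟨e * (s * e * s⁻¹), mul_mem e.2 (X.conj_el hsa e.2)⟩
      map_one' := Subtype.ext (by simp)
      map_mul' := fun e f => Subtype.ext (by
        simp only [Subgroup.coe_mul]
        calc (e : G) * f * (s * (e * f) * s⁻¹) = e * (f * (s * e * s⁻¹)) * (s * f * s⁻¹) := by group
          _ = e * ((s * e * s⁻¹) * f) * (s * f * s⁻¹) := by rw [(X.el_comm_el f.2 (X.conj_el hsa e.2)).eq]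
          _ = e * (s * e * s⁻¹) * (f * (s * f * s⁻¹)) := by group) }
  have hker : ∀ e : el Z a, e ∈ d.ker ↔ (e : G) ∈ W := fun e => by
    rw [MonoidHom.mem_ker, hmemW, Subtype.ext_iff]
    show (e : G) * (s * e * s⁻¹) = 1 ↔ _
    constructor
    · intro h
      refine ⟨e.2, ?_⟩
      rw [mul_eq_one_iff_inv_eq, inv_eq_of_mul_eq_one_right (X.el_mul_self e.2)] at h
      exact (mul_inv_eq_iff_eq_mul.1 h.symm).symm
    · rintro ⟨-, h⟩
      rw [← h.eq, mul_inv_cancel_right, X.el_mul_self e.2]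
  have hran : ∀ e : el Z a, (d e : G) ∈ W := fun e => by
    refine (hmemW _).2 ⟨(d e).2, (mul_inv_eq_iff_eq_mul.1 (?_ : s * (d e : G) * s⁻¹ = d e)).symm⟩
    show s * ((e : G) * (s * e * s⁻¹)) * s⁻¹ = e * (s * e * s⁻¹)
    calc s * ((e : G) * (s * e * s⁻¹)) * s⁻¹ = (s * e * s⁻¹) * ((s * s) * e * (s * s)⁻¹) := by group
      _ = (s * e * s⁻¹) * e := by rw [← (hs2 e e.2).eq, mul_inv_cancel_right]
      _ = _ := (hcomm e.2).eq.symm
  obtain ⟨j, hj⟩ := IsPGroup.iff_card.1 (show IsPGroup 2 W from fun e => ⟨1, Subtype.ext (by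
    rw [SubmonoidClass.coe_pow, pow_one, pow_two, X.el_mul_self ((hmemW _).1 e.2).1, OneMemClass.coe_one])⟩)
  have h2j : n ≤ 2 * j := by
    have h1 := Subgroup.card_mul_index d.ker
    rw [Subgroup.index_ker, hq] at h1
    have hk : Nat.card d.ker ≤ 2 ^ j := hj ▸ Nat.card_le_card_of_injective
      (fun e : d.ker => (⟨(e.1 : G), (hker e.1).1 e.2⟩ : W))
      fun e f h => Subtype.ext (Subtype.ext (congrArg Subtype.val h :))
    have hr : Nat.card d.range ≤ 2 ^ j := hj ▸ Nat.card_le_card_of_injective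
      (fun e : d.range => (⟨((e : el Z a) : G), by obtain ⟨x, hx⟩ := e.2; rw [← hx]; exact hran x⟩ : W))
      fun e f h => Subtype.ext (Subtype.ext (congrArg Subtype.val h :))
    have h3 := Nat.mul_le_mul hk hr
    rw [h1, ← pow_add, ← two_mul] at h3
    exact (Nat.pow_le_pow_iff_right (by norm_num)).1 h3
  have hjn : j < n := by
    by_contra hle
    push Not at hle
    refine hs1 fun e he => ((hmemW e).1 ?_).2
    have : W = el Z a := Subgroup.eq_of_le_of_card_ge (hW ▸ inf_le_left)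
      (by rw [hj, hq]; exact Nat.pow_le_pow_right (by norm_num) hle)
    rw [this]
    exact he
  obtain ⟨z, hzW, hz1⟩ : ∃ z ∈ W, z ≠ 1 := by
    by_contra h
    push Not at h
    have h0 : W = ⊥ := (Subgroup.eq_bot_iff_forall W).2 h
    rw [h0, Subgroup.card_bot] at hj
    rcases Nat.eq_zero_or_pos j with rfl | hj0
    · omega
    · have := Nat.one_lt_two_pow hj0.ne'
      omega
  obtain ⟨hzel, hzs⟩ := (hmemW z).1 hzW
  have hzAt : z ∈ zAt Z a := (X.mem_el.1 hzel).resolve_left hz1
  obtain ⟨C, hC⟩ : ∃ C : Subgroup G, C = A ⊓ Subgroup.centralizer ({s} : Set G) := ⟨_, rfl⟩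
  have hmemC : ∀ t, t ∈ C ↔ t ∈ A ∧ Commute t s := fun t => by
    rw [hC, Subgroup.mem_inf, Subgroup.mem_centralizer_singleton_iff]
    exact Iff.rfl
  have hmap : ∀ t : C, (t : G) * z * (t : G)⁻¹ ∈ (W : Set G) \ {1} := fun t => by
    obtain ⟨htA, hts⟩ := (hmemC t).1 t.2
    refine ⟨(hmemW _).2 ⟨X.conj_el (L.fix t htA).1 hzel, (hts.mul_left hzs).mul_left hts.inv_left⟩, fun h => hz1 ?_⟩
    calc z = (t : G)⁻¹ * ((t : G) * z * (t : G)⁻¹) * t := by group
      _ = 1 := by rw [Set.mem_singleton_iff.1 h, mul_one, inv_mul_cancel]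
  have hCc : Nat.card C = ((W : Set G) \ {1}).ncard := by
    rw [← Nat.card_coe_set_eq]
    refine Nat.card_eq_of_bijective (fun t : C => (⟨_, hmap t⟩ : ↥((W : Set G) \ {1}))) ⟨fun t t' h => ?_, fun w => ?_⟩
    · exact Subtype.ext ((L.regular z hzAt _ ((X.mem_el.1 ((hmemW _).1 (hmap t').1).1).resolve_left (hmap t').2)).unique
        ⟨((hmemC t).1 t.2).1, congrArg Subtype.val h⟩ ⟨((hmemC t').1 t'.2).1, rfl⟩)
    · obtain ⟨hwel, hws⟩ := (hmemW _).1 w.2.1
      have hwAt : (w : G) ∈ zAt Z a := (X.mem_el.1 hwel).resolve_left w.2.2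
      obtain ⟨t, ⟨ht, htw⟩, huni⟩ := L.regular z hzAt _ hwAt
      refine ⟨⟨t, (hmemC t).2 ⟨ht, ?_⟩⟩, Subtype.ext htw⟩
      refine (mul_inv_eq_iff_eq_mul.1 (huni (s * t * s⁻¹) ⟨conj_mem_normalizer hnA ht, ?_⟩)).symm
      have e1 : s⁻¹ * z * s = z := by rw [mul_assoc, hzs.eq, inv_mul_cancel_left]
      calc s * t * s⁻¹ * z * (s * t * s⁻¹)⁻¹ = s * (t * (s⁻¹ * z * s) * t⁻¹) * s⁻¹ := by group
        _ = w := by rw [e1, htw, ← hws.eq, mul_inv_cancel_right]
  rw [Set.ncard_diff_singleton_of_mem (one_mem W), ← Nat.card_coe_set_eq] at hCc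
  change Nat.card C = Nat.card W - 1 at hCc
  rw [hj, hC] at hCc
  refine ⟨j, ?_, hCc⟩
  have hdvd : 2 ^ j - 1 ∣ 2 ^ n - 1 := by
    rw [← hq, ← X.card_torus L, ← hCc]
    exact Subgroup.card_dvd_of_le inf_le_left
  have hj0 : 0 < j := by omega
  obtain ⟨c, rfl⟩ := dvd_of_pow_sub_dvd hj0 n hdvd
  have hc2 : c ≤ 2 := Nat.le_of_mul_le_mul_left (by rw [mul_comm j 2]; exact h2j) hj0
  have hc1 : 1 < c := Nat.lt_of_mul_lt_mul_left (a := j) (by rw [mul_one]; exact hjn)
  rw [hq, show c = 2 by omega, mul_comm]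

/-- A 2-subgroup of the pair stabiliser containing `u` is commutative. -/
theorem pgroup_comm (hs : Short Z Ω) (L : LineSetup Z u a b A) (W : LineTwo Z u a A T) {P : Subgroup G}
    (hP : IsPGroup 2 P) (hPD : P ≤ pairStab G a b) (hu : u ∈ P) : ∀ x ∈ P, ∀ y ∈ P, Commute x y := by
  classical
  haveI : Fact (Nat.Prime 2) := ⟨Nat.prime_two⟩
  have hPu : ∀ x ∈ P, Commute x u := fun x hx => X.pgroup_commute hs L W hP hPD hu hx
  have hfix : ∀ x ∈ P, x • a = a ∧ x • b = b := fun x hx => mem_pair.1 (hPD hx)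
  have hnA : ∀ x ∈ P, x ∈ normalizer (A : Set G) := fun x hx =>
    X.norm_torus L (hPu x hx) (hfix x hx).1 (hfix x hx).2
  have hoddA : Odd (Nat.card A) := by
    obtain ⟨n, hn, hq⟩ := X.exists_card_el a
    rw [X.card_torus L, hq]
    exact Nat.Even.sub_odd Nat.one_le_two_pow (Nat.even_pow.2 ⟨even_two, by omega⟩) odd_one
  -- an element centralising the torus is `1` or `u`
  have hker : ∀ x ∈ P, (∀ t ∈ A, Commute t x) → x = 1 ∨ x = u := by
    intro x hx hxA
    obtain ⟨hxa, hxb⟩ := hfix x hx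
    obtain ⟨t, ht, htK⟩ := X.exists_torus_mul L hxa hxb hxA
    obtain ⟨k, hk⟩ := IsPGroup.iff_orderOf.1 hP ⟨x, hx⟩
    have hk' : x ^ 2 ^ k = 1 := by
      rw [← Subgroup.orderOf_coe] at hk
      rw [← hk]
      exact pow_orderOf_eq_one x
    have h1 : (t⁻¹ * x) ^ 2 ^ k = (t ^ 2 ^ k)⁻¹ := by rw [(hxA t ht).inv_left.mul_pow, hk', mul_one, inv_pow]
    have h2 : t ^ 2 ^ k ∈ cPair Z a b := inv_mem_iff.1 (h1 ▸ pow_mem htK _)
    have h3 : t ^ 2 ^ k = 1 := by
      by_contra hne
      obtain ⟨z, hz⟩ := X.hyp.zAt_nonempty a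
      exact X.torus_free L (pow_mem ht _) hne hz ((mem_cPair.1 h2).2.2 z hz).symm
    have ht1 : t = 1 := by
      have h4 : orderOf t ∣ 2 ^ k := orderOf_dvd_of_pow_eq_one h3
      have h5 : orderOf t ∣ Nat.card A := Subgroup.orderOf_mk t ht ▸ orderOf_dvd_natCard (⟨t, ht⟩ : A)
      exact orderOf_eq_one_iff.1
        (Nat.eq_one_of_dvd_coprimes ((Nat.coprime_two_left.2 hoddA).pow_left k) h4 h5)
    rw [ht1, inv_one, one_mul] at htK
    exact X.cPair_pgroup hs L W (hP.to_le inf_le_left : IsPGroup 2 (P ⊓ cPair Z a b : Subgroup G)) inf_le_right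
      (Subgroup.mem_inf.2 ⟨hu, X.invol_mem_cPair L.invol L.fix_a L.fix_b⟩) x (Subgroup.mem_inf.2 ⟨hx, htK⟩)
  -- the action on the torus
  let f : P →* MulAut A :=
    { toFun := fun x =>
        { toFun := fun t => ⟨x * t * (x : G)⁻¹, conj_mem_normalizer (hnA x x.2) t.2⟩
          invFun := fun t => ⟨(x : G)⁻¹ * t * (x : G)⁻¹⁻¹, conj_mem_normalizer (inv_mem (hnA x x.2)) t.2⟩
          left_inv := fun t => Subtype.ext (by
            show (x : G)⁻¹ * ((x : G) * t * (x : G)⁻¹) * (x : G)⁻¹⁻¹ = t; group)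
          right_inv := fun t => Subtype.ext (by
            show (x : G) * ((x : G)⁻¹ * t * (x : G)⁻¹⁻¹) * (x : G)⁻¹ = t; group)
          map_mul' := fun t t' => Subtype.ext (by simp only [Subgroup.coe_mul]; group) }
      map_one' := by ext t; simp
      map_mul' := fun x y => by
        ext t
        show (x : G) * y * t * ((x : G) * y)⁻¹ = (x : G) * ((y : G) * t * (y : G)⁻¹) * (x : G)⁻¹
        group }
  have hfapp : ∀ (x : P) (t : A), ((f x t : A) : G) = x * t * (x : G)⁻¹ := fun _ _ => rfl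
  have hfone : ∀ x : P, f x = 1 → ∀ t ∈ A, Commute t (x : G) := fun x hx t ht => by
    have := congrArg (fun σ : MulAut A => ((σ ⟨t, ht⟩ : A) : G)) hx
    simp only [hfapp, MulAut.one_apply] at this
    exact (mul_inv_eq_iff_eq_mul.1 this).symm
  -- one involution in the image
  have huniq : ∀ σ ρ : f.range, σ ≠ 1 → ρ ≠ 1 → σ * σ = 1 → ρ * ρ = 1 → σ = ρ := by
    rintro ⟨_, x, rfl⟩ ⟨_, y, rfl⟩ hσ1 hρ1 hσ hρ
    by_contra hne
    have key : ∀ x : P, f x ≠ 1 → f x * f x = 1 →
        ∃ j : ℕ, Nat.card (el Z a) = 2 ^ (2 * j) ∧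
          Nat.card ↥(A ⊓ Subgroup.centralizer ({(x : G)} : Set G)) = 2 ^ j - 1 := by
      intro x hx1 hx2
      have hxx : (x : G) * x = 1 ∨ (x : G) * x = u :=
        hker _ (mul_mem x.2 x.2) fun t ht => hfone (x * x) (by rw [map_mul, hx2]) t ht
      refine X.card_torus_fixed L (hfix x x.2).1 (hnA x x.2) (fun e he => ?_) fun hall => ?_
      · rcases hxx with h | h <;> rw [h]
        · exact Commute.one_right e
        · exact X.el_comm (fun z hz => X.cent u L.invol L.notMem a L.fix_a z hz) he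
      · refine hx1 ?_
        have hxK : (x : G) ∈ cPair Z a b := mem_cPair.2 ⟨(hfix x x.2).1, (hfix x x.2).2,
          fun z hz => hall z (X.mem_el.2 (Or.inr hz))⟩
        refine MulEquiv.ext fun t => Subtype.ext ?_
        rw [hfapp, MulAut.one_apply, ← (X.torus_commute hs L t.2 hxK).eq, mul_inv_cancel_right]
    obtain ⟨j, hjq, hjx⟩ := key x (fun h => hσ1 (Subtype.ext h)) (congrArg Subtype.val hσ)
    obtain ⟨j', hjq', hjy⟩ := key y (fun h => hρ1 (Subtype.ext h)) (congrArg Subtype.val hρ)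
    obtain rfl : j' = j := by
      have := Nat.pow_right_injective (le_refl 2) (hjq'.symm.trans hjq)
      omega
    -- the two fixed subgroups coincide
    have hCC : A ⊓ Subgroup.centralizer ({(x : G)} : Set G) = A ⊓ Subgroup.centralizer ({(y : G)} : Set G) := by
      haveI := L.cyclic
      haveI := Fintype.ofFinite A
      have hm0 : 0 < 2 ^ j' - 1 := by rw [← hjx]; exact Nat.card_pos
      have key2 : ∀ C : Subgroup G, C ≤ A → Nat.card C = 2 ^ j' - 1 →
          ∀ t : A, (t : G) ∈ C ↔ t ^ (2 ^ j' - 1) = 1 := by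
        intro C hCA hcard
        have hsub : (Finset.univ.filter fun t : A => (t : G) ∈ C) ⊆
            Finset.univ.filter fun t : A => t ^ (2 ^ j' - 1) = 1 := by
          intro t ht
          simp only [Finset.mem_filter, Finset.mem_univ, true_and] at ht ⊢
          have h1 : (⟨(t : G), ht⟩ : C) ^ Nat.card C = 1 := pow_card_eq_one'
          rw [hcard] at h1
          refine Subtype.ext ?_
          rw [SubmonoidClass.coe_pow]
          exact (SubmonoidClass.coe_pow (⟨(t : G), ht⟩ : C) _).symm.trans (congrArg Subtype.val h1)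
        haveI := Fintype.ofFinite C
        have heq := Finset.eq_of_subset_of_card_le hsub (by
          refine le_trans (IsCyclic.card_pow_eq_one_le hm0) (le_of_eq ?_)
          rw [← hcard, Nat.card_eq_fintype_card, ← Fintype.card_subtype]
          exact Fintype.card_congr ⟨fun c => ⟨⟨c.1, hCA c.2⟩, c.2⟩, fun t => ⟨t.1.1, t.2⟩, fun c => rfl,
            fun t => rfl⟩)
        intro t
        have := Finset.ext_iff.1 heq t
        simpa using this
      ext t
      constructor
      · intro ht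
        exact (key2 _ inf_le_left hjy ⟨t, ht.1⟩).2 ((key2 _ inf_le_left hjx ⟨t, ht.1⟩).1 ht)
      · intro ht
        exact (key2 _ inf_le_left hjx ⟨t, ht.1⟩).2 ((key2 _ inf_le_left hjy ⟨t, ht.1⟩).1 ht)
    have hne' : f x ≠ f y := fun h => hne (Subtype.ext h)
    have hcC : ∀ (w : P) (c : A), f w c = c → (c : G) ∈ A ⊓ Subgroup.centralizer ({(w : G)} : Set G) :=
      fun w c h => ⟨c.2, Subgroup.mem_centralizer_singleton_iff.2
        (mul_inv_eq_iff_eq_mul.1 ((hfapp w c).symm.trans (congrArg Subtype.val h))).symm⟩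
    have hCfix : ∀ (w : P) (c : A), (c : G) ∈ A ⊓ Subgroup.centralizer ({(w : G)} : Set G) → f w c = c :=
      fun w c h => Subtype.ext (by
        rw [hfapp, ← Subgroup.mem_centralizer_singleton_iff.1 h.2, mul_inv_cancel_right])
    have hcommA : ∀ s t : A, s * t = t * s := fun s t => Subtype.ext (L.comm s s.2 t t.2).eq
    have hσσ : ∀ t, f x (f x t) = t := fun t => by
      have := congrArg (fun σ : MulAut A => σ t) (congrArg Subtype.val hσ)
      simpa using this
    have hρρ : ∀ t, f y (f y t) = t := fun t => by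
      have := congrArg (fun σ : MulAut A => σ t) (congrArg Subtype.val hρ)
      simpa using this
    refine hσ1 (Subtype.ext (MulEquiv.ext fun t => ?_))
    -- the fixed parts of `t`
    have hc1 : f x (t * f x t) = t * f x t := by rw [map_mul, hσσ, hcommA]
    have hc2 : f y (t * f y t) = t * f y t := by rw [map_mul, hρρ, hcommA]
    have hC1 := hcC x _ hc1
    have hC2 : ((t * f y t : A) : G) ∈ A ⊓ Subgroup.centralizer ({(x : G)} : Set G) := hCC ▸ hcC y _ hc2
    have hcomp : ∀ w, f (x * y) w = f x (f y w) := fun w => by rw [map_mul]; rfl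
    have hρt : f y t = t⁻¹ * (t * f y t) := by rw [inv_mul_cancel_left]
    have hψ : f (x * y) t = (f x t)⁻¹ * (t * f y t) := by rw [hcomp, hρt, map_mul, map_inv, hCfix x _ hC2, ← hρt]
    have hxy : f y * f x = f x * f y := by
      refine MulEquiv.ext fun w => Subtype.ext ?_
      have h := X.comm_torus L (hnA x x.2) (hnA y y.2) (f (y * x) w).2
      have e1 : ((f (y * x) w : A) : G) = (y : G) * x * w * ((y : G) * x)⁻¹ := rfl
      show ((f y (f x w) : A) : G) = ((f x (f y w) : A) : G)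
      rw [hfapp, hfapp, hfapp, hfapp]
      calc (y : G) * ((x : G) * w * (x : G)⁻¹) * (y : G)⁻¹ = ((f (y * x) w : A) : G) := by rw [e1]; group
        _ = (x : G) * y * (x : G)⁻¹ * (y : G)⁻¹ * ((f (y * x) w : A) : G) *
            ((x : G) * y * (x : G)⁻¹ * (y : G)⁻¹)⁻¹ := by rw [h.eq, mul_inv_cancel_right]
        _ = _ := by rw [e1]; group
    have hψψ : f (x * y) (f (x * y) t) = t := by
      rw [hcomp, hcomp, show f y (f x (f y t)) = f x (f y (f y t)) from congrArg (fun σ : MulAut A => σ (f y t)) hxy,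
        hσσ, hρρ]
    have hψC : ∀ w : A, (w : G) ∈ A ⊓ Subgroup.centralizer ({(x : G)} : Set G) → f (x * y) w = w := fun w hw => by
      rw [hcomp, hCfix y w (hCC ▸ hw), hCfix x w hw]
    have hc3 : f (x * y) (t * f (x * y) t) = t * f (x * y) t := by rw [map_mul, hψψ, hcommA]
    -- the product fixes exactly the same subgroup
    obtain ⟨j₂, hjq2, hjxy⟩ := key (x * y)
      (fun h => hne' (by
        have h1 : f x * f y = 1 := by rw [← map_mul]; exact h
        rw [mul_eq_one_iff_eq_inv] at h1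
        rw [h1]
        exact inv_eq_of_mul_eq_one_right (congrArg Subtype.val hρ)))
      (MulEquiv.ext fun w => by
        rw [MulAut.mul_apply, hcomp, hcomp, MulAut.one_apply,
          show f y (f x (f y w)) = f x (f y (f y w)) from congrArg (fun σ : MulAut A => σ (f y w)) hxy, hσσ, hρρ])
    obtain rfl : j₂ = j' := by
      have := Nat.pow_right_injective (le_refl 2) (hjq2.symm.trans hjq)
      omega
    have hC3 : ((t * f (x * y) t : A) : G) ∈ A ⊓ Subgroup.centralizer ({(x : G)} : Set G) := by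
      have heq : A ⊓ Subgroup.centralizer ({(x : G)} : Set G) =
          A ⊓ Subgroup.centralizer ({((x * y : P) : G)} : Set G) :=
        Subgroup.eq_of_le_of_card_ge (fun w hw => hcC (x * y) ⟨w, hw.1⟩ (hψC ⟨w, hw.1⟩ hw))
          (le_of_eq (by rw [hjxy, hjx]))
      rw [heq]
      exact hcC (x * y) _ hc3
    have ht2 : ((t * t : A) : G) ∈ A ⊓ Subgroup.centralizer ({(x : G)} : Set G) := by
      have e : t * t = t * f (x * y) t * ((t * f y t)⁻¹ * (t * f x t)) := by
        rw [hψ]
        calc t * t = t * ((f x t)⁻¹ * (f x t * t)) := by rw [inv_mul_cancel_left]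
          _ = t * ((f x t)⁻¹ * (t * f x t)) := by rw [hcommA (f x t) t]
          _ = _ := by group
      rw [e]
      exact mul_mem hC3 (mul_mem (inv_mem hC2) hC1)
    have htC : (t : G) ∈ A ⊓ Subgroup.centralizer ({(x : G)} : Set G) := by
      obtain ⟨m, hm⟩ := hoddA
      have h1 : (t * t) ^ (m + 1) = t := by
        rw [← pow_two, ← pow_mul, show 2 * (m + 1) = 2 * m + 1 + 1 by ring, pow_succ, ← hm, pow_card_eq_one', one_mul]
      rw [← h1, SubmonoidClass.coe_pow]
      exact pow_mem ht2 _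
    exact hCfix x t htC
  have hcommF : ∀ σ ρ : f.range, Commute σ ρ := by
    rintro ⟨_, x, rfl⟩ ⟨_, y, rfl⟩
    refine Subtype.ext (MulEquiv.ext fun w => Subtype.ext ?_)
    have h := X.comm_torus L (hnA x x.2) (hnA y y.2) (f (y * x) w).2
    have e1 : ((f (y * x) w : A) : G) = (y : G) * x * w * ((y : G) * x)⁻¹ := rfl
    show ((f x (f y w) : A) : G) = ((f y (f x w) : A) : G)
    rw [hfapp, hfapp, hfapp, hfapp]
    symm
    calc (y : G) * ((x : G) * w * (x : G)⁻¹) * (y : G)⁻¹ = ((f (y * x) w : A) : G) := by rw [e1]; group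
      _ = (x : G) * y * (x : G)⁻¹ * (y : G)⁻¹ * ((f (y * x) w : A) : G) *
          ((x : G) * y * (x : G)⁻¹ * (y : G)⁻¹)⁻¹ := by rw [h.eq, mul_inv_cancel_right]
      _ = _ := by rw [e1]; group
  haveI : IsCyclic f.range := Grp.isCyclic_of_one_invol (hP.of_surjective f.rangeRestrict f.rangeRestrict_surjective)
    hcommF huniq
  intro x hx y hy
  have := commutative_of_cyclic_center_quotient f.rangeRestrict (fun w hw => Subgroup.mem_center_iff.2 fun v => by
    rw [MonoidHom.ker_rangeRestrict] at hw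
    rcases hker w w.2 (hfone w (MonoidHom.mem_ker.1 hw)) with h | h
    · rw [show w = 1 from Subtype.ext h, mul_one, one_mul]
    · exact Subtype.ext (show (v : G) * w = (w : G) * v by rw [h]; exact (hPu v v.2).eq)) ⟨x, hx⟩ ⟨y, hy⟩
  exact congrArg Subtype.val this

end Setting

end Cfsg.Agent.Invol.Aschbacher.Last
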