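import Cfsg.Agent.Lib.Invol.Aschbacher.Frames
import Cfsg.Agent.Lib.Invol.Aschbacher.Refine
import Cfsg.Agent.Lib.Invol.Aschbacher.Conj

/-!
# The last configuration of Aschbacher's criterion

A minimal counterexample in which every involution outside `Z` centralises all members at each of its fixed points.
The members at a point with the identity form an elementary group `el a`; `cHull a` is its centraliser in the point
stabiliser and `cPair a b` in the pair stabiliser.
-/

set_option autoImplicit false
set_option linter.unusedSectionVars false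

namespace Cfsg.Agent.Invol.Aschbacher.Last

open MulAction Subgroup
open Cfsg.Agent.Invol.Bender (pairStab mem_pair conj_smul_smul)

universe u

variable {G : Type u} [Group G] [Finite G] {Ω : Type u} [MulAction G Ω] {Z : Set G}

/-- A counterexample in which every involution outside `Z` centralises the members at its fixed points. -/
structure Setting (G : Type u) (Ω : Type u) [Group G] [Finite G] [MulAction G Ω] (Z : Set G) : Prop where
  hyp : Hyp G Ω Z
  faithful : FaithfulSMul G Ω
  closed : ClosedBelow Ω Z
  gen : Subgroup.closure Z = ⊤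
  comm : CommAt Z Ω
  four : FourAt Z Ω
  two_trans : ∀ a b a' b' : Ω, a ≠ b → a' ≠ b' → ∃ g : G, g • a = a' ∧ g • b = b'
  cent : ∀ u : G, orderOf u = 2 → u ∉ Z → ∀ a : Ω, u • a = a → ∀ z ∈ zAt Z a, Commute z u
  exists_out : ∃ u : G, orderOf u = 2 ∧ u ∉ Z

/-- The members at a point and the identity. -/
def el (Z : Set G) (a : Ω) : Subgroup G := Subgroup.closure (zAt Z a)

/-- The elements fixing a point and centralising the members there. -/
def cHull (Z : Set G) (a : Ω) : Subgroup G := stabilizer G a ⊓ Subgroup.centralizer (zAt Z a)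

/-- The elements fixing two points and centralising the members at the first. -/
def cPair (Z : Set G) (a b : Ω) : Subgroup G := pairStab G a b ⊓ Subgroup.centralizer (zAt Z a)

omit [Finite G] in
theorem mem_cHull {a : Ω} {g : G} : g ∈ cHull Z a ↔ g • a = a ∧ ∀ z ∈ zAt Z a, Commute z g := by
  rw [cHull, Subgroup.mem_inf, mem_stabilizer_iff, Subgroup.mem_centralizer_iff]
  exact and_congr_right fun _ => Iff.rfl

omit [Finite G] in
theorem mem_cPair {a b : Ω} {g : G} :
    g ∈ cPair Z a b ↔ g • a = a ∧ g • b = b ∧ ∀ z ∈ zAt Z a, Commute z g := by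
  rw [cPair, Subgroup.mem_inf, mem_pair, Subgroup.mem_centralizer_iff, and_assoc]
  exact and_congr_right fun _ => and_congr_right fun _ => Iff.rfl

namespace Setting

variable (X : Setting G Ω Z)
include X

theorem subFrames : SubFrames Z Ω := X.hyp.subFrames X.closed

theorem realFree : RealFree Z Ω :=
  haveI := X.faithful
  X.hyp.realFree X.subFrames X.four

theorem conjPair : ConjPair Z Ω := X.hyp.conjPair X.realFree

theorem mem_el {a : Ω} {g : G} : g ∈ el Z a ↔ g = 1 ∨ g ∈ zAt Z a := by
  refine ⟨fun h => ?_, fun h => ?_⟩
  · obtain ⟨E, hE, -⟩ := X.hyp.exists_elementary X.comm a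
    exact (hE g).1 ((Subgroup.closure_le E).2 (fun x hx => (hE x).2 (Or.inr hx)) h)
  · rcases h with rfl | h
    · exact one_mem _
    · exact Subgroup.subset_closure h

theorem invol_mem_cHull {a : Ω} {r : G} (hr : orderOf r = 2) (hra : r • a = a) : r ∈ cHull Z a := by
  refine mem_cHull.2 ⟨hra, fun z hz => ?_⟩
  by_cases hrZ : r ∈ Z
  · exact X.comm a z hz r ⟨hrZ, hra⟩
  · exact X.cent r hr hrZ a hra z hz

end Setting

end Cfsg.Agent.Invol.Aschbacher.Last
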