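import Cfsg.Agent.Lib.Invol.Aschbacher.Last.SzFused
import Cfsg.Agent.Lib.Invol.Aschbacher.Last.LineBase
import Mathlib.Combinatorics.Enumerative.DoubleCounting

/-!
# No involution outside the centraliser in the Sylow subgroup, case of order `q ^ 2`

The involutions of the Sylow subgroup and the points they fix are counted against each other.  If the involutions of
the pair subgroup commute, every other point is fixed, the pair centraliser has order two and the two part is abelian;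
otherwise the normaliser of the two part moves the second point everywhere, and the count has the wrong parity.
-/

set_option autoImplicit false
set_option linter.unusedSectionVars false
set_option linter.style.haveILetI false

namespace Cfsg.Agent.Invol.Aschbacher.Last

open MulAction Subgroup
open scoped Pointwise
open Cfsg.Agent.Invol.Bender (pairStab mem_pair conj_smul_smul)

universe u

variable {G : Type u} [Group G] [Finite G] {Ω : Type u} [MulAction G Ω] {Z : Set G}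

omit [Finite G] in
/-- A subgroup acting freely on a set has an order dividing its size. -/
theorem dvd_ncard_of_free {H : Subgroup G} {S : Set Ω} (hinv : ∀ h ∈ H, ∀ x ∈ S, h • x ∈ S)
    (hfree : ∀ h ∈ H, ∀ x ∈ S, h • x = x → h = 1) : Nat.card H ∣ S.ncard := by
  letI : MulAction H S :=
    { smul := fun h x => ⟨(h : G) • (x : Ω), hinv h h.2 x x.2⟩
      one_smul := fun x => Subtype.ext (one_smul G (x : Ω))
      mul_smul := fun g h x => Subtype.ext (mul_smul (g : G) (h : G) (x : Ω)) }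
  have hs : ∀ x : S, stabilizer H x = ⊥ := fun x => (Subgroup.eq_bot_iff_forall _).2 fun h hh =>
    Subtype.ext (hfree h h.2 x x.2 (congrArg Subtype.val (mem_stabilizer_iff.1 hh)))
  rw [← Nat.card_coe_set_eq, Nat.card_congr (selfEquivOrbitsQuotientProd hs), Nat.card_prod]
  exact Dvd.intro_left _ rfl

omit [Finite G] in
/-- The orbit of a subgroup times a stabiliser. -/
theorem ncard_orbit_mul {H K : Subgroup G} {c : Ω} (h : ∀ g : G, g ∈ K ↔ g ∈ H ∧ g • c = c) :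
    (orbit H c).ncard * Nat.card K = Nat.card H := by
  rw [← index_stabilizer, ← (stabilizer H c).index_mul_card]
  congr 1
  exact Nat.card_congr
    { toFun := fun k => ⟨⟨k, ((h k).1 k.2).1⟩, ((h k).1 k.2).2⟩
      invFun := fun k => ⟨(k : H), (h _).2 ⟨k.1.2, k.2⟩⟩
      left_inv := fun _ => rfl
      right_inv := fun _ => rfl }

/-- A divisor of `q ^ 2 - q + 1` congruent to one modulo `q - 1` is trivial or everything. -/
theorem eq_of_dvd_of_mod {q m : ℕ} (hq : 4 ≤ q) (hd : m ∣ q ^ 2 - q + 1) (hm : m % (q - 1) = 1) (h1 : 1 < m) :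
    m = q ^ 2 - q + 1 := by
  obtain ⟨k, hk⟩ := hd
  obtain ⟨r, rfl⟩ : ∃ r, q = r + 1 := ⟨q - 1, by omega⟩
  rw [Nat.add_sub_cancel] at hm
  rw [show (r + 1) ^ 2 - (r + 1) + 1 = r * (r + 1) + 1 by
    have : (r + 1) ^ 2 = r * (r + 1) + (r + 1) := by ring
    omega] at hk ⊢
  have hk1 : k % r = 1 := by
    have h2 : (m * k) % r = 1 := by
      rw [← hk, Nat.mul_add_mod, Nat.mod_eq_of_lt (by omega)]
    rwa [Nat.mul_mod, hm, one_mul, Nat.mod_mod] at h2
  have hmr : r + 1 ≤ m := by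
    have := Nat.div_add_mod m r
    rcases Nat.eq_zero_or_pos (m / r) with h | h
    · rw [h, mul_zero] at this; omega
    · nlinarith
  by_contra hne
  have hk' : k ≠ 1 := fun h => hne (by rw [hk, h, mul_one])
  have hkr : r + 1 ≤ k := by
    have := Nat.div_add_mod k r
    rcases Nat.eq_zero_or_pos (k / r) with h | h
    · rw [h, mul_zero] at this; omega
    · nlinarith
  nlinarith

theorem mod_of_dvd_sub {q m : ℕ} (hq : 4 ≤ q) (hm : 0 < m) (h : (q - 1) ∣ q ^ 3 * m - 1) : m % (q - 1) = 1 := by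
  have h1 : 1 ≡ q ^ 3 * m [MOD q - 1] := (Nat.modEq_iff_dvd' (Nat.one_le_iff_ne_zero.2 (by positivity))).2 h
  have h2 : q ≡ 1 [MOD q - 1] := ((Nat.modEq_iff_dvd' (by omega)).2 dvd_rfl).symm
  have h3 : q ^ 3 * m ≡ m [MOD q - 1] := by simpa using (h2.pow 3).mul_right m
  have h4 := (h1.trans h3).symm
  rw [Nat.ModEq, Nat.mod_eq_of_lt (by omega : 1 < q - 1)] at h4
  exact h4

/-- The involutions outside the members of the Sylow subgroup. -/
def tInv (Z : Set G) (a : Ω) (u : G) : Set G := {g | g ∈ modEl Z a u ∧ orderOf g = 2 ∧ g ∉ el Z a}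

/-- The points fixed by these. -/
def tFix (Z : Set G) (a : Ω) (u : G) : Set Ω := {c | c ≠ a ∧ ∃ g ∈ tInv Z a u, g • c = c}

namespace Setting

variable (X : Setting G Ω Z)
include X

theorem modEl_conj_eq {h y : G} {a : Ω} (ha : h • a = a) :
    modEl Z a (h * y * h⁻¹) = MulAut.conj h • modEl Z a y := by
  ext g
  rw [Subgroup.mem_pointwise_smul_iff_inv_smul_mem, ← map_inv, MulAut.smul_def, MulAut.conj_apply, inv_inv]
  refine ⟨fun hg => ?_, fun hg => ?_⟩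
  · have h1 := X.conj_modEl (inv_smul_eq_iff.2 ha.symm) hg
    rwa [show h⁻¹ * (h * y * h⁻¹) * h⁻¹⁻¹ = y by group, inv_inv] at h1
  · have h1 := X.conj_modEl ha hg
    rwa [show h * (h⁻¹ * g * h) * h⁻¹ = g by group] at h1

theorem conj_cPair {g x : G} {a c : Ω} (hga : g • a = a) (hx : x ∈ cPair Z a c) :
    g * x * g⁻¹ ∈ cPair Z a (g • c) := by
  obtain ⟨h1, h2⟩ := mem_cHull.1 (X.sz_conj_cHull hga (Last.cPair_le_cHull _ _ hx))
  exact mem_cPair.2 ⟨h1, by rw [conj_smul_smul, (mem_cPair.1 hx).2.1], h2⟩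

end Setting

namespace SzPair

variable {u : G} {a b : Ω} {Q J : Subgroup G} (X : SzPair Z u a b Q J)
include X

theorem even_q : Even (Nat.card (el Z a)) := by
  obtain ⟨n, hn, e⟩ := X.el_two_pow
  rw [e]
  exact Nat.even_pow.2 ⟨even_two, by omega⟩

theorem card_cen' : Nat.card (cenAt Z a u) = Nat.card (el Z a) ^ 2 * Nat.card (pCen Z a b u) := by
  haveI : Fact (Nat.Prime 2) := ⟨Nat.prime_two⟩
  rw [X.card_cen, X.pCen_isSylowIn.card]

theorem two_dvd_pCen : 2 ∣ Nat.card (pCen Z a b u) :=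
  X.invol ▸ (Subgroup.orderOf_coe (⟨u, X.u_mem_pCen⟩ : pCen Z a b u)).symm ▸ orderOf_dvd_natCard _

theorem ncard_others {g : G} (hg : orderOf g = 2) (hgZ : g ∉ Z) (hga : g • a = a) :
    {c | c ≠ a ∧ g • c = c}.ncard = Nat.card (el Z a) ^ 2 := by
  rw [← X.pow g hg hgZ a hga]
  exact congrArg Set.ncard (Set.ext fun c => ⟨fun h => ⟨h.2, h.1⟩, fun h => ⟨h.2, h.1⟩⟩)

theorem exists_pair_conj {c : Ω} (hc : c ≠ a) : ∃ g : G, g • a = a ∧ g • b = c :=
  X.set.two_trans a b a c X.ne hc.symm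

theorem ncard_points : {c : Ω | c ≠ a}.ncard =
    Nat.card (el Z a) ^ 3 * (Nat.card (el Z a) ^ 2 - Nat.card (el Z a) + 1) := by
  classical
  haveI := X.set.hyp.finite_points
  rw [← X.card_points, show {c : Ω | c ≠ a} = Set.univ \ {a} by ext; simp,
    Set.ncard_diff (Set.subset_univ _), Set.ncard_univ, Set.ncard_singleton]

theorem j_mod {S : Set Ω} (hinv : ∀ k ∈ J, ∀ x ∈ S, k • x ∈ S) (hb : b ∈ S) (ha : a ∉ S) :
    (Nat.card (el Z a) - 1) ∣ S.ncard - 1 := by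
  haveI := X.set.hyp.finite_points
  rw [← Set.ncard_diff_singleton_of_mem hb, ← X.j_card]
  refine dvd_ncard_of_free (fun k hk x hx => ⟨hinv k hk x hx.1, fun h => hx.2 ?_⟩) fun k hk x hx h => ?_
  · exact smul_left_cancel k (h.trans (X.j_fixB hk).symm)
  · by_contra hk1
    rcases X.data.j_fix k hk hk1 x h with rfl | rfl
    exacts [ha hx.1, hx.2 rfl]

variable {y : G} (hy : y ∈ modEl Z a u) (hy2 : y * y = 1) (hyC : y ∉ cenAt Z a u)

include hy hyC in
theorem card_modEl' : Nat.card (modEl Z a u) = Nat.card (el Z a) ^ 3 * Nat.card (pCen Z a b u) := by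
  rw [X.card_modEl (X.modEl_cases.resolve_left fun h => hyC (h ▸ hy)), X.card_cen']
  ring

include hy hy2 hyC in
/-- An involution of the Sylow subgroup at one of its fixed points. -/
theorem tInv_pair {x : G} (hx : x ∈ tInv Z a u) {c : Ω} (hc : c ≠ a) (hxc : x • c = c) :
    ∃ Q' J' : Subgroup G, SzPair Z x a c Q' J' ∧ modEl Z a x = modEl Z a u ∧
      (∀ g, g ∈ pCen Z a c x ↔ g ∈ modEl Z a u ∧ g • c = c) ∧ (∀ g ∈ pCen Z a c x, g * g = 1) ∧
      Nat.card (pCen Z a c x) = Nat.card (pCen Z a b u) := by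
  haveI : Fact (Nat.Prime 2) := ⟨Nat.prime_two⟩
  obtain ⟨hxT, hx2, hxe⟩ := hx
  have hxa := (mem_cHull.1 hxT.1).1
  obtain ⟨Q', J', X'⟩ := X.set.exists_szPair X.pow hx2 (fun h => hxe (X.set.mem_el.2 (Or.inr ⟨h, hxa⟩))) hc.symm
    hxa hxc
  have hle : modEl Z a u ≤ modEl Z a x := fun g hg => X.mem_modEl_self hy hy2 hyC hg hxT
  have hT := X.modEl_maximal X'.modEl_pGroup (fun g hg => hg.1) hle
  refine ⟨Q', J', X', hT, fun g => ⟨fun hg => ?_, fun hg => ?_⟩, ?_, ?_⟩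
  · exact ⟨hT.le (cenAt_le_modEl a x (X'.pCen_le_cen hg)), (mem_cPair.1 (mem_pCen.1 hg).1).2.1⟩
  · obtain ⟨h1, h2⟩ := mem_cHull.1 hg.1.1
    exact X'.le_pCen (Y := modEl Z a u ⊓ cPair Z a c) (X.modEl_pGroup.to_le inf_le_left) inf_le_right
      ⟨hxT, X'.u_mem⟩ ⟨hg.1, mem_cPair.2 ⟨h1, hg.2, h2⟩⟩
  · by_cases hxC : x ∈ cenAt Z a u
    · have hyx : y ∉ cenAt Z a x := by rwa [X.cen_eq_of_invol hxC hx2 hxe]
      exact fun g hg => X'.pCen_sq (hT.ge hy) hyx hg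
    · have hux : u ∉ cenAt Z a x := fun h => hxC (mem_cenAt.2 ⟨hxT.1, (mem_cenAt.1 h).2.symm⟩)
      exact fun g hg => X'.pCen_sq (hT.ge (cenAt_le_modEl a u X.u_mem_cen)) hux hg
  · rw [X'.pCen_isSylowIn.card, X.pCen_isSylowIn.card, X.set.card_cPair_eq hc.symm X.ne]

include hy hy2 hyC in
theorem count_fix : (tFix Z a u).ncard * (Nat.card (pCen Z a b u) - 1) =
    Nat.card (el Z a) ^ 2 * (tInv Z a u).ncard := by
  classical
  haveI := X.set.hyp.finite_points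
  haveI := Fintype.ofFinite Ω
  haveI := Fintype.ofFinite G
  have hI : ∀ g ∈ tInv Z a u,
      (Finset.univ.filter fun c : Ω => c ≠ a ∧ g • c = c).card = Nat.card (el Z a) ^ 2 := fun g hg => by
    have hga := (mem_cHull.1 hg.1.1).1
    rw [← Set.ncard_coe_finset, Finset.coe_filter_univ]
    exact X.ncard_others hg.2.1 (fun h => hg.2.2 (X.set.mem_el.2 (Or.inr ⟨h, hga⟩))) hga
  have hF : ∀ c ∈ tFix Z a u,
      (Finset.univ.filter fun g : G => g ∈ tInv Z a u ∧ g • c = c).card = Nat.card (pCen Z a b u) - 1 := by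
    intro c hc
    obtain ⟨hca, x, hx, hxc⟩ := hc
    obtain ⟨Q', J', X', -, hmem, hsq, hcard⟩ := X.tInv_pair hy hy2 hyC hx hca hxc
    rw [← hcard, ← Set.ncard_coe_finset, Finset.coe_filter_univ,
      show Nat.card (pCen Z a c x) - 1 = ((pCen Z a c x : Set G) \ {1}).ncard by
        rw [Set.ncard_diff_singleton_of_mem (one_mem _)]; rfl]
    congr 1
    ext g
    refine ⟨fun hg => ⟨(hmem g).2 ⟨hg.1.1, hg.2⟩, fun h => (orderOf_two_iff.1 hg.1.2.1).2 h⟩, fun hg => ?_⟩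
    exact ⟨⟨((hmem g).1 hg.1).1, orderOf_two_iff.2 ⟨hsq g hg.1, hg.2⟩,
      X'.pair_notMem_el (mem_pCen.1 hg.1).1 hg.2⟩, ((hmem g).1 hg.1).2⟩
  have key := Finset.sum_card_bipartiteAbove_eq_sum_card_bipartiteBelow (fun (g : G) (c : Ω) => g • c = c)
    (s := (tInv Z a u).toFinset) (t := (tFix Z a u).toFinset)
  rw [Finset.sum_const_nat (m := Nat.card (el Z a) ^ 2) fun g hg => ?_] at key
  swap
  · refine Eq.trans ?_ (hI g (Set.mem_toFinset.1 hg))
    congr 1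
    ext c
    simp only [Finset.mem_bipartiteAbove, Set.mem_toFinset, Finset.mem_filter, Finset.mem_univ, true_and]
    exact ⟨fun h => ⟨h.1.1, h.2⟩, fun h => ⟨⟨h.1, g, Set.mem_toFinset.1 hg, h.2⟩, h.2⟩⟩
  have hsum : ∑ c ∈ (tFix Z a u).toFinset, (Finset.bipartiteBelow (fun (g : G) (c : Ω) => g • c = c)
      (tInv Z a u).toFinset c).card = (tFix Z a u).toFinset.card * (Nat.card (pCen Z a b u) - 1) := by
    refine Finset.sum_const_nat fun c hc => Eq.trans ?_ (hF c (Set.mem_toFinset.1 hc))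
    congr 1
    ext g
    simp [Finset.mem_bipartiteBelow]
  rw [hsum, ← Set.ncard_eq_toFinset_card', ← Set.ncard_eq_toFinset_card'] at key
  exact key.symm.trans (mul_comm _ _)

include hy hy2 hyC in
theorem b_mem_tFix : b ∈ tFix Z a u :=
  ⟨X.ne.symm, u, ⟨cenAt_le_modEl a u X.u_mem_cen, X.invol, X.pair_notMem_el X.u_mem (orderOf_two_iff.1 X.invol).2⟩,
    X.fixB⟩

include hy hy2 hyC in
theorem ncard_tFix : ∃ m : ℕ, Odd m ∧ (tFix Z a u).ncard = Nat.card (el Z a) ^ 3 * m := by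
  classical
  haveI : Fact (Nat.Prime 2) := ⟨Nat.prime_two⟩
  haveI := X.set.hyp.finite_points
  have hd : Nat.card (modEl Z a u) ∣ ({c : Ω | c ≠ a} \ tFix Z a u).ncard := by
    refine dvd_ncard_of_free (fun h hh c hc => ?_) fun h hh c hc hhc => ?_
    · have hha := (mem_cHull.1 hh.1).1
      refine ⟨fun e => hc.1 (smul_left_cancel h (e.trans hha.symm)), ?_⟩
      rintro ⟨-, g, hg, hgc⟩
      refine hc.2 ⟨hc.1, h⁻¹ * g * h⁻¹⁻¹, ⟨mul_mem (mul_mem (inv_mem hh) hg.1) (inv_mem (inv_mem hh)), ?_, ?_⟩, ?_⟩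
      · rw [orderOf_conj_eq]; exact hg.2.1
      · intro he
        have h1 := X.set.el_conj hha he
        rw [show h * (h⁻¹ * g * h⁻¹⁻¹) * h⁻¹ = g by group] at h1
        exact hg.2.2 h1
      · rw [mul_smul, mul_smul, inv_inv, hgc, inv_smul_smul]
    · by_contra hne
      obtain ⟨i, hi⟩ := (X.modEl_pGroup ⟨h, hh⟩)
      have hex : ∃ i : ℕ, h ^ 2 ^ i = 1 := ⟨i, congrArg Subtype.val hi⟩
      obtain ⟨j, hj⟩ := Nat.exists_eq_succ_of_ne_zero (show Nat.find hex ≠ 0 from fun h0 => hne (by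
        have := Nat.find_spec hex
        rwa [h0, pow_zero, pow_one] at this))
      have hj1 : h ^ 2 ^ j ≠ 1 := Nat.find_min hex (by omega)
      have hj2 : h ^ 2 ^ j * h ^ 2 ^ j = 1 := by
        have := Nat.find_spec hex
        rw [hj, pow_succ, pow_mul, pow_two] at this
        exact this
      have hfix : h ^ 2 ^ j • c = c :=
        mem_stabilizer_iff.1 (pow_mem (mem_stabilizer_iff.2 hhc : h ∈ stabilizer G c) _)
      refine hc.2 ⟨hc.1, _, ⟨pow_mem hh _, orderOf_two_iff.2 ⟨hj2, hj1⟩, fun he => hj1 ?_⟩, hfix⟩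
      exact X.set.el_semiregular hc.1 he hfix
  obtain ⟨t, ht⟩ := hd
  have hsub : tFix Z a u ⊆ {c : Ω | c ≠ a} := fun c hc => hc.1
  have h0 := Set.ncard_diff hsub
  have hle := Set.ncard_le_ncard hsub
  rw [ht, X.card_modEl' hy hyC, X.ncard_points] at h0
  rw [X.ncard_points] at hle
  obtain ⟨s, hs⟩ := X.two_dvd_pCen
  rw [hs] at h0
  refine ⟨Nat.card (el Z a) ^ 2 - Nat.card (el Z a) + 1 - 2 * (s * t), ?_, ?_⟩
  · have h2 : Even (Nat.card (el Z a) ^ 2 - Nat.card (el Z a)) :=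
      (Nat.even_sub (Nat.le_self_pow two_ne_zero _)).2 (by simp [Nat.even_pow, X.even_q])
    obtain ⟨r, hr⟩ := h2
    rw [Nat.odd_iff]
    have h4 := X.four_le
    have h5 : Nat.card (el Z a) ^ 3 * (2 * (s * t)) ≤
        Nat.card (el Z a) ^ 3 * (Nat.card (el Z a) ^ 2 - Nat.card (el Z a) + 1) := by
      rw [show Nat.card (el Z a) ^ 3 * (2 * (s * t)) = Nat.card (el Z a) ^ 3 * (2 * s) * t by ring, h0]
      exact Nat.sub_le _ _
    have h6 := Nat.le_of_mul_le_mul_left h5 (by positivity)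
    omega
  · rw [Nat.mul_sub]
    have : Nat.card (el Z a) ^ 3 * (2 * (s * t)) = Nat.card (el Z a) ^ 3 * (2 * s) * t := by ring
    omega

include hy hy2 hyC in
theorem tFix_j {k : G} (hk : k ∈ J) {c : Ω} (hc : c ∈ tFix Z a u) : k • c ∈ tFix Z a u := by
  obtain ⟨hca, g, hg, hgc⟩ := hc
  refine ⟨fun e => hca (smul_left_cancel k (e.trans (X.j_fixA hk).symm)), k * g * k⁻¹,
    ⟨X.j_conj_modEl hk hg.1, by rw [orderOf_conj_eq]; exact hg.2.1, fun he => hg.2.2 ?_⟩,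
    by rw [conj_smul_smul, hgc]⟩
  have h1 := X.set.el_conj (inv_smul_eq_iff.2 (X.j_fixA hk).symm) he
  rwa [show k⁻¹ * (k * g * k⁻¹) * k⁻¹⁻¹ = g by group] at h1

include hy hy2 hyC in
theorem ncard_invC : {g | g ∈ tInv Z a u ∧ g ∈ cenAt Z a u}.ncard =
    Nat.card (el Z a) * (Nat.card (pCen Z a b u) - 1) := by
  classical
  have hset : {g | g ∈ tInv Z a u ∧ g ∈ cenAt Z a u} =
      (fun q : G × G => q.1 * q.2) '' ((el Z a : Set G) ×ˢ ((pCen Z a b u : Set G) \ {1})) := by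
    ext g
    constructor
    · rintro ⟨⟨-, hg2, hge⟩, hgC⟩
      obtain ⟨e, he, p, hp, -, rfl⟩ := X.invol_cen hgC (mul_self_of_orderOf_two hg2)
      exact ⟨(e, p), ⟨he, hp, fun h => hge (by rw [show p = 1 from h, mul_one]; exact he)⟩, rfl⟩
    · rintro ⟨⟨e, p⟩, ⟨he, hp, hp1⟩, rfl⟩
      have heC : e * p ∈ cenAt Z a u := mul_mem (X.el_le_cen he) (X.pCen_le_cen hp)
      have hee : e * p ∉ el Z a := fun h => X.pair_notMem_el (mem_pCen.1 hp).1 hp1 (by
        simpa using mul_mem (inv_mem he) h)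
      refine ⟨⟨cenAt_le_modEl a u heC, orderOf_two_iff.2 ⟨?_, fun h => hee (by
        rw [show e * p = 1 from h]; exact one_mem _)⟩,
        hee⟩, heC⟩
      rw [(el_commute (cPair_le_cHull _ _ (mem_pCen.1 hp).1) he).symm.mul_mul_mul_comm, X.el_mul_self he,
        X.pCen_sq hy hyC hp, one_mul]
  rw [hset, Set.InjOn.ncard_image, Set.ncard_prod, Set.ncard_diff_singleton_of_mem (one_mem _)]
  · rfl
  · rintro ⟨e, p⟩ ⟨he, hp, -⟩ ⟨e', p'⟩ ⟨he', hp', -⟩ h
    obtain ⟨h1, h2⟩ := X.prod_inj (X.data.el_le he) (X.data.el_le he') (mem_pCen.1 hp).1 (mem_pCen.1 hp').1 h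
    exact Prod.ext h1 h2

include hy hy2 hyC in
theorem sq_mem_el_of_y {x : G} (hx : x ∈ Q) : y * x * (y * x) = y * x * y⁻¹ * x⁻¹ * (x * x) := by
  rw [inv_eq_of_mul_eq_one_right hy2]; group

include hy hy2 hyC in
/-- The case where the involutions of the pair subgroup commute with `u`. -/
theorem false_of_comm (hcom : ∀ x ∈ cPair Z a b, x * x = 1 → Commute x u) : False := by
  classical
  haveI : Fact (Nat.Prime 2) := ⟨Nat.prime_two⟩
  haveI := X.set.hyp.finite_points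
  have hu1 := (orderOf_two_iff.1 X.invol).2
  -- the involutions of a pair subgroup give one Sylow subgroup
  have hex : ∀ c : {c : Ω // c ≠ a}, ∃ x ∈ cPair Z a (c : Ω), orderOf x = 2 := fun c => by
    obtain ⟨g, hga, hgb⟩ := X.exists_pair_conj c.2
    exact ⟨g * u * g⁻¹, hgb ▸ X.set.conj_cPair hga X.u_mem, by rw [orderOf_conj_eq]; exact X.invol⟩
  choose w hw hw2 using hex
  have hone : ∀ (c : {c : Ω // c ≠ a}) (x : G), x ∈ cPair Z a (c : Ω) → orderOf x = 2 →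
      modEl Z a x = modEl Z a (w c) := by
    intro c x hx hx2
    obtain ⟨g, hga, hgb⟩ := X.exists_pair_conj c.2
    have hback : ∀ z ∈ cPair Z a (c : Ω), z * z = 1 →
        g⁻¹ * z * g⁻¹⁻¹ ∈ pCen Z a b u ∧ g⁻¹ * z * g⁻¹⁻¹ * (g⁻¹ * z * g⁻¹⁻¹) = 1 := fun z hz hzz => by
      have h1 := X.set.conj_cPair (inv_smul_eq_iff.2 hga.symm) hz
      rw [inv_smul_eq_iff.2 hgb.symm] at h1
      have h2 : g⁻¹ * z * g⁻¹⁻¹ * (g⁻¹ * z * g⁻¹⁻¹) = 1 := by
        rw [show g⁻¹ * z * g⁻¹⁻¹ * (g⁻¹ * z * g⁻¹⁻¹) = g⁻¹ * (z * z) * g⁻¹⁻¹ by group, hzz]; group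
      exact ⟨mem_pCen.2 ⟨h1, hcom _ h1 h2⟩, h2⟩
    obtain ⟨hx', hxx'⟩ := hback x hx (mul_self_of_orderOf_two hx2)
    obtain ⟨hw', -⟩ := hback _ (hw c) (mul_self_of_orderOf_two (hw2 c))
    have hcc := (X.invol_central X.pCen_pGroup inf_le_left hx' hxx' hw').map (MulAut.conj g).toMonoidHom
    simp only [MulEquiv.coe_toMonoidHom, MulAut.conj_apply] at hcc
    rw [show g * (g⁻¹ * x * g⁻¹⁻¹) * g⁻¹ = x by group, show g * (g⁻¹ * w c * g⁻¹⁻¹) * g⁻¹ = w c by group] at hcc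
    obtain ⟨Q', J', X'⟩ := X.set.exists_szPair X.pow (hw2 c) (fun h => (c.2 : (c : Ω) ≠ a) (X.set.hyp.fix_unique h
      (mem_cPair.1 (hw c)).2.1 (mem_cPair.1 (hw c)).1)) c.2.symm (mem_cPair.1 (hw c)).1 (mem_cPair.1 (hw c)).2.1
    exact X'.modEl_eq (mem_pCen.2 ⟨hx, hcc⟩) hx2
  let f : {c : Ω // c ≠ a} → Subgroup G := fun c => modEl Z a (w c)
  have hfix : ∀ c : {c : Ω // c ≠ a}, f c = modEl Z a u ↔ (c : Ω) ∈ tFix Z a u := by
    intro c
    constructor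
    · intro h
      have h1 := mem_cPair.1 (hw c)
      refine ⟨c.2, w c, ⟨h ▸ cenAt_le_modEl a (w c) (mem_cenAt.2 ⟨cPair_le_cHull _ _ (hw c), Commute.refl _⟩),
        hw2 c, fun he => (orderOf_two_iff.1 (hw2 c)).2 (X.set.el_semiregular c.2 he h1.2.1)⟩, h1.2.1⟩
    · rintro ⟨-, x, hx, hxc⟩
      obtain ⟨Q', J', X', hT, -⟩ := X.tInv_pair hy hy2 hyC hx c.2 hxc
      exact (hone c x X'.u_mem hx.2.1).symm.trans hT
  have hfib : ∀ R ∈ Set.range f, {c : {c : Ω // c ≠ a} | f c = R}.ncard = (tFix Z a u).ncard := by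
    rintro R ⟨c₀, rfl⟩
    obtain ⟨Q', J', X'⟩ := X.set.exists_szPair X.pow (hw2 c₀) (fun h => (c₀.2 : (c₀ : Ω) ≠ a)
      (X.set.hyp.fix_unique h (mem_cPair.1 (hw c₀)).2.1 (mem_cPair.1 (hw c₀)).1)) c₀.2.symm (mem_cPair.1 (hw c₀)).1
      (mem_cPair.1 (hw c₀)).2.1
    obtain ⟨h, hh, hconj⟩ := Grp.IsSylowIn.conj X.modEl_isSylowIn X'.modEl_isSylowIn
    have hha := (mem_cHull.1 hh).1
    have hmove : ∀ c : {c : Ω // c ≠ a}, ∀ hne : h • (c : Ω) ≠ a,
        f ⟨h • (c : Ω), hne⟩ = MulAut.conj h • f c := fun c hne => by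
      show modEl Z a (w _) = _
      rw [← hone ⟨_, hne⟩ (h * w c * h⁻¹) (X.set.conj_cPair hha (hw c)) (by rw [orderOf_conj_eq]; exact hw2 c),
        X.set.modEl_conj_eq hha]
    refine (Set.ncard_congr (fun c hc => ⟨h • c, fun e => hc.1 (smul_left_cancel h (e.trans hha.symm))⟩)
      ?_ ?_ ?_).symm
    · intro c hc
      show f _ = f c₀
      rw [hmove ⟨c, hc.1⟩, (hfix ⟨c, hc.1⟩).2 hc, hconj]
    · intro c c' _ _ e
      exact smul_left_cancel h (congrArg Subtype.val e)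
    · intro d hd
      have hne : h⁻¹ • (d : Ω) ≠ a := fun e => d.2 (by rw [inv_smul_eq_iff] at e; rw [e, hha])
      refine ⟨h⁻¹ • (d : Ω), (hfix ⟨_, hne⟩).1 ?_, Subtype.ext (smul_inv_smul h _)⟩
      have h1 := hmove ⟨_, hne⟩ (by rw [smul_inv_smul]; exact d.2)
      rw [show (⟨h • h⁻¹ • (d : Ω), _⟩ : {c : Ω // c ≠ a}) = d from Subtype.ext (smul_inv_smul h _),
        show f d = f c₀ from hd, show f c₀ = MulAut.conj h • modEl Z a u from hconj.symm] at h1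
      exact (smul_left_cancel _ h1).symm
  obtain ⟨m, hmodd, hm⟩ := X.ncard_tFix hy hy2 hyC
  have hdvd : m ∣ Nat.card (el Z a) ^ 2 - Nat.card (el Z a) + 1 := by
    haveI := Fintype.ofFinite {c : Ω // c ≠ a}
    have h1 := Finset.card_eq_sum_card_image f (Finset.univ : Finset {c : Ω // c ≠ a})
    rw [Finset.sum_congr rfl (g := fun _ => (tFix Z a u).ncard) fun R hR => ?_, Finset.sum_const, smul_eq_mul,
      Finset.card_univ, ← Nat.card_eq_fintype_card,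
      show Nat.card {c : Ω // c ≠ a} = {c : Ω | c ≠ a}.ncard from Nat.card_coe_set_eq {c : Ω | c ≠ a},
      X.ncard_points, hm] at h1
    · refine Dvd.intro_left (Finset.image f Finset.univ).card (Nat.eq_of_mul_eq_mul_left (n := Nat.card (el Z a) ^ 3)
        (pow_pos Nat.card_pos 3) (Eq.trans ?_ h1.symm))
      ring
    · rw [← hfib R (by obtain ⟨c, -, hc⟩ := Finset.mem_image.1 hR; exact ⟨c, hc⟩), ← Set.ncard_coe_finset,
        Finset.coe_filter_univ]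
  -- the counting
  have hcount := X.count_fix hy hy2 hyC
  have hC := X.ncard_invC hy hy2 hyC
  obtain ⟨out, hout⟩ : ∃ out : Set G, out = {g | g ∈ tInv Z a u ∧ g ∉ cenAt Z a u} := ⟨_, rfl⟩
  have hyT : y ∈ out := hout ▸ ⟨⟨hy, orderOf_two_iff.2 ⟨hy2, fun h => hyC (h ▸ one_mem _)⟩,
    fun h => hyC (X.el_le_cen h)⟩, hyC⟩
  have hInv : (tInv Z a u).ncard = {g | g ∈ tInv Z a u ∧ g ∈ cenAt Z a u}.ncard + out.ncard := by
    rw [hout, ← Set.ncard_union_eq (Set.disjoint_left.2 fun g h1 h2 => h2.2 h1.2)]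
    congr 1
    ext g
    simp only [Set.mem_union, Set.mem_setOf_eq]
    tauto
  obtain ⟨P, hP⟩ : ∃ P, P = Nat.card (pCen Z a b u) := ⟨_, rfl⟩
  obtain ⟨q, hq⟩ : ∃ q, q = Nat.card (el Z a) := ⟨_, rfl⟩
  have hP2 : 2 ≤ P := hP ▸ Nat.le_of_dvd Nat.card_pos X.two_dvd_pCen
  have hq4 : 4 ≤ q := hq ▸ X.four_le
  rw [hInv, hC, hm, ← hP, ← hq] at hcount
  have hout1 : 0 < out.ncard := Set.ncard_pos (Set.toFinite _) |>.2 ⟨y, hyT⟩
  have hm1 : 1 < m := by
    rcases Nat.lt_or_ge 1 m with h | h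
    · exact h
    · exfalso
      obtain rfl : m = 1 := by obtain ⟨r, hr⟩ := hmodd; omega
      have h2 : q ^ 2 * (q * (P - 1)) < q ^ 2 * (q * (P - 1) + out.ncard) :=
        Nat.mul_lt_mul_of_pos_left (by omega) (by positivity)
      rw [← hcount, show q ^ 2 * (q * (P - 1)) = q ^ 3 * 1 * (P - 1) by ring] at h2
      exact lt_irrefl _ h2
  have hmod : m % (q - 1) = 1 := mod_of_dvd_sub hq4 (by omega) (hq ▸ hm ▸
    X.j_mod (fun k hk c hc => X.tFix_j hy hy2 hyC hk hc) (X.b_mem_tFix hy hy2 hyC) fun h => h.1 rfl)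
  obtain rfl := eq_of_dvd_of_mod hq4 (hq ▸ hdvd) hmod hm1
  have houtc : out.ncard = q ^ 2 * (q - 1) * (P - 1) := by
    obtain ⟨s, rfl⟩ : ∃ s, q = s + 1 := ⟨q - 1, by omega⟩
    rw [show (s + 1) ^ 2 - (s + 1) + 1 = s * (s + 1) + 1 by
      have : (s + 1) ^ 2 = s * (s + 1) + (s + 1) := by ring
      omega] at hcount
    rw [Nat.add_sub_cancel]
    refine Nat.add_left_cancel (n := (s + 1) * (P - 1)) (Nat.eq_of_mul_eq_mul_left (n := (s + 1) ^ 2) (by positivity)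
      (hcount.symm.trans ?_))
    ring
  -- products with the pair centraliser
  obtain ⟨S, hS⟩ : ∃ S : Set G, S = (fun r : G × G => r.1 * r.2) '' (out ×ˢ (pCen Z a b u : Set G)) := ⟨_, rfl⟩
  have hsub : S ⊆ (modEl Z a u : Set G) \ (cenAt Z a u : Set G) := by
    rw [hS, hout]
    rintro g ⟨⟨g, r⟩, ⟨⟨hg, hgC⟩, hr⟩, rfl⟩
    refine ⟨mul_mem hg.1 (cenAt_le_modEl a u (X.pCen_le_cen hr)), fun h => hgC ?_⟩
    simpa using mul_mem h (inv_mem (X.pCen_le_cen hr))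
  have hScard : S.ncard = out.ncard * P := by
    rw [hS, Set.InjOn.ncard_image, Set.ncard_prod, hP]
    · rfl
    rw [hout]
    rintro ⟨g, r⟩ ⟨⟨hg, hgC⟩, hr⟩ ⟨g', r'⟩ ⟨⟨hg', -⟩, hr'⟩ (e : g * r = g' * r')
    have hs : r * r'⁻¹ ∈ pCen Z a b u := mul_mem hr (inv_mem hr')
    have e' : g' = g * (r * r'⁻¹) := by rw [← mul_assoc, e, mul_inv_cancel_right]
    by_cases hr1 : r * r'⁻¹ = 1
    · rw [hr1, mul_one] at e'
      exact Prod.ext e'.symm (mul_inv_eq_one.1 hr1)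
    · refine absurd ?_ hgC
      have hss := X.pCen_sq hy hyC hs
      rw [← X.cen_eq hs (orderOf_two_iff.2 ⟨hss, hr1⟩)]
      refine mem_cenAt.2 ⟨hg.1.1, ?_⟩
      have h1 := mul_self_of_orderOf_two hg'.2.1
      rw [e'] at h1
      show g * (r * r'⁻¹) = r * r'⁻¹ * g
      calc g * (r * r'⁻¹) = (g * (r * r'⁻¹))⁻¹ := (inv_eq_of_mul_eq_one_right h1).symm
        _ = (r * r'⁻¹) * g := by
          rw [_root_.mul_inv_rev, inv_eq_of_mul_eq_one_right hss,
            inv_eq_of_mul_eq_one_right (mul_self_of_orderOf_two hg.2.1)]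
  have hTC : ((modEl Z a u : Set G) \ (cenAt Z a u : Set G)).ncard = q ^ 2 * (q - 1) * P := by
    rw [Set.ncard_diff (cenAt_le_modEl a u), ← Nat.card_coe_set_eq, ← Nat.card_coe_set_eq]
    show Nat.card (modEl Z a u) - Nat.card (cenAt Z a u) = _
    rw [X.card_modEl' hy hyC, X.card_cen', ← hP, ← hq, Nat.mul_sub, Nat.sub_mul, mul_one, ← pow_succ]
  have hPeq : P = 2 := by
    have h1 := Set.ncard_le_ncard hsub
    rw [hScard, houtc, hTC] at h1
    have h2 : q ^ 2 * (q - 1) * P * (P - 1) ≤ q ^ 2 * (q - 1) * P * 1 := by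
      rw [mul_one]
      refine le_trans (le_of_eq ?_) h1
      ring
    have h3 := Nat.le_of_mul_le_mul_left h2 (by
      have : 0 < q - 1 := by omega
      positivity)
    omega
  have hsurj : S = (modEl Z a u : Set G) \ (cenAt Z a u : Set G) := by
    refine Set.eq_of_subset_of_ncard_le hsub ?_
    rw [hTC, hScard, houtc, hPeq]
    exact le_of_eq (by ring)
  have hP' : ∀ r ∈ pCen Z a b u, r = 1 ∨ r = u := by
    intro r hr
    by_contra h
    push Not at h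
    have h3 : ({1, u, r} : Set G) ⊆ (pCen Z a b u : Set G) := by
      simp only [Set.insert_subset_iff, Set.singleton_subset_iff]
      exact ⟨one_mem _, X.u_mem_pCen, hr⟩
    have h4 : (3 : ℕ) = ({1, u, r} : Set G).ncard :=
      (Set.ncard_eq_three.2 ⟨1, u, r, hu1.symm, h.1.symm, h.2.symm, rfl⟩).symm
    have h5 := h4.le.trans (Set.ncard_le_ncard h3)
    rw [← Nat.card_coe_set_eq] at h5
    exact absurd (h5.trans_eq (hP.symm.trans hPeq)) (by norm_num)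
  -- so the squares of the coset are given by commutators
  have hphi : ∀ y' ∈ out, ∀ x ∈ Q, y' * x * (y' * x) = 1 ∨ y' * x * (y' * x) = y' * u * y'⁻¹ * u⁻¹ := by
    intro y' hy' x hx
    rw [hout] at hy'
    have hg : y' * x ∈ S := hsurj ▸ ⟨mul_mem hy'.1.1 (cenAt_le_modEl a u (X.q_le_cen hx)), fun h => hy'.2 (by
      simpa using mul_mem h (inv_mem (X.q_le_cen hx)))⟩
    rw [hS, hout] at hg
    obtain ⟨⟨g, r⟩, ⟨hg, hr⟩, (e : g * r = y' * x)⟩ := hg
    have hgg := mul_self_of_orderOf_two hg.1.2.1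
    rcases hP' r hr with rfl | hru
    · rw [mul_one] at e
      exact Or.inl (e ▸ hgg)
    · right
      rw [hru] at e
      rw [show g = y' * x * u from (mul_inv_eq_iff_eq_mul.2 (e.symm : y' * x = g * u)).symm.trans
        (by rw [inv_eq_of_mul_eq_one_right (mul_self_of_orderOf_two X.invol)])] at hgg
      have hd := comm_mul hy'.1.1 (cenAt_le_modEl a u (X.q_le_cen hx))
      rw [(mem_cenAt.1 (X.q_le_cen hx)).2.eq, mul_inv_cancel_right, mul_inv_cancel, one_mul] at hd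
      have hi : (y' * x)⁻¹ = u * (y' * x) * u := (eq_inv_of_mul_eq_one_right (a := y' * x) (by
        rw [← hgg]; group)).symm
      rw [← hd]
      calc y' * x * (y' * x) = y' * x * (u * u) * (y' * x) := by
            rw [mul_self_of_orderOf_two X.invol, mul_one]
        _ = y' * x * u * (u * (y' * x) * u) * u⁻¹ := by group
        _ = y' * x * u * (y' * x)⁻¹ * u⁻¹ := by rw [← hi]
  obtain ⟨k, hk, hk1⟩ := X.exists_j_ne_one
  obtain ⟨y1, y2, y3⟩ := X.conj_j_facts hy hy2 hyC hk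
  have hy' : k * y * k⁻¹ ∈ out :=
    hout ▸ ⟨⟨y1, orderOf_two_iff.2 ⟨y2, fun h => y3 (h ▸ one_mem _)⟩, fun h => y3 (X.el_le_cen h)⟩, y3⟩
  have hprod : ∀ x₁ ∈ Q, ∀ x₂ ∈ Q, ∀ z ∈ modEl Z a u, z * z = 1 → z ∉ cenAt Z a u →
      (∀ x ∈ Q, z * x * (z * x) = 1 ∨ z * x * (z * x) = z * u * z⁻¹ * u⁻¹) →
      x₁ * x₂ * (x₁ * x₂) * (x₁ * x₁) * (x₂ * x₂) = 1 ∨
        x₁ * x₂ * (x₁ * x₂) * (x₁ * x₁) * (x₂ * x₂) = z * u * z⁻¹ * u⁻¹ := by
    intro x₁ h1 x₂ h2 z hz hz2 hzC hall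
    have hβ := X.invol_conj_q hz hz2 hzC h1
    have hβ' := X.invol_conj_q hz hz2 hzC h2
    have hmul : z * (x₁ * x₂) * z⁻¹ * (x₁ * x₂)⁻¹ = z * x₁ * z⁻¹ * x₁⁻¹ * (z * x₂ * z⁻¹ * x₂⁻¹) := by
      rw [show z * (x₁ * x₂) * z⁻¹ * (x₁ * x₂)⁻¹ =
        z * x₁ * z⁻¹ * ((z * x₂ * z⁻¹ * x₂⁻¹) * x₁⁻¹) by group,
        (el_commute (inv_mem (X.q_le_cHull h1)) hβ').eq]
      group
    have hS1 : x₁ * x₂ * (x₁ * x₂) ∈ el Z a := X.data.sq_mem _ (mul_mem h1 h2)
    have e12 := X.sq_mem_el_of_y hz hz2 hzC (mul_mem h1 h2)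
    rw [hmul] at e12
    have heq : x₁ * x₂ * (x₁ * x₂) * (x₁ * x₁) * (x₂ * x₂) =
        z * (x₁ * x₂) * (z * (x₁ * x₂)) * (z * x₁ * (z * x₁)) * (z * x₂ * (z * x₂)) := by
      rw [e12, X.sq_mem_el_of_y hz hz2 hzC h1, X.sq_mem_el_of_y hz hz2 hzC h2]
      letI : CommGroup (el Z a) :=
        { (inferInstance : Group (el Z a)) with
          mul_comm := fun e f => Subtype.ext (el_commute (X.set.sz_el_le_cHull a f.2) e.2).eq }
      have key : ∀ A B S S1 S2 : el Z a, A * A = 1 → B * B = 1 →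
          S * S1 * S2 = A * B * S * (A * S1) * (B * S2) := fun A B S S1 S2 hA hB => by
        rw [show A * B * S * (A * S1) * (B * S2) = A * A * (B * B) * (S * S1 * S2) by ac_rfl, hA, hB, one_mul,
          one_mul]
      exact congrArg Subtype.val (key ⟨_, hβ⟩ ⟨_, hβ'⟩ ⟨_, hS1⟩ ⟨_, X.data.sq_mem _ h1⟩ ⟨_, X.data.sq_mem _ h2⟩
        (Subtype.ext (X.el_mul_self hβ)) (Subtype.ext (X.el_mul_self hβ')))
    rw [heq]
    rcases hall _ (mul_mem h1 h2) with e | e <;> rcases hall _ h1 with e' | e' <;> rcases hall _ h2 with e'' | e'' <;>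
      rw [e, e', e''] <;> simp only [one_mul, mul_one, X.el_mul_self hz.2] <;> simp
  have hd1 : y * u * y⁻¹ * u⁻¹ ≠ 1 := fun h =>
    hyC (mem_cenAt.2 ⟨hy.1, mul_inv_eq_iff_eq_mul.1 (mul_inv_eq_one.1 h)⟩)
  refine X.square.2.2.1.elim fun x₁ h => ?_
  obtain ⟨h1, x₂, h2, hne⟩ := h
  refine hne ?_
  have hs : x₁ * x₂ * (x₁ * x₂) * (x₁ * x₁) * (x₂ * x₂) = 1 := by
    rcases hprod x₁ h1 x₂ h2 y hy hy2 hyC (hphi y hyT) with h | h
    · exact h
    rcases hprod x₁ h1 x₂ h2 _ y1 y2 y3 (hphi _ hy') with h' | h'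
    · exact h'
    rw [h, X.j_comm_conj hk X.u_mem] at h'
    exact absurd (X.j_eq_one_of_commute hk hy.2 hd1 (mul_inv_eq_iff_eq_mul.1 h'.symm)) hk1
  have h3 : x₁ * x₂ * (x₁ * x₂) * (x₁ * x₁ * (x₂ * x₂)) = 1 := by rw [← mul_assoc]; exact hs
  have he : x₁ * x₁ * (x₂ * x₂) ∈ el Z a := mul_mem (X.data.sq_mem _ h1) (X.data.sq_mem _ h2)
  have h4 : x₁ * x₂ * (x₁ * x₂) = x₁ * x₁ * (x₂ * x₂) :=
    (mul_eq_one_iff_eq_inv.1 h3).trans (inv_eq_of_mul_eq_one_right (X.el_mul_self he))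
  calc x₁ * x₂ = x₁⁻¹ * (x₁ * x₁ * (x₂ * x₂)) * x₂⁻¹ := by group
    _ = x₂ * x₁ := by rw [← h4]; group

include hy hy2 hyC in
/-- The case where an involution of the pair subgroup does not commute with `u`. -/
theorem false_of_noncomm {x' : G} (hx' : x' ∈ cPair Z a b) (hxx : x' * x' = 1) (hnc : ¬ Commute x' u) : False := by
  classical
  haveI : Fact (Nat.Prime 2) := ⟨Nat.prime_two⟩
  haveI := X.set.hyp.finite_points
  have huu := mul_self_of_orderOf_two X.invol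
  have hui : u⁻¹ = u := inv_eq_of_mul_eq_one_right huu
  have hxi : x'⁻¹ = x' := inv_eq_of_mul_eq_one_right hxx
  obtain ⟨r, hr⟩ : ∃ r, r = u * x' := ⟨_, rfl⟩
  have hrP : r ∈ cPair Z a b := hr ▸ mul_mem X.u_mem hx'
  have hinv : u * r * u⁻¹ = r⁻¹ := by
    rw [hr, _root_.mul_inv_rev, hxi, hui, ← mul_assoc, huu, one_mul]
  have hr1 : r ≠ 1 := fun h => hnc (by
    have : u = x'⁻¹ := mul_eq_one_iff_eq_inv.1 (hr ▸ h)
    rw [this, hxi])
  have hodd : Odd (orderOf r) := by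
    by_contra heven
    rw [Nat.not_odd_iff_even, even_iff_two_dvd] at heven
    obtain ⟨n, hn⟩ := heven
    have hn0 : n ≠ 0 := fun h => (orderOf_pos r).ne' (by omega)
    have hi2 : r ^ n * r ^ n = 1 := by rw [← pow_add, ← two_mul, ← hn, pow_orderOf_eq_one]
    have hi1 : r ^ n ≠ 1 := fun h => by
      have := Nat.le_of_dvd (Nat.pos_of_ne_zero hn0) (orderOf_dvd_of_pow_eq_one h); omega
    have hiu : Commute (r ^ n) u := by
      show r ^ n * u = u * r ^ n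
      have h1 : u * r ^ n * u⁻¹ = r ^ n := by
        rw [← conj_pow, hinv, inv_pow, inv_eq_of_mul_eq_one_right hi2]
      calc r ^ n * u = u * r ^ n * u⁻¹ * u := by rw [h1]
        _ = u * r ^ n := by group
    refine hnc (mem_cenAt.1 ((X.cen_eq (mem_pCen.2 ⟨pow_mem hrP n, hiu⟩) (orderOf_two_iff.2 ⟨hi2, hi1⟩)).le
      (mem_cenAt.2 ⟨cPair_le_cHull _ _ hx', ?_⟩))).2
    have hx : x' = u * r := by rw [hr, ← mul_assoc, huu, one_mul]
    rw [hx]
    exact hiu.symm.mul_left ((Commute.refl r).pow_right n)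
  obtain ⟨i, hi⟩ := hodd
  obtain ⟨w, hw⟩ : ∃ w, w = r ^ i := ⟨_, rfl⟩
  have hwP : w ∈ cPair Z a b := hw ▸ pow_mem hrP i
  have hwx : w * u * w⁻¹ = x' := by
    have h1 : u * w⁻¹ * u⁻¹ = w := by
      rw [hw, ← inv_pow, ← conj_pow, show u * r⁻¹ * u⁻¹ = (u * r * u⁻¹)⁻¹ by group, hinv, inv_inv]
    have h2 : w * w * r = 1 := by rw [hw, ← pow_add, ← pow_succ, ← two_mul, ← hi, pow_orderOf_eq_one]
    calc w * u * w⁻¹ = w * (u * w⁻¹ * u⁻¹) * u := by group
      _ = w * w * r * (r⁻¹ * u) := by rw [h1]; group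
      _ = x' := by rw [h2, one_mul, hr, _root_.mul_inv_rev, hxi, hui, mul_assoc, huu, mul_one]
  -- the normaliser of the two part
  obtain ⟨N, hN⟩ : ∃ N : Subgroup G, N = cHull Z a ⊓ normalizer (Q : Set G) := ⟨_, rfl⟩
  have hPN : cPair Z a b ≤ N := fun k hk => hN ▸ ⟨cPair_le_cHull _ _ hk, Subgroup.mem_normalizer_fintype fun x hx => by
    rw [(X.commute_q hx hk).symm.eq, mul_inv_cancel_right]; exact hx⟩
  have hTN : modEl Z a u ≤ N := fun g hg => hN ▸ ⟨hg.1, Subgroup.mem_normalizer_fintype fun x hx => by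
    obtain ⟨e, he, p, hp, hpp, hgx⟩ := X.conj_q hg hx
    have hmem := (X.mem_modEl_cen hy hy2 hyC hg (X.q_le_cen hx)).2
    rw [hgx] at hmem ⊢
    have h1 : x⁻¹ * (e * x * p * x⁻¹) * x⁻¹⁻¹ ∈ el Z a := X.set.el_conj (inv_smul_eq_iff.2 (X.q_fix hx).symm) hmem
    rw [show x⁻¹ * (e * x * p * x⁻¹) * x⁻¹⁻¹ = x⁻¹ * e * x * p by group,
      mul_assoc x⁻¹ e, (X.data.central e he x hx).eq, inv_mul_cancel_left] at h1
    have h2 : p = 1 := by
      by_contra h
      exact X.pair_notMem_el (mem_pCen.1 hp).1 h (by simpa using mul_mem (inv_mem he) h1)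
    rw [h2, mul_one]
    exact mul_mem (X.data.el_le he) hx⟩
  obtain ⟨O, hO⟩ : ∃ O : Set Ω, O = orbit N b := ⟨_, rfl⟩
  have hmemO : ∀ c, c ∈ O ↔ ∃ g ∈ N, g • b = c := fun c => by
    rw [hO]
    exact ⟨fun ⟨g, hg⟩ => ⟨g, g.2, hg⟩, fun ⟨g, hg, e⟩ => ⟨⟨g, hg⟩, e⟩⟩
  obtain ⟨O', hO'⟩ : ∃ O' : Set Ω, O' = orbit (modEl Z a u) b := ⟨_, rfl⟩
  have hne : O ≠ O' := by
    intro hOO
    obtain ⟨c, hc⟩ : ∃ c, c = y • b := ⟨_, rfl⟩
    have hcO : ∀ g ∈ N, ∃ t ∈ modEl Z a u, g • c = t • b := fun g hg => by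
      have h1 : g • c ∈ O := (hmemO _).2 ⟨g * y, mul_mem hg (hTN hy), by rw [mul_smul, hc]⟩
      rw [hOO, hO'] at h1
      obtain ⟨t, ht⟩ := h1
      exact ⟨t, t.2, ht.symm⟩
    have hmove : ∀ t ∈ modEl Z a u, ∃ e ∈ el Z a, u • t • b = e • t • b := fun t ht => by
      refine ⟨t⁻¹ * u * t⁻¹⁻¹ * u⁻¹, (inv_mem ht : t⁻¹ ∈ modEl Z a u).2, ?_⟩
      obtain ⟨e, he⟩ : ∃ e, e = t⁻¹ * u * t⁻¹⁻¹ * u⁻¹ := ⟨_, rfl⟩
      have hee : e ∈ el Z a := he ▸ (inv_mem ht : t⁻¹ ∈ modEl Z a u).2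
      rw [← he, ← mul_smul, ← mul_smul, (el_commute ht.1 hee).eq, show u * t = t * (e * u) by rw [he]; group,
        mul_smul, mul_smul, X.fixB, mul_smul]
    have hx'c : ∃ e ∈ el Z a, x' • c = e • c := by
      obtain ⟨t, ht, htc⟩ := hcO w⁻¹ (hPN (inv_mem hwP))
      obtain ⟨e, he, hue⟩ := hmove t ht
      refine ⟨e, he, ?_⟩
      rw [← hwx, mul_smul, mul_smul, htc, hue, ← mul_smul w e, ← (el_commute (cPair_le_cHull _ _ hwP) he).eq,
        mul_smul, ← htc, smul_inv_smul]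
    obtain ⟨e₁, he₁, hx'e⟩ := hx'c
    obtain ⟨e₂, he₂, hue⟩ := hmove y hy
    rw [← hc] at hue
    have hrH := cPair_le_cHull _ _ hrP
    obtain ⟨d, ⟨e, hed⟩, hfix⟩ : ∃ d ∈ orbit (el Z a) c, ∀ k ∈ Subgroup.zpowers r, k • d = d := by
      refine Grp.exists_fixed_point (Subgroup.zpowers r) (el Z a) _ ?_ ?_ (Or.inl ?_) (nonempty_orbit c) ?_ ?_ ?_
      · exact Subgroup.zpowers_le.2 (Subgroup.mem_normalizer_fintype fun e he => by
          rw [← (el_commute hrH he).eq, mul_inv_cancel_right]; exact he)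
      · obtain ⟨n, -, hn⟩ := X.el_two_pow
        rw [Nat.card_zpowers, hn, hi]
        exact Nat.Coprime.pow_right n (Nat.coprime_two_right.2 ⟨i, rfl⟩)
      · infer_instance
      · intro k hk
        have hstep : ∀ d ∈ orbit (el Z a) c, r • d ∈ orbit (el Z a) c := by
          rintro - ⟨e, rfl⟩
          refine ⟨⟨(e : G) * (e₁ * e₂), mul_mem e.2 (mul_mem he₁ he₂)⟩, ?_⟩
          show ((e : G) * (e₁ * e₂)) • c = r • (e : G) • c
          rw [← mul_smul r, ← (el_commute hrH e.2).eq, mul_smul (e : G) r, mul_smul (e : G), hr, mul_smul u x', hx'e,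
            ← mul_smul u e₁, ← (el_commute X.u_hull he₁).eq, mul_smul e₁ u, hue, mul_smul]
        have hpow : ∀ n : ℕ, ∀ d ∈ orbit (el Z a) c, r ^ n • d ∈ orbit (el Z a) c := fun n => by
          induction n with
          | zero => intro d hd; rwa [pow_zero, one_smul]
          | succ n ih => intro d hd; rw [pow_succ', mul_smul]; exact hstep _ (ih d hd)
        obtain ⟨n, rfl⟩ := mem_powers_iff_mem_zpowers.2 hk
        exact hpow n
      · rintro k hk - ⟨e, rfl⟩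
        exact ⟨⟨k * e, mul_mem hk e.2⟩, mul_smul k (e : G) c⟩
      · rintro - ⟨e, rfl⟩ - ⟨f, rfl⟩
        refine ⟨(f : G) * (e : G)⁻¹, mul_mem f.2 (inv_mem e.2), ?_⟩
        show ((f : G) * (e : G)⁻¹) • (e : G) • c = (f : G) • c
        rw [mul_smul, inv_smul_smul]
    have hd : u • d = d := (X.fixed_eq hrP hr1 d).1 (hfix r (Subgroup.mem_zpowers r))
    have hec : u • c = c := by
      refine smul_left_cancel (e : G) ?_
      rw [← mul_smul, (el_commute X.u_hull e.2).eq, mul_smul]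
      rw [← hed] at hd
      exact hd
    have h1 : (y⁻¹ * u * y⁻¹⁻¹ * u⁻¹) • b = b := by
      rw [mul_smul, hui, X.fixB, mul_smul, mul_smul, inv_inv, ← hc, hec, hc, inv_smul_smul]
    have h2 := X.set.el_semiregular X.ne.symm (inv_mem hy : y⁻¹ ∈ modEl Z a u).2 h1
    have hy' : y⁻¹ ∈ cenAt Z a u :=
      mem_cenAt.2 ⟨inv_mem hy.1, mul_inv_eq_iff_eq_mul.1 (mul_inv_eq_one.1 h2)⟩
    exact hyC (by simpa using inv_mem hy')
  -- the orbit of the normaliser is everything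
  obtain ⟨q, hq⟩ : ∃ q, q = Nat.card (el Z a) := ⟨_, rfl⟩
  have hq4 : 4 ≤ q := hq ▸ X.four_le
  obtain ⟨K, hK⟩ : ∃ K, K = Nat.card (cPair Z a b) := ⟨_, rfl⟩
  have hNcard : O.ncard * K = Nat.card N := by
    rw [hO, hK]
    refine ncard_orbit_mul fun g => ⟨fun hg => ⟨hPN hg, (mem_cPair.1 hg).2.1⟩, fun hg => ?_⟩
    obtain ⟨h1, h2⟩ := mem_cHull.1 ((hN ▸ hg.1 : g ∈ cHull Z a ⊓ normalizer (Q : Set G)).1)
    exact mem_cPair.2 ⟨h1, hg.2, h2⟩
  have hTcard : O'.ncard * Nat.card (pCen Z a b u) = Nat.card (modEl Z a u) := by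
    rw [hO']
    refine ncard_orbit_mul fun g => ⟨fun hg => ⟨cenAt_le_modEl a u (X.pCen_le_cen hg),
      (mem_cPair.1 (mem_pCen.1 hg).1).2.1⟩, fun hg => ?_⟩
    exact X.le_pCen (Y := modEl Z a u ⊓ cPair Z a b) (X.modEl_pGroup.to_le inf_le_left) inf_le_right
      ⟨cenAt_le_modEl a u X.u_mem_cen, X.u_mem⟩
      ⟨hg.1, mem_cPair.2 ⟨(mem_cHull.1 hg.1.1).1, hg.2, (mem_cHull.1 hg.1.1).2⟩⟩
  have hO'card : O'.ncard = q ^ 3 := by
    rw [X.card_modEl' hy hyC, ← hq] at hTcard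
    exact Nat.eq_of_mul_eq_mul_right Nat.card_pos hTcard
  have hOdvd : O.ncard ∣ q ^ 3 * (q ^ 2 - q + 1) := by
    have h1 := (Subgroup.card_dvd_of_le (hN ▸ inf_le_left : N ≤ cHull Z a)).trans (X.set.card_cHull_dvd X.ne)
    rw [← hNcard, ← hK, X.card_points, ← hq, mul_comm O.ncard] at h1
    exact Nat.dvd_of_mul_dvd_mul_left (hK ▸ Nat.card_pos) h1
  obtain ⟨ω, hω⟩ : q ^ 3 ∣ O.ncard := by
    obtain ⟨v, w', hw', hKvw⟩ : ∃ v w, ¬ 2 ∣ w ∧ K = 2 ^ v * w :=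
      ⟨_, _, Nat.not_dvd_ordCompl Nat.prime_two (hK ▸ Nat.card_pos.ne'), (Nat.ordProj_mul_ordCompl_eq_self _ 2).symm⟩
    have hp : Nat.card (pCen Z a b u) = 2 ^ v := by
      have hw0 : w' ≠ 0 := fun h => hw' (h ▸ dvd_zero 2)
      rw [X.pCen_isSylowIn.card, ← hK, hKvw, Nat.factorization_mul (by positivity) hw0, Finsupp.add_apply,
        Nat.prime_two.factorization_pow, Finsupp.single_eq_same, Nat.factorization_eq_zero_of_not_dvd hw', add_zero]
    have h1 := Subgroup.card_dvd_of_le hTN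
    rw [← hNcard, X.card_modEl' hy hyC, ← hq, hp, hKvw, show O.ncard * (2 ^ v * w') = 2 ^ v * (O.ncard * w') by ring,
      mul_comm (q ^ 3)] at h1
    have h2 := Nat.dvd_of_mul_dvd_mul_left (by positivity) h1
    obtain ⟨n, -, hn⟩ := X.el_two_pow
    rw [← hq] at hn
    refine Nat.Coprime.dvd_of_dvd_mul_right ?_ h2
    rw [hn, ← pow_mul]
    exact Nat.Coprime.pow_left _ (Nat.Prime.coprime_iff_not_dvd Nat.prime_two |>.2 hw')
  have hsubO : O' ⊆ O := by
    rw [hO']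
    rintro - ⟨t, rfl⟩
    exact (hmemO _).2 ⟨t, hTN t.2, rfl⟩
  have hω1 : 1 < ω := by
    by_contra h
    refine hne (Set.eq_of_subset_of_ncard_le hsubO ?_).symm
    rw [hω, hO'card]
    exact (Nat.mul_le_mul_left _ (not_lt.1 h)).trans_eq (mul_one _)
  have hωmod : ω % (q - 1) = 1 := by
    refine mod_of_dvd_sub hq4 (by omega) ?_
    rw [← hω, hq]
    refine X.j_mod (fun k hk c hc => ?_) ((hmemO b).2 ⟨1, one_mem _, one_smul _ _⟩) fun ha => ?_
    · obtain ⟨g, hg, rfl⟩ := (hmemO c).1 hc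
      refine (hmemO _).2 ⟨k * g * k⁻¹, ?_, by rw [mul_smul, mul_smul, inv_smul_eq_iff.2 (X.j_fixB hk).symm]⟩
      rw [hN] at hg ⊢
      refine ⟨X.j_conj_cHull hk hg.1, ?_⟩
      have hkn : k ∈ normalizer (Q : Set G) := Subgroup.mem_normalizer_fintype fun x hx =>
        X.data.q_conj k (commute_of_mem_lgen (X.j_mem hk)) (X.j_fixA hk) x hx
      exact (normalizer (Q : Set G)).mul_mem ((normalizer (Q : Set G)).mul_mem hkn hg.2)
        ((normalizer (Q : Set G)).inv_mem hkn)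
    · obtain ⟨g, hg, hga⟩ := (hmemO a).1 ha
      rw [hN] at hg
      exact X.ne (smul_left_cancel g ((mem_cHull.1 hg.1).1.trans hga.symm))
  obtain rfl := eq_of_dvd_of_mod hq4
    (Nat.dvd_of_mul_dvd_mul_left (show 0 < q ^ 3 by positivity) (hω ▸ hOdvd)) hωmod hω1
  have hall : ∀ c : Ω, c ≠ a → ∃ g ∈ N, g • b = c := fun c hc => by
    refine (hmemO c).1 ?_
    have h1 : O = {c : Ω | c ≠ a} := by
      refine Set.eq_of_subset_of_ncard_le (fun d hd => ?_) (by rw [X.ncard_points, ← hq, hω])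
      obtain ⟨g, hg, rfl⟩ := (hmemO d).1 hd
      rw [hN] at hg
      exact fun e => X.ne.symm (smul_left_cancel g (e.trans (mem_cHull.1 hg.1).1.symm))
    rw [h1]; exact hc
  -- every involution commutes with the two part
  have hcq : ∀ g ∈ tInv Z a u, ∀ x ∈ Q, Commute g x := by
    intro g hg x hx
    have hga := (mem_cHull.1 hg.1.1).1
    haveI := X.set.faithful
    obtain ⟨c, hgc, hca⟩ := X.set.hyp.exists_other_fix hg.2.1
      (fun h => hg.2.2 (X.set.mem_el.2 (Or.inr ⟨h, hga⟩))) a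
    obtain ⟨n, hn, rfl⟩ := hall c hca
    rw [hN] at hn
    have hk : n⁻¹ * g * n⁻¹⁻¹ ∈ cPair Z a b := by
      have h1 := X.set.conj_cPair (inv_smul_eq_iff.2 (mem_cHull.1 hn.1).1.symm)
        (mem_cPair.2 ⟨hga, hgc, (mem_cHull.1 hg.1.1).2⟩ : g ∈ cPair Z a (n • b))
      rwa [inv_smul_smul] at h1
    have hxn : n⁻¹ * x * n⁻¹⁻¹ ∈ Q := (Subgroup.mem_normalizer_iff.1 (inv_mem hn.2) x).1 hx
    have h2 := (X.commute_q hxn hk).map (MulAut.conj n).toMonoidHom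
    simp only [MulEquiv.coe_toMonoidHom, MulAut.conj_apply] at h2
    rw [show n * (n⁻¹ * x * n⁻¹⁻¹) * n⁻¹ = x by group, show n * (n⁻¹ * g * n⁻¹⁻¹) * n⁻¹ = g by group] at h2
    exact h2.symm
  -- the involutions outside the centraliser
  have hinvT : ∀ {g : G}, g ∈ modEl Z a u → g * g = 1 → g ∉ cenAt Z a u → g ∈ tInv Z a u := fun h1 h2 h3 =>
    ⟨h1, orderOf_two_iff.2 ⟨h2, fun h => h3 (h ▸ one_mem _)⟩, fun h => h3 (X.el_le_cen h)⟩
  have hout : {g | g ∈ tInv Z a u ∧ g ∉ cenAt Z a u} =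
      (fun j : G × G => j.1 * y * j.1⁻¹ * j.2) '' ((J : Set G) ×ˢ (el Z a : Set G)) := by
    ext g
    constructor
    · rintro ⟨hg, hgC⟩
      obtain ⟨k, hk, hkc⟩ := X.exists_j_coset hy hy2 hyC hg.1 hgC
      obtain ⟨k1, k2, k3⟩ := X.conj_j_facts hy hy2 hyC hk
      obtain ⟨x, hx, p, hp, hxp⟩ := X.mem_cen.1 hkc
      have hge : g = k * y * k⁻¹ * (x * p) := by rw [← hxp, mul_inv_cancel_left]
      have hxel : x ∈ el Z a := X.center_q hx fun z hz => by
        have hzp := X.commute_q hz (mem_pCen.1 hp).1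
        have hzg : Commute z ((k * y * k⁻¹)⁻¹ * g) :=
          (hcq _ (hinvT k1 k2 k3) z hz).symm.inv_right.mul_right (hcq g hg z hz).symm
        rw [hxp] at hzg
        rw [show x = x * p * p⁻¹ by group]
        exact hzg.mul_right hzp.inv_right
      have hgp : k * y * k⁻¹ * p * (k * y * k⁻¹ * p) = 1 := by
        have h1 := mul_self_of_orderOf_two hg.2.1
        have hxH := el_commute (mul_mem k1.1 (cPair_le_cHull _ _ (mem_pCen.1 hp).1)) hxel
        rw [hge, show k * y * k⁻¹ * (x * p) = x * (k * y * k⁻¹ * p) by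
          rw [← mul_assoc, ← (el_commute k1.1 hxel).eq]; group,
          hxH.symm.mul_mul_mul_comm, X.el_mul_self hxel, one_mul] at h1
        exact h1
      have hp1 : p = 1 := by
        by_contra h
        refine k3 (X.cen_eq hp (orderOf_two_iff.2 ⟨X.pCen_sq hy hyC hp, h⟩) ▸ mem_cenAt.2 ⟨k1.1, ?_⟩)
        show k * y * k⁻¹ * p = p * (k * y * k⁻¹)
        calc k * y * k⁻¹ * p = (k * y * k⁻¹ * p)⁻¹ := (inv_eq_of_mul_eq_one_right hgp).symm
          _ = p * (k * y * k⁻¹) := by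
            rw [_root_.mul_inv_rev, inv_eq_of_mul_eq_one_right (X.pCen_sq hy hyC hp),
              inv_eq_of_mul_eq_one_right k2]
      exact ⟨(k, x), ⟨hk, hxel⟩, by rw [hge, hp1, mul_one]⟩
    · rintro ⟨⟨k, e⟩, ⟨hk, he⟩, rfl⟩
      obtain ⟨k1, k2, k3⟩ := X.conj_j_facts hy hy2 hyC hk
      have hm : k * y * k⁻¹ * e ∉ cenAt Z a u := fun h => k3 (by
        simpa using mul_mem h (inv_mem (X.el_le_cen he)))
      refine ⟨hinvT (mul_mem k1 (X.el_le_modEl he)) ?_ hm, hm⟩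
      rw [(el_commute k1.1 he).mul_mul_mul_comm, k2, X.el_mul_self he, one_mul]
  have houtcard : {g | g ∈ tInv Z a u ∧ g ∉ cenAt Z a u}.ncard = (q - 1) * q := by
    rw [hout, Set.InjOn.ncard_image, Set.ncard_prod, ← Nat.card_coe_set_eq, ← Nat.card_coe_set_eq]
    · show Nat.card J * Nat.card (el Z a) = _
      rw [X.j_card, hq]
    rintro ⟨k, e⟩ ⟨hk, he⟩ ⟨l, f⟩ ⟨hl, hf⟩ (h : k * y * k⁻¹ * e = l * y * l⁻¹ * f)
    obtain ⟨k1, -, -⟩ := X.conj_j_facts hy hy2 hyC hk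
    obtain ⟨l1, -, -⟩ := X.conj_j_facts hy hy2 hyC hl
    have hz : ∀ g ∈ modEl Z a u, ∀ e ∈ el Z a, g * e * u * (g * e)⁻¹ * u⁻¹ = g * u * g⁻¹ * u⁻¹ := fun g hg e he => by
      rw [show g * e * u * (g * e)⁻¹ = g * (e * u * e⁻¹) * g⁻¹ by group, (el_commute X.u_hull he).eq,
        mul_inv_cancel_right]
    have h1 := hz _ k1 e he
    rw [h, hz _ l1 f hf, X.j_comm_conj hl X.u_mem, X.j_comm_conj hk X.u_mem] at h1
    have hd1 : y * u * y⁻¹ * u⁻¹ ≠ 1 := fun h =>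
      hyC (mem_cenAt.2 ⟨hy.1, mul_inv_eq_iff_eq_mul.1 (mul_inv_eq_one.1 h)⟩)
    have h2 : Commute (k⁻¹ * l) (y * u * y⁻¹ * u⁻¹) := by
      show k⁻¹ * l * (y * u * y⁻¹ * u⁻¹) = y * u * y⁻¹ * u⁻¹ * (k⁻¹ * l)
      calc k⁻¹ * l * (y * u * y⁻¹ * u⁻¹) = k⁻¹ * (l * (y * u * y⁻¹ * u⁻¹) * l⁻¹) * l := by group
        _ = y * u * y⁻¹ * u⁻¹ * (k⁻¹ * l) := by rw [h1]; group
    obtain rfl : k = l := inv_mul_eq_one.1 (X.j_eq_one_of_commute (mul_mem (inv_mem hk) hl) hy.2 hd1 h2)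
    exact Prod.ext rfl (mul_left_cancel h)
  obtain ⟨m, hmodd, hm⟩ := X.ncard_tFix hy hy2 hyC
  have hcount := X.count_fix hy hy2 hyC
  have hsplit : (tInv Z a u).ncard = {g | g ∈ tInv Z a u ∧ g ∈ cenAt Z a u}.ncard +
      {g | g ∈ tInv Z a u ∧ g ∉ cenAt Z a u}.ncard := by
    rw [← Set.ncard_union_eq (Set.disjoint_left.2 fun g h1 h2 => h2.2 h1.2)]
    congr 1
    ext g
    simp only [Set.mem_union, Set.mem_setOf_eq]
    tauto
  rw [hsplit, houtcard, X.ncard_invC hy hy2 hyC, hm, ← hq] at hcount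
  obtain ⟨P, hP⟩ := X.two_dvd_pCen
  rw [hP] at hcount
  have hP1 : 1 ≤ P := by have := (Nat.card_pos : 0 < Nat.card (pCen Z a b u)); omega
  have h3 : m * (2 * P - 1) = (2 * P - 1) + (q - 1) := by
    refine Nat.eq_of_mul_eq_mul_left (n := q ^ 3) (by positivity) ?_
    rw [← mul_assoc, hcount]; ring
  have h4 : Odd (m * (2 * P - 1)) := hmodd.mul (Nat.odd_iff.2 (by omega))
  obtain ⟨s, hs⟩ := X.even_q
  rw [← hq] at hs
  rw [h3, Nat.odd_iff] at h4
  omega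

/-- The involutions of the Sylow subgroup centralise `u`. -/
theorem no_fused {g : G} (hg : g ∈ modEl Z a u) (hgg : g * g = 1) : g ∈ cenAt Z a u := by
  by_contra hgC
  by_cases hcom : ∀ x ∈ cPair Z a b, x * x = 1 → Commute x u
  · exact X.false_of_comm hg hgg hgC hcom
  · push Not at hcom
    obtain ⟨x, hx, hxx, hnc⟩ := hcom
    exact X.false_of_noncomm hg hgg hgC hx hxx hnc

end SzPair

end Cfsg.Agent.Invol.Aschbacher.Last
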