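import Cfsg.Agent.Lib.Invol.Aschbacher.Last.SzHull

/-!
# An involution outside the centraliser in the Sylow subgroup, case of order `q ^ 2`

If the Sylow subgroup `modEl Z a u` is larger than the centraliser, the pair centraliser is elementary abelian; if it
has an involution outside the centraliser it is abelian modulo the members.
-/

set_option autoImplicit false
set_option linter.unusedSectionVars false
set_option linter.style.haveILetI false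

namespace Cfsg.Agent.Invol.Aschbacher.Last

open MulAction Subgroup
open Cfsg.Agent.Invol.Bender (pairStab mem_pair conj_smul_smul)

universe u

variable {G : Type u} [Group G] [Finite G] {Ω : Type u} [MulAction G Ω] {Z : Set G}

omit [Finite G] in
theorem modEl_mul_mem {a : Ω} {g y z : G} (hy : g ∈ modEl Z a y) (hz : g ∈ modEl Z a z) (hyH : y ∈ cHull Z a) :
    g ∈ modEl Z a (y * z) := by
  refine ⟨hy.1, ?_⟩
  rw [show g * (y * z) * g⁻¹ * (y * z)⁻¹ = g * y * g⁻¹ * y⁻¹ * (y * (g * z * g⁻¹ * z⁻¹) * y⁻¹) by group,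
    ← (el_commute hyH hz.2).eq, mul_inv_cancel_right]
  exact mul_mem hy.2 hz.2

omit [Finite G] in
theorem modEl_el_mul {a : Ω} {e y : G} (he : e ∈ el Z a) (heH : e ∈ cHull Z a) :
    modEl Z a (e * y) = modEl Z a y := by
  have hee : ∀ g : G, g ∈ cHull Z a → g ∈ modEl Z a e := fun g hg =>
    ⟨hg, by rw [← (el_commute hg he).eq, mul_inv_cancel_right, mul_inv_cancel]; exact one_mem _⟩
  refine le_antisymm (fun g hg => ?_) fun g hg => modEl_mul_mem (hee g hg.1) hg heH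
  have hei : g ∈ modEl Z a e⁻¹ := ⟨hg.1, by
    rw [← (el_commute hg.1 (inv_mem he)).eq, mul_inv_cancel_right, mul_inv_cancel]; exact one_mem _⟩
  have h1 := modEl_mul_mem hei hg (inv_mem heH)
  rwa [inv_mul_cancel_left] at h1

omit [Finite G] in
theorem cenAt_el_mul {a : Ω} {e y : G} (he : e ∈ el Z a) : cenAt Z a (e * y) = cenAt Z a y := by
  ext g
  refine ⟨fun hg => ?_, fun hg => ?_⟩ <;> obtain ⟨h1, h2⟩ := mem_cenAt.1 hg <;> refine mem_cenAt.2 ⟨h1, ?_⟩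
  · rw [show y = e⁻¹ * (e * y) by group]
    exact (el_commute h1 (inv_mem he)).symm.mul_right h2
  · exact (el_commute h1 he).symm.mul_right h2

namespace SzPair

variable {u : G} {a b : Ω} {Q J : Subgroup G} (X : SzPair Z u a b Q J)
include X

theorem u_hull : u ∈ cHull Z a := cPair_le_cHull _ _ X.u_mem

theorem u_mem_cen : u ∈ cenAt Z a u := mem_cenAt.2 ⟨X.u_hull, Commute.refl u⟩

theorem el_le_cen : el Z a ≤ cenAt Z a u := fun e he =>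
  mem_cenAt.2 ⟨X.set.sz_el_le_cHull a he, el_commute X.u_hull he⟩

theorem el_le_modEl : el Z a ≤ modEl Z a u := fun _ he => cenAt_le_modEl a u (X.el_le_cen he)

theorem conj_cen {g c : G} (hg : g ∈ modEl Z a u) (hc : c ∈ cenAt Z a u) : g * c * g⁻¹ ∈ cenAt Z a u := by
  have h1 := X.set.conj_cenAt (mem_cHull.1 hg.1).1 hc
  rwa [show g * u * g⁻¹ = g * u * g⁻¹ * u⁻¹ * u by group, cenAt_el_mul hg.2] at h1

theorem mem_modEl_pCen {g p : G} (hg : g ∈ modEl Z a u) (hp : p ∈ pCen Z a b u) (hpp : p * p = 1) :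
    g * p * g⁻¹ * p⁻¹ ∈ el Z a := by
  by_cases h : p = 1
  · rw [h]; simpa using one_mem (el Z a)
  · exact ((X.modEl_eq hp (orderOf_two_iff.2 ⟨hpp, h⟩)).ge hg).2

theorem sq_q_commute {x : G} (hx : x ∈ Q) {g : G} (hg : g ∈ cHull Z a) : Commute (x * x) g :=
  el_commute hg (X.data.sq_mem x hx)

/-- An element of the Sylow subgroup moves the two part into the cosets of the pair centraliser involutions. -/
theorem conj_q {g x : G} (hg : g ∈ modEl Z a u) (hx : x ∈ Q) :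
    ∃ e ∈ el Z a, ∃ p ∈ pCen Z a b u, p * p = 1 ∧ g * x * g⁻¹ = e * x * p := by
  obtain ⟨y, hy, p, hp, hyp⟩ := X.mem_cen.1 (X.conj_cen hg (X.q_le_cen hx))
  have hc := X.commute_q hy (mem_pCen.1 hp).1
  obtain ⟨h1, h2⟩ := X.prod_inj (mul_mem hy hy) (mul_mem hx hx) (mul_mem (mem_pCen.1 hp).1 (mem_pCen.1 hp).1)
    (one_mem _) (by
      rw [← hc.symm.mul_mul_mul_comm, ← hyp, mul_one]
      calc g * x * g⁻¹ * (g * x * g⁻¹) = g * (x * x) * g⁻¹ := by group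
        _ = x * x := by rw [← (X.sq_q_commute hx hg.1).eq, mul_inv_cancel_right])
  have he := X.sq_inj hx hy h1.symm
  refine ⟨x⁻¹ * y, he, p, hp, h2, ?_⟩
  rw [hyp, (X.data.central _ he x hx).eq, mul_inv_cancel_left]

theorem sq_sq_pCen {p : G} (hp : p ∈ pCen Z a b u) : p * p * (p * p) = 1 := by
  obtain ⟨ψ, hinj, hψ⟩ := X.exists_hom_q X.pCen_pGroup inf_le_left
  have h1 := X.el_mul_self (X.data.sq_mem _ (hψ ⟨p, hp⟩))
  rw [← map_mul, ← map_mul, ← map_one ψ] at h1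
  exact congrArg Subtype.val (hinj h1)

/-- If more than the centraliser centralises `u` modulo the members, the pair centraliser has exponent two. -/
theorem pCen_sq {g₀ : G} (hg₀ : g₀ ∈ modEl Z a u) (hg₀C : g₀ ∉ cenAt Z a u) {p : G} (hp : p ∈ pCen Z a b u) :
    p * p = 1 := by
  by_contra hne
  obtain ⟨hpP, hpu⟩ := mem_pCen.1 hp
  have hxp : p * p ∈ pCen Z a b u := mul_mem hp hp
  have hx2 : orderOf (p * p) = 2 := orderOf_two_iff.2 ⟨X.sq_sq_pCen hp, hne⟩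
  have hxP := (mem_pCen.1 hxp).1
  obtain ⟨Q', J', X'⟩ := X.set.exists_szPair X.pow hx2 (X.pair_notMem hxP) X.ne (mem_cPair.1 hxP).1
    (mem_cPair.1 hxP).2.1
  have hT := X.modEl_eq hxp hx2
  have hsurj : ∀ e ∈ el Z a, ∃ g ∈ modEl Z a u, g * (p * p) * g⁻¹ * (p * p)⁻¹ = e := by
    rcases X'.modEl_cases with h | h
    · exact absurd (((hT.symm.trans h).trans (X.cen_eq hxp hx2)).le hg₀) hg₀C
    · exact fun e he => (h e he).imp fun g hg => ⟨hT.le hg.1, hg.2⟩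
  have key : ∀ g ∈ modEl Z a u, ∀ y ∈ Q, ∀ r ∈ pCen Z a b u, g * p * g⁻¹ = y * r →
      y * y = g * (p * p) * g⁻¹ * (p * p)⁻¹ ∧ r * r = p * p := by
    intro g hg y hy r hr h
    have he := X.mem_modEl_pCen hg hxp (X.sq_sq_pCen hp)
    refine X.prod_inj (mul_mem hy hy) (X.data.el_le he) (mul_mem (mem_pCen.1 hr).1 (mem_pCen.1 hr).1) hxP ?_
    rw [← (X.commute_q hy (mem_pCen.1 hr).1).symm.mul_mul_mul_comm, ← h]
    group
  have hdec : ∀ g ∈ modEl Z a u, ∃ y ∈ Q, ∃ r ∈ pCen Z a b u, g * p * g⁻¹ = y * r := fun g hg =>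
    X.mem_cen.1 (X.conj_cen hg (X.pCen_le_cen hp))
  -- the components in the two part commute
  have hcomm : ∀ g₁ ∈ modEl Z a u, ∀ g₂ ∈ modEl Z a u, ∀ y₁ ∈ Q, ∀ y₂ ∈ Q, ∀ r₁ ∈ pCen Z a b u,
      ∀ r₂ ∈ pCen Z a b u, g₁ * p * g₁⁻¹ = y₁ * r₁ → g₂ * p * g₂⁻¹ = y₂ * r₂ → Commute y₁ y₂ := by
    intro g₁ hg₁ g₂ hg₂ y₁ hy₁ y₂ hy₂ r₁ hr₁ r₂ hr₂ h₁ h₂
    obtain ⟨hs₁, hq₁⟩ := key g₁ hg₁ y₁ hy₁ r₁ hr₁ h₁
    obtain ⟨hs₂, hq₂⟩ := key g₂ hg₂ y₂ hy₂ r₂ hr₂ h₂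
    obtain ⟨e, he, p₃, hp₃, -, hy⟩ := X.conj_q hg₁ hy₂
    have hxx : p⁻¹ * r₂ ∈ pCen Z a b u := mul_mem (inv_mem hp) hr₂
    have he₅ := X.mem_modEl_pCen hg₁ hxx (X.sq_pCen hp hr₂ hq₂.symm)
    obtain ⟨e₅, he₅'⟩ : ∃ e₅, e₅ = g₁ * (p⁻¹ * r₂) * g₁⁻¹ * (p⁻¹ * r₂)⁻¹ := ⟨_, rfl⟩
    rw [← he₅'] at he₅
    have hp₃P := (mem_pCen.1 hp₃).1
    have hr₁P := (mem_pCen.1 hr₁).1
    have hprod : g₁ * g₂ * p * (g₁ * g₂)⁻¹ = e * y₂ * y₁ * e₅ * (p₃ * r₁ * (p⁻¹ * r₂)) := by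
      have hv : g₁ * r₂ * g₁⁻¹ = y₁ * r₁ * (e₅ * (p⁻¹ * r₂)) := by
        rw [← h₁, he₅']; group
      calc g₁ * g₂ * p * (g₁ * g₂)⁻¹ = g₁ * (g₂ * p * g₂⁻¹) * g₁⁻¹ := by group
        _ = g₁ * y₂ * g₁⁻¹ * (g₁ * r₂ * g₁⁻¹) := by rw [h₂]; group
        _ = e * y₂ * (p₃ * y₁) * (r₁ * e₅) * (p⁻¹ * r₂) := by rw [hy, hv]; group
        _ = e * y₂ * y₁ * (p₃ * e₅) * r₁ * (p⁻¹ * r₂) := by
          rw [← (X.commute_q hy₁ hp₃P).eq, ← (el_commute (cPair_le_cHull _ _ hr₁P) he₅).eq]; group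
        _ = _ := by rw [← (el_commute (cPair_le_cHull _ _ hp₃P) he₅).eq]; group
    obtain ⟨hs, -⟩ := key _ (mul_mem hg₁ hg₂) _ (mul_mem (mul_mem (mul_mem (X.data.el_le he) hy₂) hy₁)
      (X.data.el_le he₅)) _ (mul_mem (mul_mem hp₃ hr₁) hxx) hprod
    rw [comm_mul (hT.ge hg₁) (hT.ge hg₂), ← hs₁, ← hs₂] at hs
    have hyy := mul_mem hy₂ hy₁
    have h3 : e * y₂ * y₁ * e₅ * (e * y₂ * y₁ * e₅) = y₂ * y₁ * (y₂ * y₁) := by
      calc e * y₂ * y₁ * e₅ * (e * y₂ * y₁ * e₅) = e * (y₂ * y₁ * (e₅ * e)) * (y₂ * y₁) * e₅ := by group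
        _ = e * (e₅ * e) * (y₂ * y₁) * (y₂ * y₁) * e₅ := by
          rw [← (X.data.central _ (mul_mem he₅ he) _ hyy).eq]; group
        _ = e * (e₅ * e) * (y₂ * y₁ * (y₂ * y₁)) * e₅ := by group
        _ = e * (e₅ * e) * (e₅ * (y₂ * y₁ * (y₂ * y₁))) := by
          rw [mul_assoc, ← (X.data.central _ he₅ _ (mul_mem hyy hyy)).eq]
        _ = e * (e₅ * e) * e₅ * (y₂ * y₁ * (y₂ * y₁)) := by group
        _ = _ := by
          rw [show e * (e₅ * e) * e₅ = e * e₅ * (e * e₅) by group, X.el_mul_self (mul_mem he he₅), one_mul]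
    rw [h3] at hs
    show y₁ * y₂ = y₂ * y₁
    calc y₁ * y₂ = y₂⁻¹ * (y₂ * y₁ * (y₂ * y₁)) * y₁⁻¹ := by group
      _ = y₂ * y₁ := by rw [hs]; group
  obtain ⟨x, hx, y, hy, hxy⟩ := X.square.2.2.1
  obtain ⟨g₁, hg₁, hd₁⟩ := hsurj _ (X.data.sq_mem x hx)
  obtain ⟨g₂, hg₂, hd₂⟩ := hsurj _ (X.data.sq_mem y hy)
  obtain ⟨y₁, hy₁, r₁, hr₁, h₁⟩ := hdec g₁ hg₁
  obtain ⟨y₂, hy₂, r₂, hr₂, h₂⟩ := hdec g₂ hg₂
  have he₁ := X.sq_inj hy₁ hx ((key g₁ hg₁ y₁ hy₁ r₁ hr₁ h₁).1.trans hd₁)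
  have he₂ := X.sq_inj hy₂ hy ((key g₂ hg₂ y₂ hy₂ r₂ hr₂ h₂).1.trans hd₂)
  refine hxy ?_
  have hc := hcomm g₁ hg₁ g₂ hg₂ y₁ hy₁ y₂ hy₂ r₁ hr₁ r₂ hr₂ h₁ h₂
  rw [show x = y₁ * (y₁⁻¹ * x) by group, show y = y₂ * (y₂⁻¹ * y) by group]
  exact ((hc.mul_right (X.data.central _ he₂ _ hy₁).symm).mul_left (X.data.central _ he₁ _ (mul_mem hy₂ (X.data.el_le he₂)))).eq

variable {y : G} (hy : y ∈ modEl Z a u) (hy2 : y * y = 1) (hyC : y ∉ cenAt Z a u)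

include hy hy2 hyC in
theorem invol_conj_q {x : G} (hx : x ∈ Q) : y * x * y⁻¹ * x⁻¹ ∈ el Z a := by
  obtain ⟨e, he, p, hp, hpp, hc⟩ := X.conj_q hy hx
  have hyi : y⁻¹ = y := inv_eq_of_mul_eq_one_right hy2
  have he' := X.mem_modEl_pCen hy hp hpp
  obtain ⟨d, hd⟩ : ∃ d, d = y * p * y⁻¹ * p⁻¹ := ⟨_, rfl⟩
  rw [← hd] at he'
  have hxH := X.q_le_cHull hx
  have hpH := cPair_le_cHull _ _ (mem_pCen.1 hp).1
  have hp1 : p = 1 := by
    by_contra hne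
    refine hyC (X.cen_eq hp (orderOf_two_iff.2 ⟨hpp, hne⟩) ▸ mem_cenAt.2 ⟨hy.1, ?_⟩)
    have h1 : x = x * d := by
      calc x = y * (y * x * y⁻¹) * y⁻¹ := by
            rw [show y * (y * x * y⁻¹) * y⁻¹ = (y * y) * x * (y * y)⁻¹ by group, hy2]; group
        _ = y * (e * x * p) * y⁻¹ := by rw [hc]
        _ = y * e * (x * p * y⁻¹) := by group
        _ = e * (y * x * y⁻¹) * (d * p) := by rw [← (el_commute hy.1 he).eq, hd]; group
        _ = e * (e * x * p) * (d * p) := by rw [hc]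
        _ = e * e * x * (p * d * p) := by group
        _ = e * e * x * (d * p * p) := by rw [(el_commute hpH he').eq]
        _ = x * d := by rw [X.el_mul_self he, mul_assoc d, hpp]; group
    have h2 : d = 1 := mul_left_cancel (a := x) (by rw [mul_one]; exact h1.symm)
    rw [hd] at h2
    exact mul_inv_eq_iff_eq_mul.1 (mul_inv_eq_one.1 h2)
  rw [hc, hp1, mul_one, mul_inv_cancel_right]
  exact he

theorem cen_comm {g₀ : G} (hg₀ : g₀ ∈ modEl Z a u) (hg₀C : g₀ ∉ cenAt Z a u) {c c' : G} (hc : c ∈ cenAt Z a u)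
    (hc' : c' ∈ cenAt Z a u) : c' ∈ modEl Z a c := by
  obtain ⟨x, hx, p, hp, rfl⟩ := X.mem_cen.1 hc
  obtain ⟨x', hx', p', hp', rfl⟩ := X.mem_cen.1 hc'
  have hpP := (mem_pCen.1 hp).1
  have hpP' := (mem_pCen.1 hp').1
  refine modEl_mul_mem ?_ ?_ (X.q_le_cHull hx) <;> refine mul_mem ⟨?_, ?_⟩ ⟨?_, ?_⟩
  · exact X.q_le_cHull hx'
  · have h1 := X.data.comm_mem x'⁻¹ (inv_mem hx') x⁻¹ (inv_mem hx)
    simpa using h1
  · exact cPair_le_cHull _ _ hpP'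
  · rw [← (X.commute_q hx hpP').eq, mul_inv_cancel_right, mul_inv_cancel]; exact one_mem _
  · exact X.q_le_cHull hx'
  · rw [(X.commute_q hx' hpP).eq, mul_inv_cancel_right, mul_inv_cancel]; exact one_mem _
  · exact cPair_le_cHull _ _ hpP'
  · rw [(X.invol_central X.pCen_pGroup inf_le_left hp' (X.pCen_sq hg₀ hg₀C hp') hp).eq, mul_inv_cancel_right,
      mul_inv_cancel]
    exact one_mem _

include hy hy2 hyC in
theorem conj_j_facts {k : G} (hk : k ∈ J) :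
    k * y * k⁻¹ ∈ modEl Z a u ∧ k * y * k⁻¹ * (k * y * k⁻¹) = 1 ∧ k * y * k⁻¹ ∉ cenAt Z a u := by
  refine ⟨X.j_conj_modEl hk hy, ?_, fun h => hyC ?_⟩
  · rw [show k * y * k⁻¹ * (k * y * k⁻¹) = k * (y * y) * k⁻¹ by group, hy2]; group
  · have h1 := X.set.conj_cenAt (inv_smul_eq_iff.2 (X.j_fixA hk).symm) h
    rw [show k⁻¹ * u * k⁻¹⁻¹ = u by
      rw [inv_inv, mul_assoc, ← (X.j_commute_pair hk X.u_mem).eq, inv_mul_cancel_left]] at h1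
    rwa [show k⁻¹ * (k * y * k⁻¹) * k⁻¹⁻¹ = y by group] at h1

include hy hy2 hyC in
/-- The torus conjugates of the involution cover the cosets of the centraliser. -/
theorem exists_j_coset {g : G} (hg : g ∈ modEl Z a u) (hgC : g ∉ cenAt Z a u) :
    ∃ k ∈ J, (k * y * k⁻¹)⁻¹ * g ∈ cenAt Z a u := by
  have hne : ∀ {g : G}, g ∈ modEl Z a u → g ∉ cenAt Z a u → g * u * g⁻¹ * u⁻¹ ∈ zAt Z a := fun hg hgC =>
    X.el_ne_one hg.2 fun h1 => hgC (mem_cenAt.2 ⟨hg.1, mul_inv_eq_iff_eq_mul.1 (mul_inv_eq_one.1 h1)⟩)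
  obtain ⟨k, hk, hke⟩ := X.data.j_trans _ (hne hy hyC) _ (hne hg hgC)
  refine ⟨k, hk, mem_cenAt.2 ⟨mul_mem (inv_mem (X.j_conj_modEl hk hy).1) hg.1, ?_⟩⟩
  rw [← X.j_comm_conj hk X.u_mem] at hke
  have h1 := mul_right_cancel hke
  show (k * y * k⁻¹)⁻¹ * g * u = u * ((k * y * k⁻¹)⁻¹ * g)
  calc (k * y * k⁻¹)⁻¹ * g * u = (k * y * k⁻¹)⁻¹ * (g * u * g⁻¹) * g := by group
    _ = (k * y * k⁻¹)⁻¹ * (k * y * k⁻¹ * u * (k * y * k⁻¹)⁻¹) * g := by rw [h1]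
    _ = u * ((k * y * k⁻¹)⁻¹ * g) := by group

include hy hy2 hyC in
theorem mem_modEl_cen {g c : G} (hg : g ∈ modEl Z a u) (hc : c ∈ cenAt Z a u) : g ∈ modEl Z a c := by
  by_cases hgC : g ∈ cenAt Z a u
  · exact X.cen_comm hy hyC hc hgC
  obtain ⟨k, hk, hkc⟩ := X.exists_j_coset hy hy2 hyC hg hgC
  obtain ⟨h1, h2, h3⟩ := X.conj_j_facts hy hy2 hyC hk
  obtain ⟨x, hx, p, hp, rfl⟩ := X.mem_cen.1 hc
  have hk1 : k * y * k⁻¹ ∈ modEl Z a (x * p) := modEl_mul_mem ⟨h1.1, X.invol_conj_q h1 h2 h3 hx⟩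
    ⟨h1.1, X.mem_modEl_pCen h1 hp (X.pCen_sq hy hyC hp)⟩ (X.q_le_cHull hx)
  exact (mul_inv_cancel_left (k * y * k⁻¹) g) ▸ mul_mem hk1 (X.cen_comm hy hyC hc hkc)

include hy hy2 hyC in
/-- The Sylow subgroup is abelian modulo the members. -/
theorem mem_modEl_self {g h : G} (hg : g ∈ modEl Z a u) (hh : h ∈ modEl Z a u) : g ∈ modEl Z a h := by
  have hsymm : ∀ {v w : G}, v ∈ cHull Z a → w ∈ cHull Z a → v ∈ modEl Z a w → w ∈ modEl Z a v := fun hv hw h =>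
    ⟨hw, by simpa [mul_assoc] using inv_mem h.2⟩
  -- two torus conjugates commute modulo the members
  have hpair : ∀ y₁ ∈ modEl Z a u, y₁ * y₁ = 1 → y₁ ∉ cenAt Z a u → ∀ y₂ ∈ modEl Z a u, y₂ * y₂ = 1 →
      y₂ ∉ cenAt Z a u → y₁ ∈ modEl Z a y₂ := by
    intro y₁ h1 s1 c1 y₂ h2 s2 c2
    have i1 : y₁⁻¹ = y₁ := inv_eq_of_mul_eq_one_right s1
    have i2 : y₂⁻¹ = y₂ := inv_eq_of_mul_eq_one_right s2
    refine ⟨h1.1, ?_⟩
    rw [i1, i2]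
    obtain ⟨z, hz⟩ : ∃ z, z = y₁ * y₂ * y₁ * y₂ := ⟨_, rfl⟩
    rw [← hz]
    have hzH : z ∈ cHull Z a := hz ▸ mul_mem (mul_mem (mul_mem h1.1 h2.1) h1.1) h2.1
    have hzC : z ∈ cenAt Z a u := by
      refine mem_cenAt.2 ⟨hzH, ?_⟩
      have hd : z * u * z⁻¹ * u⁻¹ = 1 := by
        rw [hz, comm_mul (mul_mem (mul_mem h1 h2) h1) h2, comm_mul (mul_mem h1 h2) h1, comm_mul h1 h2]
        obtain ⟨d1, hd1⟩ : ∃ d, d = y₁ * u * y₁⁻¹ * u⁻¹ := ⟨_, rfl⟩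
        obtain ⟨d2, hd2⟩ : ∃ d, d = y₂ * u * y₂⁻¹ * u⁻¹ := ⟨_, rfl⟩
        have e1 : d1 ∈ el Z a := hd1 ▸ h1.2
        have e2 : d2 ∈ el Z a := hd2 ▸ h2.2
        rw [← hd1, ← hd2, ← mul_assoc]
        exact X.el_mul_self (mul_mem e2 e1)
      exact mul_inv_eq_iff_eq_mul.1 (mul_inv_eq_one.1 hd)
    obtain ⟨x₀, hx₀, p₀, hp₀, hzp⟩ := X.mem_cen.1 hzC
    have hxe : x₀ ∈ el Z a := X.center_q hx₀ fun x hx => by
      obtain ⟨e1, he1⟩ : ∃ e, e = y₁ * x * y₁⁻¹ * x⁻¹ := ⟨_, rfl⟩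
      obtain ⟨e2, he2⟩ : ∃ e, e = y₂ * x * y₂⁻¹ * x⁻¹ := ⟨_, rfl⟩
      have m1 : e1 ∈ el Z a := he1 ▸ X.invol_conj_q h1 s1 c1 hx
      have m2 : e2 ∈ el Z a := he2 ▸ X.invol_conj_q h2 s2 c2 hx
      have q1 : y₁ * x = e1 * x * y₁ := by rw [he1]; group
      have q2 : y₂ * x = e2 * x * y₂ := by rw [he2]; group
      have hzx : z * x = x * z := by
        calc z * x = y₁ * y₂ * y₁ * (y₂ * x) := by rw [hz]; group
          _ = y₁ * y₂ * (y₁ * e2) * (x * y₂) := by rw [q2]; group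
          _ = y₁ * (y₂ * e2) * (y₁ * x) * y₂ := by rw [← (el_commute h1.1 m2).eq]; group
          _ = y₁ * e2 * (y₂ * e1) * x * (y₁ * y₂) := by rw [← (el_commute h2.1 m2).eq, q1]; group
          _ = y₁ * (e2 * e1) * (y₂ * x) * (y₁ * y₂) := by rw [← (el_commute h2.1 m1).eq]; group
          _ = y₁ * (e2 * e1 * e2) * x * (y₂ * y₁ * y₂) := by rw [q2]; group
          _ = y₁ * e1 * x * (y₂ * y₁ * y₂) := by
            rw [(el_commute (X.set.sz_el_le_cHull a m1) m2).eq, mul_assoc e1, X.el_mul_self m2, mul_one]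
          _ = e1 * (y₁ * x) * (y₂ * y₁ * y₂) := by rw [← (el_commute h1.1 m1).eq]; group
          _ = e1 * e1 * x * (y₁ * (y₂ * y₁ * y₂)) := by rw [q1]; group
          _ = x * z := by rw [X.el_mul_self m1, hz]; group
      have hc : Commute x (x₀ * p₀) := hzp ▸ hzx.symm
      rw [show x₀ = x₀ * p₀ * p₀⁻¹ by group]
      exact hc.mul_right (X.commute_q hx (mem_pCen.1 hp₀).1).inv_right
    have hp1 : p₀ = 1 := by
      by_contra hne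
      have hpp := X.pCen_sq h1 c1 hp₀
      have hpH := cPair_le_cHull _ _ (mem_pCen.1 hp₀).1
      refine c1 (X.cen_eq hp₀ (orderOf_two_iff.2 ⟨hpp, hne⟩) ▸ mem_cenAt.2 ⟨h1.1, ?_⟩)
      have hzz : z⁻¹ = z := inv_eq_of_mul_eq_one_right (by
        rw [hzp, (X.commute_q hx₀ (mem_pCen.1 hp₀).1).symm.mul_mul_mul_comm, X.el_mul_self hxe, hpp, one_mul])
      have h3 : Commute y₁ z := by
        show y₁ * z = z * y₁
        have : y₁ * z * y₁ = z⁻¹ := by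
          rw [hz, _root_.mul_inv_rev, _root_.mul_inv_rev, _root_.mul_inv_rev, i1, i2,
            show y₁ * (y₁ * y₂ * y₁ * y₂) * y₁ = (y₁ * y₁) * (y₂ * (y₁ * (y₂ * y₁))) by group, s1, one_mul]
        rw [hzz] at this
        calc y₁ * z = y₁ * z * (y₁ * y₁) := by rw [s1, mul_one]
          _ = y₁ * z * y₁ * y₁ := by group
          _ = z * y₁ := by rw [this]
      rw [show p₀ = x₀⁻¹ * z by rw [hzp]; group]
      exact (el_commute h1.1 (inv_mem hxe)).symm.mul_right h3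
    rw [hzp, hp1, mul_one]
    exact hxe
  by_cases hhC : h ∈ cenAt Z a u
  · exact X.mem_modEl_cen hy hy2 hyC hg hhC
  by_cases hgC : g ∈ cenAt Z a u
  · exact hsymm hh.1 hg.1 (X.mem_modEl_cen hy hy2 hyC hh hgC)
  obtain ⟨k, hk, hkc⟩ := X.exists_j_coset hy hy2 hyC hh hhC
  obtain ⟨h1, h2, h3⟩ := X.conj_j_facts hy hy2 hyC hk
  obtain ⟨l, hl, hlc⟩ := X.exists_j_coset hy hy2 hyC hg hgC
  obtain ⟨l1, l2, l3⟩ := X.conj_j_facts hy hy2 hyC hl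
  have hgk : g ∈ modEl Z a (k * y * k⁻¹) := by
    have := mul_mem (hpair _ l1 l2 l3 _ h1 h2 h3) (hsymm h1.1 (mem_cenAt.1 hlc).1 (X.mem_modEl_cen hy hy2 hyC h1 hlc))
    rwa [mul_inv_cancel_left] at this
  have := modEl_mul_mem hgk (X.mem_modEl_cen hy hy2 hyC hg hkc) h1.1
  rwa [mul_inv_cancel_left] at this

end SzPair

end Cfsg.Agent.Invol.Aschbacher.Last
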