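import Cfsg.Agent.Lib.Invol.Aschbacher.Last.SzLine
import Cfsg.Agent.Lib.Grp.Coprime

/-!
# The centraliser modulo the members, case of order `q ^ 2`

In the centraliser `cHull Z a` of the members at a fixed point of an outside involution `u`, the centraliser of `u` is
the product of the two part and of a Sylow 2-subgroup of the pair subgroup.  The elements centralising `u` modulo the
members form a Sylow 2-subgroup, the same for all involutions of the centraliser outside the members.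
-/

set_option autoImplicit false
set_option linter.unusedSectionVars false
set_option linter.style.haveILetI false

namespace Cfsg.Agent.Invol.Aschbacher.Last

open MulAction Subgroup
open Cfsg.Agent.Invol.Bender (pairStab mem_pair conj_smul_smul)

universe u

variable {G : Type u} [Group G] [Finite G] {Ω : Type u} [MulAction G Ω] {Z : Set G}

/-- The centraliser of `y` in the centraliser of the members at a point. -/
def cenAt (Z : Set G) (a : Ω) (y : G) : Subgroup G := cHull Z a ⊓ Subgroup.centralizer ({y} : Set G)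

/-- The centraliser of an involution in the pair subgroup. -/
def pCen (Z : Set G) (a b : Ω) (y : G) : Subgroup G := cPair Z a b ⊓ Subgroup.centralizer ({y} : Set G)

omit [Finite G] in
theorem mem_cenAt {a : Ω} {y g : G} : g ∈ cenAt Z a y ↔ g ∈ cHull Z a ∧ Commute g y :=
  and_congr_right fun _ => Subgroup.mem_centralizer_singleton_iff

omit [Finite G] in
theorem mem_pCen {a b : Ω} {y g : G} : g ∈ pCen Z a b y ↔ g ∈ cPair Z a b ∧ Commute g y :=
  and_congr_right fun _ => Subgroup.mem_centralizer_singleton_iff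

omit [Finite G] in
theorem cPair_le_cHull (a b : Ω) : cPair Z a b ≤ cHull Z a := fun _ hg =>
  mem_cHull.2 ⟨(mem_cPair.1 hg).1, (mem_cPair.1 hg).2.2⟩

omit [Finite G] in
theorem el_le_centralizer {a : Ω} {g : G} (hg : g ∈ cHull Z a) : el Z a ≤ Subgroup.centralizer ({g} : Set G) :=
  (Subgroup.closure_le _).2 fun z hz => Subgroup.mem_centralizer_singleton_iff.2 ((mem_cHull.1 hg).2 z hz).eq

omit [Finite G] in
theorem el_commute {a : Ω} {g e : G} (hg : g ∈ cHull Z a) (he : e ∈ el Z a) : Commute e g :=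
  Subgroup.mem_centralizer_singleton_iff.1 (el_le_centralizer hg he)

/-- The elements of `cHull Z a` centralising `y` modulo the members. -/
def modEl (Z : Set G) (a : Ω) (y : G) : Subgroup G where
  carrier := {g | g ∈ cHull Z a ∧ g * y * g⁻¹ * y⁻¹ ∈ el Z a}
  one_mem' := ⟨one_mem _, by rw [one_mul, inv_one, mul_one, mul_inv_cancel]; exact one_mem _⟩
  mul_mem' := by
    rintro g h ⟨hg, hgy⟩ ⟨hh, hhy⟩
    refine ⟨mul_mem hg hh, ?_⟩
    rw [show g * h * y * (g * h)⁻¹ * y⁻¹ = g * (h * y * h⁻¹ * y⁻¹) * g⁻¹ * (g * y * g⁻¹ * y⁻¹) by group,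
      (el_commute hg hhy).eq.symm, mul_inv_cancel_right]
    exact mul_mem hhy hgy
  inv_mem' := by
    rintro g ⟨hg, hgy⟩
    refine ⟨inv_mem hg, ?_⟩
    rw [show g⁻¹ * y * g⁻¹⁻¹ * y⁻¹ = g⁻¹ * (g * y * g⁻¹ * y⁻¹)⁻¹ * g by group,
      mul_assoc, (el_commute hg (inv_mem hgy)).eq, inv_mul_cancel_left]
    exact inv_mem hgy

omit [Finite G] in
theorem mem_modEl {a : Ω} {y g : G} : g ∈ modEl Z a y ↔ g ∈ cHull Z a ∧ g * y * g⁻¹ * y⁻¹ ∈ el Z a := Iff.rfl

omit [Finite G] in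
theorem cenAt_le_modEl (a : Ω) (y : G) : cenAt Z a y ≤ modEl Z a y := fun g hg => by
  obtain ⟨h1, h2⟩ := mem_cenAt.1 hg
  exact ⟨h1, by rw [h2.eq, mul_inv_cancel_right, mul_inv_cancel]; exact one_mem _⟩

omit [Finite G] in
theorem comm_mul {a : Ω} {y g h : G} (hg : g ∈ modEl Z a y) (hh : h ∈ modEl Z a y) :
    g * h * y * (g * h)⁻¹ * y⁻¹ = (h * y * h⁻¹ * y⁻¹) * (g * y * g⁻¹ * y⁻¹) := by
  rw [show g * h * y * (g * h)⁻¹ * y⁻¹ = g * (h * y * h⁻¹ * y⁻¹) * g⁻¹ * (g * y * g⁻¹ * y⁻¹) by group,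
    (el_commute hg.1 hh.2).eq.symm, mul_inv_cancel_right]

namespace Setting

variable (X : Setting G Ω Z)
include X

theorem sz_el_le_cHull (a : Ω) : el Z a ≤ cHull Z a :=
  (Subgroup.closure_le _).2 fun z hz => mem_cHull.2 ⟨hz.2, fun t ht => X.comm a t ht z hz⟩

theorem el_conj {g : G} {a : Ω} (hg : g • a = a) {e : G} (he : e ∈ el Z a) : g * e * g⁻¹ ∈ el Z a := by
  rcases X.mem_el.1 he with rfl | h
  · rw [mul_one, mul_inv_cancel]; exact one_mem _
  · refine X.mem_el.2 (Or.inr ?_)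
    have h0 := X.hyp.zAt_conj (g := g) h
    rwa [hg] at h0

theorem el_sq {a : Ω} {e : G} (he : e ∈ el Z a) : e * e = 1 := by
  rcases X.mem_el.1 he with rfl | h
  · exact one_mul 1
  · exact mul_self_of_orderOf_two (X.hyp.invol e h.1)

theorem mem_el_iff_mem_Z {r : G} {a : Ω} (hr : orderOf r = 2) (hra : r • a = a) : r ∈ el Z a ↔ r ∈ Z :=
  ⟨fun h => ((X.mem_el.1 h).resolve_left (orderOf_two_iff.1 hr).2).1, fun h => X.mem_el.2 (Or.inr ⟨h, hra⟩)⟩

theorem sz_conj_cHull {g k : G} {a : Ω} (hg : g • a = a) (hk : k ∈ cHull Z a) : g * k * g⁻¹ ∈ cHull Z a := by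
  obtain ⟨hka, hkc⟩ := mem_cHull.1 hk
  refine mem_cHull.2 ⟨by rw [mul_smul, mul_smul, inv_smul_eq_iff.2 hg.symm, hka, hg], fun z hz => ?_⟩
  have h0 : g⁻¹ * z * g⁻¹⁻¹ ∈ zAt Z a := by
    have := X.hyp.zAt_conj (g := g⁻¹) hz
    rwa [inv_smul_eq_iff.2 hg.symm] at this
  have h1 := (hkc _ h0).map (MulAut.conj g).toMonoidHom
  simp only [MulEquiv.coe_toMonoidHom, MulAut.conj_apply] at h1
  rwa [show g * (g⁻¹ * z * g⁻¹⁻¹) * g⁻¹ = z by group] at h1

theorem conj_modEl {g k : G} {a : Ω} (hg : g • a = a) {y : G} (hk : k ∈ modEl Z a y) :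
    g * k * g⁻¹ ∈ modEl Z a (g * y * g⁻¹) := by
  refine ⟨X.sz_conj_cHull hg hk.1, ?_⟩
  rw [show g * k * g⁻¹ * (g * y * g⁻¹) * (g * k * g⁻¹)⁻¹ * (g * y * g⁻¹)⁻¹ = g * (k * y * k⁻¹ * y⁻¹) * g⁻¹ by group]
  exact X.el_conj hg hk.2

theorem conj_cenAt {g k : G} {a : Ω} (hg : g • a = a) {y : G} (hk : k ∈ cenAt Z a y) :
    g * k * g⁻¹ ∈ cenAt Z a (g * y * g⁻¹) := by
  obtain ⟨h1, h2⟩ := mem_cenAt.1 hk
  refine mem_cenAt.2 ⟨X.sz_conj_cHull hg h1, ?_⟩
  have := h2.map (MulAut.conj g).toMonoidHom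
  simpa using this

theorem card_cPair_eq {a b c d : Ω} (hab : a ≠ b) (hcd : c ≠ d) :
    Nat.card (cPair Z a b) = Nat.card (cPair Z c d) := by
  obtain ⟨g, rfl, rfl⟩ := X.two_trans a b c d hab hcd
  refine le_antisymm ?_ ?_
  · refine Nat.card_le_card_of_injective (fun k => ⟨g * (k : G) * g⁻¹, ?_⟩) fun k l h => Subtype.ext
      (mul_left_cancel (mul_right_cancel (congrArg Subtype.val h :)))
    obtain ⟨h1, h2, h3⟩ := mem_cPair.1 k.2
    refine mem_cPair.2 ⟨by rw [mul_smul, mul_smul, inv_smul_smul, h1], by rw [mul_smul, mul_smul, inv_smul_smul, h2],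
      fun z hz => ?_⟩
    have h0 : g⁻¹ * z * g⁻¹⁻¹ ∈ zAt Z a := by
      have := X.hyp.zAt_conj (g := g⁻¹) hz
      rwa [inv_smul_smul] at this
    have h4 := (h3 _ h0).map (MulAut.conj g).toMonoidHom
    simp only [MulEquiv.coe_toMonoidHom, MulAut.conj_apply] at h4
    rwa [show g * (g⁻¹ * z * g⁻¹⁻¹) * g⁻¹ = z by group] at h4
  · refine Nat.card_le_card_of_injective (fun k => ⟨g⁻¹ * (k : G) * g, ?_⟩) fun k l h => Subtype.ext
      (mul_left_cancel (mul_right_cancel (congrArg Subtype.val h :)))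
    obtain ⟨h1, h2, h3⟩ := mem_cPair.1 k.2
    refine mem_cPair.2 ⟨by rw [mul_smul, mul_smul, h1, inv_smul_smul], by rw [mul_smul, mul_smul, h2, inv_smul_smul],
      fun z hz => ?_⟩
    have h4 := (h3 _ (X.hyp.zAt_conj (g := g) hz)).map (MulAut.conj g⁻¹).toMonoidHom
    simp only [MulEquiv.coe_toMonoidHom, MulAut.conj_apply, inv_inv] at h4
    rwa [show g⁻¹ * (g * z * g⁻¹) * g = z by group] at h4

/-- The order of `cHull Z a` divides the order of a pair subgroup times the number of other points. -/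
theorem card_cHull_dvd {a b : Ω} (hab : a ≠ b) :
    Nat.card (cHull Z a) ∣ Nat.card (cPair Z a b) * (Nat.card Ω - 1) := by
  classical
  haveI := X.hyp.finite_points
  have hfix : ∀ (g : cHull Z a) (x : Ω), x ≠ a → (g : G) • x ≠ a := fun g x hx h =>
    hx (smul_left_cancel (g : G) (h.trans (mem_cHull.1 g.2).1.symm))
  letI : MulAction (cHull Z a) {x : Ω // x ≠ a} :=
    { smul := fun g x => ⟨(g : G) • (x : Ω), hfix g x x.2⟩
      one_smul := fun x => Subtype.ext (one_smul G (x : Ω))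
      mul_smul := fun g h x => Subtype.ext (mul_smul (g : G) (h : G) (x : Ω)) }
  haveI := Fintype.ofFinite {x : Ω // x ≠ a}
  have horb : ∀ x : {x : Ω // x ≠ a},
      Nat.card (orbit (cHull Z a) x) * Nat.card (cPair Z a b) = Nat.card (cHull Z a) := fun x => by
    rw [X.card_cPair_eq hab x.2.symm, ← (stabilizer (cHull Z a) x).card_mul_index, index_stabilizer,
      Nat.card_coe_set_eq, mul_comm]
    congr 1
    refine Nat.card_congr
      { toFun := fun k => ⟨⟨k, cPair_le_cHull _ _ k.2⟩, mem_stabilizer_iff.2 (Subtype.ext (mem_cPair.1 k.2).2.1)⟩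
        invFun := fun k => ⟨(k : cHull Z a), mem_cPair.2 ⟨(mem_cHull.1 k.1.2).1,
          congrArg Subtype.val (mem_stabilizer_iff.1 k.2), (mem_cHull.1 k.1.2).2⟩⟩
        left_inv := fun _ => rfl
        right_inv := fun _ => rfl }
  refine ⟨Nat.card (Quotient (orbitRel (cHull Z a) {x : Ω // x ≠ a})), ?_⟩
  have h1 : Nat.card {x : Ω // x ≠ a} = Nat.card Ω - 1 := by
    haveI := Fintype.ofFinite Ω
    rw [Nat.card_eq_fintype_card, Nat.card_eq_fintype_card, Fintype.card_subtype_compl, Fintype.card_subtype_eq]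
  rw [← h1, Nat.card_congr (selfEquivSigmaOrbits (cHull Z a) {x : Ω // x ≠ a})]
  haveI := Fintype.ofFinite (Quotient (orbitRel (cHull Z a) {x : Ω // x ≠ a}))
  rw [Nat.card_sigma, Finset.mul_sum, Finset.sum_congr rfl fun q _ => (mul_comm _ _).trans (horb (Quotient.out q)),
    Finset.sum_const, Finset.card_univ, smul_eq_mul, ← Nat.card_eq_fintype_card, mul_comm]

end Setting

namespace SzPair

variable {u : G} {a b : Ω} {Q J : Subgroup G} (X : SzPair Z u a b Q J)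
include X

theorem el_two_pow : ∃ n : ℕ, 2 ≤ n ∧ Nat.card (el Z a) = 2 ^ n := by
  haveI : Fact (Nat.Prime 2) := ⟨Nat.prime_two⟩
  obtain ⟨n, hn⟩ := (IsPGroup.to_le X.data.q_pGroup X.data.el_le).exists_card_eq
  refine ⟨n, ?_, hn⟩
  by_contra h
  have h4 := X.four_le
  rw [hn] at h4
  interval_cases n <;> omega

theorem q_le_cHull : Q ≤ cHull Z a := fun x hx =>
  mem_cHull.2 ⟨X.q_fix hx, fun z hz => X.data.central z (X.zAt_mem_el hz) x hx⟩

theorem u_mem : u ∈ cPair Z a b := X.set.invol_mem_cPair X.invol X.fixA X.fixB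

theorem u_mem_pCen : u ∈ pCen Z a b u := mem_pCen.2 ⟨X.u_mem, Commute.refl u⟩

theorem commute_q {x k : G} (hx : x ∈ Q) (hk : k ∈ cPair Z a b) : Commute x k := X.commute_lgen hk (X.q_mem hx)

theorem eq_one_of_q_pair {x : G} (hx : x ∈ Q) (hk : x ∈ cPair Z a b) : x = 1 :=
  X.eq_one_of_q_of_fix hx (mem_cPair.1 hk).2.1

theorem prod_inj {x y p r : G} (hx : x ∈ Q) (hy : y ∈ Q) (hp : p ∈ cPair Z a b) (hr : r ∈ cPair Z a b)
    (h : x * p = y * r) : x = y ∧ p = r := by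
  have h1 : y⁻¹ * x = r * p⁻¹ := by
    calc y⁻¹ * x = y⁻¹ * (x * p) * p⁻¹ := by group
      _ = r * p⁻¹ := by rw [h]; group
  have h2 := X.eq_one_of_q_pair (mul_mem (inv_mem hy) hx) (h1 ▸ mul_mem hr (inv_mem hp))
  obtain rfl : y = x := inv_mul_eq_one.1 h2
  exact ⟨rfl, mul_left_cancel h⟩

/-- The fixed points of an involution of the pair subgroup are those of `u`. -/
theorem fixed_eq {x : G} (hx : x ∈ cPair Z a b) (hne : x ≠ 1) (c : Ω) : x • c = c ↔ u • c = c :=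
  ⟨fun h => by_contra fun hc => hne (X.semireg hx hc h), fun h => X.fix_line hx h⟩

theorem pair_notMem {x : G} (hx : x ∈ cPair Z a b) : x ∉ Z := fun h =>
  X.ne (X.set.hyp.fix_unique h (mem_cPair.1 hx).1 (mem_cPair.1 hx).2.1)

theorem pair_notMem_el {x : G} (hx : x ∈ cPair Z a b) (hne : x ≠ 1) : x ∉ el Z a := fun h =>
  X.pair_notMem hx ((X.set.mem_el.1 h).resolve_left hne).1

/-- An element of the pair subgroup commuting with an involution of it has two-power order. -/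
theorem two_pow_of_commute {x k : G} (hx : x ∈ cPair Z a b) (hx2 : orderOf x = 2) (hk : k ∈ cPair Z a b)
    (hc : Commute k x) : ∃ i : ℕ, k ^ 2 ^ i = 1 := by
  obtain ⟨φ, hinj, hφ⟩ := X.exists_embed
  have S := X.set.hyp
  obtain ⟨w, hw⟩ : ∃ w, w = φ ⟨x, hx⟩ := ⟨_, rfl⟩
  have hw2 : orderOf w = 2 := by
    rw [hw, orderOf_injective φ hinj, ← Subgroup.orderOf_coe]
    exact hx2
  have hwL : w ∈ lgen Z u := hw ▸ hφ _
  have hwZ := X.mem_Z_of_invol hwL hw2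
  obtain ⟨g, hg⟩ : ∃ g, g = φ ⟨k, hk⟩ := ⟨_, rfl⟩
  have hgw : Commute g w := by
    rw [hg, hw]
    exact (show Commute (⟨k, hk⟩ : cPair Z a b) ⟨x, hx⟩ from Subtype.ext hc.eq).map φ
  obtain ⟨c, hwc⟩ := S.exists_fix hwZ
  obtain ⟨h, hh, hhc⟩ := S.exists_smul_lgen X.invol
    (S.fix_of_commute hwZ hwc (commute_of_mem_lgen hwL).symm) X.fixA
  obtain ⟨y, hy, j, hj, e⟩ := X.decomp (mul_mem (mul_mem hh (hg ▸ hφ _ : g ∈ lgen Z u)) (inv_mem hh))
    (by rw [mul_smul, mul_smul, inv_smul_eq_iff.2 hhc.symm, S.fix_of_commute hwZ hwc hgw, hhc])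
  have hwel : h * w * h⁻¹ ∈ el Z a := X.set.mem_el.2 (Or.inr (hhc ▸ S.zAt_conj ⟨hwZ, hwc⟩))
  have hj1 : j = 1 := by
    refine X.j_eq_one_of_commute hj hwel (fun e1 => (orderOf_two_iff.1 hw2).2 (by
      calc w = h⁻¹ * (h * w * h⁻¹) * h := by group
        _ = 1 := by rw [e1]; group)) ?_
    have h1 := hgw.map (MulAut.conj h).toMonoidHom
    simp only [MulEquiv.coe_toMonoidHom, MulAut.conj_apply] at h1
    rw [e] at h1
    rw [show j = y⁻¹ * (y * j) by group]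
    exact (X.data.central _ hwel _ hy).symm.inv_left.mul_left h1
  obtain ⟨i, hi⟩ := X.data.q_pGroup ⟨y, hy⟩
  refine ⟨i, ?_⟩
  rw [hj1, mul_one] at e
  have h1 : g ^ 2 ^ i = 1 := by
    have h2 : (h * g * h⁻¹) ^ 2 ^ i = 1 := by rw [e]; exact congrArg Subtype.val hi
    rw [conj_pow] at h2
    exact mul_left_cancel (a := h) ((mul_inv_eq_one.1 h2).trans (mul_one h).symm)
  rw [hg, ← map_pow, ← map_one φ] at h1
  exact congrArg Subtype.val (hinj h1)

theorem pCen_pGroup : IsPGroup 2 (pCen Z a b u) := fun k => by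
  obtain ⟨h1, h2⟩ := mem_pCen.1 k.2
  obtain ⟨i, hi⟩ := X.two_pow_of_commute X.u_mem X.invol h1 h2
  exact ⟨i, Subtype.ext (by rw [SubmonoidClass.coe_pow, hi]; rfl)⟩

/-- The embedding sends a 2-subgroup of the pair subgroup into the two part. -/
theorem exists_hom_q {Y : Subgroup G} (hY : IsPGroup 2 Y) (hle : Y ≤ cPair Z a b) :
    ∃ ψ : Y →* G, Function.Injective ψ ∧ ∀ y, ψ y ∈ Q := by
  obtain ⟨φ, hinj, hφ⟩ := X.exists_embed
  obtain ⟨h, -, hh⟩ := X.exists_conj_q (Y := (φ.comp (Subgroup.inclusion hle)).range)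
    (hY.of_surjective _ (MonoidHom.rangeRestrict_surjective _)) (by rintro - ⟨y, rfl⟩; exact hφ _)
  refine ⟨(MulAut.conj h).toMonoidHom.comp (φ.comp (Subgroup.inclusion hle)), ?_, fun y => hh _ ⟨y, rfl⟩⟩
  exact (MulAut.conj h).injective.comp (hinj.comp (Subgroup.inclusion_injective hle))

/-- The involutions of a 2-subgroup of the pair subgroup are central in it. -/
theorem invol_central {Y : Subgroup G} (hY : IsPGroup 2 Y) (hle : Y ≤ cPair Z a b) {x y : G} (hx : x ∈ Y)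
    (hxx : x * x = 1) (hy : y ∈ Y) : Commute x y := by
  obtain ⟨ψ, hinj, hψ⟩ := X.exists_hom_q hY hle
  have h1 : ψ ⟨x, hx⟩ ∈ el Z a := X.data.invol_mem _ (hψ _) (by
    rw [← map_mul, show (⟨x, hx⟩ : Y) * ⟨x, hx⟩ = 1 from Subtype.ext hxx, map_one])
  exact congrArg Subtype.val (hinj (show ψ (⟨x, hx⟩ * ⟨y, hy⟩) = ψ (⟨y, hy⟩ * ⟨x, hx⟩) by
    rw [map_mul, map_mul]; exact (X.data.central _ h1 _ (hψ ⟨y, hy⟩)).eq))

theorem sq_pCen {p r : G} (hp : p ∈ pCen Z a b u) (hr : r ∈ pCen Z a b u) (h : p * p = r * r) :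
    (p⁻¹ * r) * (p⁻¹ * r) = 1 := by
  obtain ⟨ψ, hinj, hψ⟩ := X.exists_hom_q X.pCen_pGroup inf_le_left
  have h1 := X.sq_inj (hψ ⟨p, hp⟩) (hψ ⟨r, hr⟩) (by rw [← map_mul, ← map_mul]; exact congrArg ψ (Subtype.ext h))
  have h2 := X.el_mul_self h1
  rw [← map_inv, ← map_mul, ← map_mul, ← map_one ψ] at h2
  exact congrArg Subtype.val (hinj h2)

/-- A 2-subgroup of the pair subgroup containing `u` centralises it. -/
theorem le_pCen {Y : Subgroup G} (hY : IsPGroup 2 Y) (hle : Y ≤ cPair Z a b) (hu : u ∈ Y) : Y ≤ pCen Z a b u :=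
  fun _ hy => mem_pCen.2 ⟨hle hy, (X.invol_central hY hle hu (mul_self_of_orderOf_two X.invol) hy).symm⟩

theorem pCen_isSylowIn : Grp.IsSylowIn 2 (pCen Z a b u) (cPair Z a b) := by
  haveI : Fact (Nat.Prime 2) := ⟨Nat.prime_two⟩
  obtain ⟨P, hP⟩ := (X.pCen_pGroup.comap_subtype (K := cPair Z a b)).exists_le_sylow
  refine Grp.isSylowIn_iff.2 ⟨P, le_antisymm ?_ fun k hk => ⟨⟨k, (mem_pCen.1 hk).1⟩, hP hk, rfl⟩⟩
  exact X.le_pCen (P.isPGroup'.map _) (Subgroup.map_subtype_le _) ⟨⟨u, X.u_mem⟩, hP X.u_mem_pCen, rfl⟩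

/-- The centraliser of `u` among the elements centralising the members is a product. -/
theorem mem_cen {g : G} : g ∈ cenAt Z a u ↔ ∃ x ∈ Q, ∃ p ∈ pCen Z a b u, g = x * p := by
  refine ⟨fun hg => ?_, ?_⟩
  · obtain ⟨h1, h2⟩ := mem_cenAt.1 hg
    have hga := (mem_cHull.1 h1).1
    obtain ⟨x, hx, hxb⟩ := X.data.q_trans _ (X.fix_smul h2 X.fixB) fun e => X.ne (smul_left_cancel g (hga.trans e.symm))
    refine ⟨x, hx, x⁻¹ * g, mem_pCen.2 ⟨mem_cPair.2 ⟨?_, ?_, fun z hz => ?_⟩, ?_⟩, (mul_inv_cancel_left x g).symm⟩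
    · rw [mul_smul, hga, inv_smul_eq_iff, X.q_fix hx]
    · rw [mul_smul, ← hxb, inv_smul_smul]
    · exact (X.data.central z (X.zAt_mem_el hz) x hx).inv_right.mul_right ((mem_cHull.1 h1).2 z hz)
    · exact (commute_of_mem_lgen (X.q_mem hx)).inv_left.mul_left h2
  · rintro ⟨x, hx, p, hp, rfl⟩
    obtain ⟨hp1, hp2⟩ := mem_pCen.1 hp
    exact mem_cenAt.2 ⟨mul_mem (X.q_le_cHull hx) (cPair_le_cHull _ _ hp1),
      (commute_of_mem_lgen (X.q_mem hx)).mul_left hp2⟩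

theorem q_le_cen : Q ≤ cenAt Z a u := fun x hx => X.mem_cen.2 ⟨x, hx, 1, one_mem _, (mul_one x).symm⟩

theorem pCen_le_cen : pCen Z a b u ≤ cenAt Z a u := fun p hp => X.mem_cen.2 ⟨1, one_mem _, p, hp, (one_mul p).symm⟩

theorem card_cen : Nat.card (cenAt Z a u) =
    Nat.card (el Z a) ^ 2 * 2 ^ (Nat.card (cPair Z a b)).factorization 2 := by
  haveI : Fact (Nat.Prime 2) := ⟨Nat.prime_two⟩
  rw [← X.pCen_isSylowIn.card, ← X.q_card, ← Nat.card_prod]
  refine (Nat.card_eq_of_bijective (fun p : Q × pCen Z a b u => (⟨p.1.1 * p.2.1,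
    X.mem_cen.2 ⟨_, p.1.2, _, p.2.2, rfl⟩⟩ : cenAt Z a u)) ⟨?_, ?_⟩).symm
  · rintro ⟨⟨x, hx⟩, ⟨p, hp⟩⟩ ⟨⟨y, hy⟩, ⟨r, hr⟩⟩ h
    obtain ⟨rfl, rfl⟩ := X.prod_inj hx hy (mem_pCen.1 hp).1 (mem_pCen.1 hr).1 (congrArg Subtype.val h)
    rfl
  · rintro ⟨g, hg⟩
    obtain ⟨x, hx, p, hp, rfl⟩ := X.mem_cen.1 hg
    exact ⟨⟨⟨x, hx⟩, ⟨p, hp⟩⟩, rfl⟩

theorem cen_pGroup : IsPGroup 2 (cenAt Z a u) := by
  obtain ⟨n, -, hn⟩ := X.el_two_pow
  exact IsPGroup.of_card (n := n * 2 + (Nat.card (cPair Z a b)).factorization 2)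
    (by rw [X.card_cen, hn, ← pow_mul, ← pow_add])

/-- The involutions of the centraliser. -/
theorem invol_cen {g : G} (hg : g ∈ cenAt Z a u) (hgg : g * g = 1) :
    ∃ e ∈ el Z a, ∃ p ∈ pCen Z a b u, p * p = 1 ∧ g = e * p := by
  obtain ⟨x, hx, p, hp, rfl⟩ := X.mem_cen.1 hg
  have hc := X.commute_q hx (mem_pCen.1 hp).1
  obtain ⟨h1, h2⟩ := X.prod_inj (mul_mem hx hx) (one_mem Q) (mul_mem (mem_pCen.1 hp).1 (mem_pCen.1 hp).1)
    (one_mem _) (by rw [← hc.symm.mul_mul_mul_comm, hgg, one_mul])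
  exact ⟨x, X.data.invol_mem x hx h1, p, hp, h2, rfl⟩

theorem cen_eq {x : G} (hx : x ∈ pCen Z a b u) (hx2 : orderOf x = 2) : cenAt Z a x = cenAt Z a u := by
  haveI : Fact (Nat.Prime 2) := ⟨Nat.prime_two⟩
  obtain ⟨hxP, hxu⟩ := mem_pCen.1 hx
  have hxx := mul_self_of_orderOf_two hx2
  refine le_antisymm (fun g hg => ?_) fun g hg => ?_
  · obtain ⟨h1, h2⟩ := mem_cenAt.1 hg
    have hga := (mem_cHull.1 h1).1
    have hne : x ≠ 1 := (orderOf_two_iff.1 hx2).2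
    have hgb : u • g • b = g • b := (X.fixed_eq hxP hne _).1
      (by rw [← mul_smul, ← h2.eq, mul_smul, (mem_cPair.1 hxP).2.1])
    obtain ⟨y, hy, hyb⟩ := X.data.q_trans _ hgb fun e => X.ne (smul_left_cancel g (hga.trans e.symm))
    have hkP : y⁻¹ * g ∈ cPair Z a b := mem_cPair.2 ⟨by rw [mul_smul, hga, inv_smul_eq_iff, X.q_fix hy],
      by rw [mul_smul, ← hyb, inv_smul_smul],
      fun z hz => (X.data.central z (X.zAt_mem_el hz) y hy).inv_right.mul_right ((mem_cHull.1 h1).2 z hz)⟩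
    have hkx : Commute (y⁻¹ * g) x := (X.commute_q hy hxP).inv_left.mul_left h2
    refine X.mem_cen.2 ⟨y, hy, y⁻¹ * g, ?_, (mul_inv_cancel_left y g).symm⟩
    have hY : IsPGroup 2 ↥(cPair Z a b ⊓ Subgroup.centralizer ({x} : Set G)) := fun k => by
      obtain ⟨k1, k2⟩ := k.2
      obtain ⟨i, hi⟩ := X.two_pow_of_commute hxP hx2 k1 (Subgroup.mem_centralizer_singleton_iff.1 k2)
      exact ⟨i, Subtype.ext (by rw [SubmonoidClass.coe_pow, hi]; rfl)⟩
    exact X.le_pCen hY inf_le_left ⟨X.u_mem, Subgroup.mem_centralizer_singleton_iff.2 hxu.symm.eq⟩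
      ⟨hkP, Subgroup.mem_centralizer_singleton_iff.2 hkx.eq⟩
  · obtain ⟨h1, -⟩ := mem_cenAt.1 hg
    obtain ⟨y, hy, p, hp, rfl⟩ := X.mem_cen.1 hg
    exact mem_cenAt.2 ⟨h1, (X.commute_q hy hxP).mul_left (X.invol_central X.pCen_pGroup inf_le_left hx hxx hp).symm⟩

theorem cen_eq_of_invol {y : G} (hy : y ∈ cenAt Z a u) (hy2 : orderOf y = 2) (hye : y ∉ el Z a) :
    cenAt Z a y = cenAt Z a u := by
  obtain ⟨e, he, p, hp, hpp, rfl⟩ := X.invol_cen hy (mul_self_of_orderOf_two hy2)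
  have hp1 : p ≠ 1 := fun h => hye (by rw [h, mul_one]; exact he)
  rw [← X.cen_eq hp (orderOf_two_iff.2 ⟨hpp, hp1⟩)]
  ext g
  refine ⟨fun hg => ?_, fun hg => ?_⟩ <;> obtain ⟨h1, h2⟩ := mem_cenAt.1 hg <;> refine mem_cenAt.2 ⟨h1, ?_⟩
  · rw [show p = e⁻¹ * (e * p) by group]
    exact (el_commute h1 (inv_mem he)).symm.mul_right h2
  · exact (el_commute h1 he).symm.mul_right h2

theorem card_points : Nat.card Ω - 1 =
    Nat.card (el Z a) ^ 3 * (Nat.card (el Z a) ^ 2 - Nat.card (el Z a) + 1) := by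
  classical
  haveI := X.set.hyp.finite_points
  haveI := X.set.faithful
  have hm : (zAt Z a).ncard + 1 = Nat.card (el Z a) := by
    rw [← Set.ncard_insert_of_notMem (a := (1 : G)) (fun h => ?_) (Set.toFinite _), ← Nat.card_coe_set_eq]
    · exact (Nat.card_congr (Equiv.subtypeEquivRight fun g => X.set.mem_el)).symm
    · exact (orderOf_two_iff.1 (X.set.hyp.invol 1 h.1)).2 rfl
  have h4 := X.four_le
  have hN := X.set.hyp.card_points X.set.closed X.set.comm X.invol X.notMem X.fixA (by omega)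
    (X.set.cent u X.invol X.notMem a X.fixA)
  rw [hN, ← X.data.q_card, X.q_card]
  obtain ⟨q, hq⟩ : ∃ q, q = Nat.card (el Z a) := ⟨_, rfl⟩
  obtain ⟨m, hm'⟩ : ∃ m, m = (zAt Z a).ncard := ⟨_, rfl⟩
  rw [← hm', ← hq] at hm ⊢
  subst hm
  rw [show (m + 1) ^ 2 - (m + 1) + 1 = (m + 1) * m + 1 by
    have : (m + 1) ^ 2 = (m + 1) * m + (m + 1) := by ring
    omega]
  have : ((m + 1) ^ 2 + 1) * (1 + (m + 1) ^ 2 * m) = (m + 1) ^ 3 * ((m + 1) * m + 1) + 1 := by ring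
  omega

/-- The bound on the 2-subgroups. -/
theorem card_le {Y : Subgroup G} (hY : IsPGroup 2 Y) (hle : Y ≤ cHull Z a) :
    Nat.card Y ≤ Nat.card (el Z a) * Nat.card (cenAt Z a u) := by
  haveI : Fact (Nat.Prime 2) := ⟨Nat.prime_two⟩
  obtain ⟨n, hn2, hn⟩ := X.el_two_pow
  obtain ⟨k, hk⟩ := hY.exists_card_eq
  obtain ⟨v, w, hw, hK⟩ : ∃ v w, Odd w ∧ Nat.card (cPair Z a b) = 2 ^ v * w :=
    ⟨_, _, Nat.odd_iff.2 (Nat.two_dvd_ne_zero.1 (Nat.not_dvd_ordCompl Nat.prime_two Nat.card_pos.ne')),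
      (Nat.ordProj_mul_ordCompl_eq_self _ 2).symm⟩
  have hfac : (Nat.card (cPair Z a b)).factorization 2 = v := by
    obtain ⟨c, rfl⟩ := hw
    rw [hK, Nat.factorization_mul (by positivity) (by omega), Finsupp.add_apply, Nat.prime_two.factorization_pow,
      Finsupp.single_eq_same, Nat.factorization_eq_zero_of_not_dvd (by omega), add_zero]
  have h1 := ((Subgroup.card_dvd_of_le hle).trans (X.set.card_cHull_dvd X.ne))
  rw [X.card_points, hK, hn, hk, show 2 ^ v * w * ((2 ^ n) ^ 3 * ((2 ^ n) ^ 2 - 2 ^ n + 1)) =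
    2 ^ (v + n * 3) * (w * ((2 ^ n) ^ 2 - 2 ^ n + 1)) by ring] at h1
  have hodd : Odd (w * ((2 ^ n) ^ 2 - 2 ^ n + 1)) := by
    refine hw.mul ?_
    have h2 : Even ((2 ^ n) ^ 2 - 2 ^ n) := by
      refine (Nat.even_sub (Nat.le_self_pow two_ne_zero _)).2 ?_
      simp [Nat.even_pow, show n ≠ 0 by omega]
    exact h2.add_one
  have h2 := (Nat.Coprime.pow_left k (Nat.coprime_two_left.2 hodd)).dvd_of_dvd_mul_right h1
  refine le_of_le_of_eq (hk ▸ Nat.le_of_dvd (by positivity) h2) ?_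
  rw [X.card_cen, hfac, hn]
  ring

theorem j_conj_cHull {k g : G} (hk : k ∈ J) (hg : g ∈ cHull Z a) : k * g * k⁻¹ ∈ cHull Z a :=
  X.set.sz_conj_cHull (X.j_fixA hk) hg

theorem j_commute_pair {k x : G} (hk : k ∈ J) (hx : x ∈ cPair Z a b) : Commute k x :=
  X.commute_lgen hx (X.j_mem hk)

theorem exists_j_ne_one : ∃ k ∈ J, k ≠ 1 := by
  have h4 := X.four_le
  have hJ := X.j_card
  by_contra h
  push Not at h
  have hbot : J = ⊥ := (Subgroup.eq_bot_iff_forall J).2 h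
  rw [hbot, Subgroup.card_bot] at hJ
  omega

/-- Conjugation by the torus commutes with taking commutators with an element of the pair subgroup. -/
theorem j_comm_conj {k g x : G} (hk : k ∈ J) (hx : x ∈ cPair Z a b) :
    k * g * k⁻¹ * x * (k * g * k⁻¹)⁻¹ * x⁻¹ = k * (g * x * g⁻¹ * x⁻¹) * k⁻¹ := by
  have hc := X.j_commute_pair hk hx
  calc k * g * k⁻¹ * x * (k * g * k⁻¹)⁻¹ * x⁻¹ = k * g * (k⁻¹ * x * k) * g⁻¹ * (k⁻¹ * x⁻¹ * k) * k⁻¹ := by group
    _ = k * g * x * g⁻¹ * x⁻¹ * k⁻¹ := by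
      rw [mul_assoc k⁻¹ x k, ← hc.eq, inv_mul_cancel_left, mul_assoc k⁻¹ x⁻¹ k, ← hc.inv_right.eq,
        inv_mul_cancel_left]
    _ = k * (g * x * g⁻¹ * x⁻¹) * k⁻¹ := by group

theorem j_conj_modEl {k g : G} (hk : k ∈ J) (hg : g ∈ modEl Z a u) : k * g * k⁻¹ ∈ modEl Z a u :=
  ⟨X.j_conj_cHull hk hg.1, by rw [X.j_comm_conj hk X.u_mem]; exact X.set.el_conj (X.j_fixA hk) hg.2⟩

/-- Either nothing more or every member arises as a commutator with `u`. -/
theorem modEl_cases : modEl Z a u = cenAt Z a u ∨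
    ∀ e ∈ el Z a, ∃ g ∈ modEl Z a u, g * u * g⁻¹ * u⁻¹ = e := by
  by_cases h : modEl Z a u ≤ cenAt Z a u
  · exact Or.inl (le_antisymm h (cenAt_le_modEl a u))
  · right
    obtain ⟨g, hg, hgc⟩ := SetLike.not_le_iff_exists.1 h
    intro e he
    by_cases he1 : e = 1
    · exact ⟨1, one_mem _, by rw [he1]; group⟩
    have hd1 : g * u * g⁻¹ * u⁻¹ ≠ 1 := fun h1 => hgc (mem_cenAt.2 ⟨hg.1,
      mul_inv_eq_iff_eq_mul.1 (mul_inv_eq_one.1 h1)⟩)
    obtain ⟨k, hk, hke⟩ := X.data.j_trans _ (X.el_ne_one hg.2 hd1) e (X.el_ne_one he he1)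
    exact ⟨k * g * k⁻¹, X.j_conj_modEl hk hg, by rw [X.j_comm_conj hk X.u_mem, hke]⟩

theorem modEl_pGroup : IsPGroup 2 (modEl Z a u) := fun g => by
  have h1 : (g : G) * g ∈ cenAt Z a u := by
    refine mem_cenAt.2 ⟨mul_mem g.2.1 g.2.1, ?_⟩
    have h2 := comm_mul g.2 g.2
    rw [X.el_mul_self g.2.2] at h2
    exact mul_inv_eq_iff_eq_mul.1 (mul_inv_eq_one.1 h2)
  obtain ⟨i, hi⟩ := X.cen_pGroup ⟨_, h1⟩
  refine ⟨i + 1, Subtype.ext ?_⟩
  rw [SubmonoidClass.coe_pow, pow_succ', pow_mul, pow_two]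
  exact congrArg Subtype.val hi

theorem card_modEl (h : ∀ e ∈ el Z a, ∃ g ∈ modEl Z a u, g * u * g⁻¹ * u⁻¹ = e) :
    Nat.card (modEl Z a u) = Nat.card (el Z a) * Nat.card (cenAt Z a u) := by
  let f : modEl Z a u →* el Z a := MonoidHom.mk' (fun g => ⟨(g : G) * u * (g : G)⁻¹ * u⁻¹, g.2.2⟩) fun g g' =>
    Subtype.ext ((comm_mul g.2 g'.2).trans (el_commute (X.set.sz_el_le_cHull a g.2.2) g'.2.2).eq)
  have hsurj : Function.Surjective f := fun e => by
    obtain ⟨g, hg, hge⟩ := h e e.2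
    exact ⟨⟨g, hg⟩, Subtype.ext hge⟩
  have hker : Nat.card f.ker = Nat.card (cenAt Z a u) := Nat.card_congr
    { toFun := fun g => ⟨(g : modEl Z a u), mem_cenAt.2 ⟨g.1.2.1, mul_inv_eq_iff_eq_mul.1 (mul_inv_eq_one.1
        (congrArg Subtype.val (MonoidHom.mem_ker.1 g.2) :))⟩⟩
      invFun := fun g => ⟨⟨g, cenAt_le_modEl a u g.2⟩, MonoidHom.mem_ker.2 (Subtype.ext (by
        show (g : G) * u * (g : G)⁻¹ * u⁻¹ = 1
        rw [(mem_cenAt.1 g.2).2.eq, mul_inv_cancel_right, mul_inv_cancel]))⟩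
      left_inv := fun _ => rfl
      right_inv := fun _ => rfl }
  rw [← f.ker.card_mul_index, Subgroup.index_ker, MonoidHom.range_eq_top_of_surjective f hsurj, Subgroup.card_top,
    hker, mul_comm]

/-- An element of the pair subgroup normalising the Sylow subgroup of two-power order lies in it. -/
theorem mem_pCen_of_normalizes {k : G} (hk : k ∈ cPair Z a b) {i : ℕ} (hki : k ^ 2 ^ i = 1)
    (hn : k ∈ normalizer (pCen Z a b u : Set G)) : k ∈ pCen Z a b u := by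
  haveI : Fact (Nat.Prime 2) := ⟨Nat.prime_two⟩
  have hP : IsPGroup 2 ↥(Subgroup.zpowers k ⊔ pCen Z a b u) := by
    refine IsPGroup.to_sup_of_normal_right' ?_ X.pCen_pGroup (Subgroup.zpowers_le.2 hn)
    obtain ⟨j, -, hj⟩ := (Nat.dvd_prime_pow Nat.prime_two).1 (orderOf_dvd_of_pow_eq_one hki)
    exact IsPGroup.of_card (n := j) (by rw [Nat.card_zpowers, hj])
  exact X.le_pCen hP (sup_le (Subgroup.zpowers_le.2 hk) inf_le_left) (Subgroup.mem_sup_right X.u_mem_pCen)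
    (Subgroup.mem_sup_left (Subgroup.mem_zpowers k))

/-- An element moving one involution of the pair subgroup to another modulo the members gives one centralising it
modulo the members. -/
theorem torus_quot {k n e x y : G} (hk : k ∈ J) (hn : n ∈ cHull Z a) (hy : y ∈ cPair Z a b) (hx : x ∈ cPair Z a b)
    (he : e ∈ el Z a) (h : n * y * n⁻¹ = e * x) :
    n⁻¹ * (k * n * k⁻¹) * y * (n⁻¹ * (k * n * k⁻¹))⁻¹ = k * e * k⁻¹ * e⁻¹ * y := by
  have hky := X.j_commute_pair hk hy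
  have hkx := X.j_commute_pair hk hx
  have hee : k * e * k⁻¹ * e⁻¹ ∈ el Z a := mul_mem (X.set.el_conj (X.j_fixA hk) he) (inv_mem he)
  calc n⁻¹ * (k * n * k⁻¹) * y * (n⁻¹ * (k * n * k⁻¹))⁻¹
      = n⁻¹ * (k * n * (k⁻¹ * (y * k)) * n⁻¹ * k⁻¹) * n := by group
    _ = n⁻¹ * (k * (n * y * n⁻¹) * k⁻¹) * n := by rw [← hky.eq, inv_mul_cancel_left]; group
    _ = n⁻¹ * (k * e * (x * k⁻¹)) * n := by rw [h]; group
    _ = n⁻¹ * (k * e * k⁻¹ * e⁻¹) * (e * x) * n := by rw [← hkx.inv_left.eq]; group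
    _ = k * e * k⁻¹ * e⁻¹ * y := by rw [← (el_commute (inv_mem hn) hee).eq, ← h]; group

/-- If nothing centralises `u` modulo the members but its centraliser, an element moving `u` into it moves `u` into
the pair subgroup. -/
theorem conj_mem_pCen_of_eq (hS : modEl Z a u = cenAt Z a u) {g : G} (hg : g ∈ cHull Z a)
    (hn : g * u * g⁻¹ ∈ cenAt Z a u) : g * u * g⁻¹ ∈ pCen Z a b u := by
  obtain ⟨e, he, x, hx, -, hex⟩ := X.invol_cen hn (by
    rw [← pow_two, conj_pow, pow_two, mul_self_of_orderOf_two X.invol, mul_one, mul_inv_cancel])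
  obtain ⟨k, hk, hk1⟩ := X.exists_j_ne_one
  have hmu := X.torus_quot hk hg X.u_mem (mem_pCen.1 hx).1 he hex
  have hmS : g⁻¹ * (k * g * k⁻¹) ∈ modEl Z a u := ⟨mul_mem (inv_mem hg) (X.j_conj_cHull hk hg), by
    rw [hmu, mul_inv_cancel_right]; exact mul_mem (X.set.el_conj (X.j_fixA hk) he) (inv_mem he)⟩
  rw [hS] at hmS
  rw [(mem_cenAt.1 hmS).2.eq, mul_inv_cancel_right] at hmu
  have h1 : k * e * k⁻¹ = e := mul_inv_eq_one.1 (mul_right_cancel ((one_mul u).trans hmu)).symm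
  have he1 : e = 1 := by
    by_contra h
    exact hk1 (X.j_eq_one_of_commute hk he h (mul_inv_eq_iff_eq_mul.1 h1))
  rw [hex, he1, one_mul]
  exact hx

/-- The elements centralising `u` modulo the members form a maximal 2-subgroup. -/
theorem modEl_maximal {Y : Subgroup G} (hY : IsPGroup 2 Y) (hle : Y ≤ cHull Z a) (hS : modEl Z a u ≤ Y) :
    Y = modEl Z a u := by
  haveI : Fact (Nat.Prime 2) := ⟨Nat.prime_two⟩
  rcases X.modEl_cases with hC | hall
  swap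
  · exact (Subgroup.eq_of_le_of_card_ge hS ((X.card_le hY hle).trans_eq (X.card_modEl hall).symm)).symm
  by_contra hne
  have hlt : (modEl Z a u).subgroupOf Y < ⊤ :=
    lt_top_iff_ne_top.2 fun h => hne (le_antisymm (Subgroup.subgroupOf_eq_top.1 h) hS)
  haveI : Group.IsNilpotent Y := hY.isNilpotent
  obtain ⟨⟨n, hnY⟩, hnN, hnC⟩ := SetLike.exists_of_lt (Group.normalizerCondition_of_isNilpotent _ hlt)
  have hnN' : ∀ c ∈ cenAt Z a u, n * c * n⁻¹ ∈ cenAt Z a u := fun c hc => by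
    have hcS : c ∈ modEl Z a u := by rw [hC]; exact hc
    have h1 := (Subgroup.mem_normalizer_iff.1 hnN ⟨c, hS hcS⟩).1 (Subgroup.mem_subgroupOf.2 hcS)
    rw [Subgroup.mem_subgroupOf] at h1
    exact hC ▸ h1
  have hnH := hle hnY
  have hnu := X.conj_mem_pCen_of_eq hC hnH (hnN' u (cenAt_le_modEl a u |>.trans_eq hC <| mem_cenAt.2
    ⟨cPair_le_cHull _ _ X.u_mem, Commute.refl u⟩))
  obtain ⟨hxP, -⟩ := mem_pCen.1 hnu
  have hx1 : n * u * n⁻¹ ≠ 1 := fun h => (orderOf_two_iff.1 X.invol).2 (by simpa using h)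
  have hnb : u • n • b = n • b := (X.fixed_eq hxP hx1 _).1 (by rw [conj_smul_smul, X.fixB])
  have hna := (mem_cHull.1 hnH).1
  obtain ⟨y, hy, hyb⟩ := X.data.q_trans _ hnb fun e => X.ne (smul_left_cancel n (hna.trans e.symm))
  have hkP : y⁻¹ * n ∈ cPair Z a b := mem_cPair.2 ⟨by rw [mul_smul, hna, inv_smul_eq_iff, X.q_fix hy],
    by rw [mul_smul, ← hyb, inv_smul_smul],
    fun z hz => (X.data.central z (X.zAt_mem_el hz) y hy).inv_right.mul_right ((mem_cHull.1 hnH).2 z hz)⟩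
  obtain ⟨i, hi⟩ := hY ⟨n, hnY⟩
  have hni : n ^ 2 ^ i = 1 := congrArg Subtype.val hi
  have hki : (y⁻¹ * n) ^ 2 ^ i = 1 := by
    refine X.eq_one_of_q_pair ?_ (pow_mem hkP _)
    have h1 : (y * (y⁻¹ * n)) ^ 2 ^ i = 1 := by rw [mul_inv_cancel_left, hni]
    rw [(X.commute_q hy hkP).mul_pow, mul_eq_one_iff_inv_eq] at h1
    exact h1 ▸ inv_mem (pow_mem hy _)
  have hkN : y⁻¹ * n ∈ normalizer (pCen Z a b u : Set G) := Subgroup.mem_normalizer_fintype fun c hc => by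
    have h1 : y⁻¹ * n * c * (y⁻¹ * n)⁻¹ ∈ cenAt Z a u := by
      rw [show y⁻¹ * n * c * (y⁻¹ * n)⁻¹ = y⁻¹ * (n * c * n⁻¹) * y by group]
      exact mul_mem (mul_mem (inv_mem (X.q_le_cen hy)) (hnN' c (X.pCen_le_cen hc))) (X.q_le_cen hy)
    exact mem_pCen.2 ⟨mul_mem (mul_mem hkP (mem_pCen.1 hc).1) (inv_mem hkP), (mem_cenAt.1 h1).2⟩
  have hn' : n ∈ cenAt Z a u := X.mem_cen.2 ⟨y, hy, y⁻¹ * n, X.mem_pCen_of_normalizes hkP hki hkN, by group⟩
  exact hnC (Subgroup.mem_subgroupOf.2 (hC ▸ hn'))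

theorem modEl_isSylowIn : Grp.IsSylowIn 2 (modEl Z a u) (cHull Z a) := by
  haveI : Fact (Nat.Prime 2) := ⟨Nat.prime_two⟩
  obtain ⟨P, hP⟩ := (X.modEl_pGroup.comap_subtype (K := cHull Z a)).exists_le_sylow
  refine Grp.isSylowIn_iff.2 ⟨P, ?_⟩
  exact (X.modEl_maximal (P.isPGroup'.map _) (Subgroup.map_subtype_le _) fun k hk => ⟨⟨k, hk.1⟩, hP hk, rfl⟩)

/-- The involutions of the pair centraliser give the same subgroup. -/
theorem modEl_eq {x : G} (hx : x ∈ pCen Z a b u) (hx2 : orderOf x = 2) : modEl Z a x = modEl Z a u := by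
  obtain ⟨hxP, -⟩ := mem_pCen.1 hx
  obtain ⟨Q', J', X'⟩ := X.set.exists_szPair X.pow hx2 (X.pair_notMem hxP) X.ne (mem_cPair.1 hxP).1
    (mem_cPair.1 hxP).2.1
  have hCle : cenAt Z a u ≤ modEl Z a x := (X.cen_eq hx hx2).ge.trans (cenAt_le_modEl a x)
  rcases X.modEl_cases with hC | hall
  · exact hC ▸ (X.modEl_maximal X'.modEl_pGroup (fun g hg => hg.1) (hC ▸ hCle)).trans hC
  refine (X'.modEl_maximal X.modEl_pGroup (fun g hg => hg.1) ?_).symm
  -- here the larger subgroup is the one of `u`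
  suffices h : modEl Z a u ≤ modEl Z a x by
    exact (Subgroup.eq_of_le_of_card_ge h (by
      rw [X.card_modEl hall]; exact (X.card_le X'.modEl_pGroup fun g hg => hg.1))).ge
  intro g hg
  obtain ⟨k, hk, hk1⟩ := X.exists_j_ne_one
  -- the images of the commutators with the torus cover the members
  let f : el Z a → el Z a := fun e => ⟨k * (e : G) * k⁻¹ * (e : G)⁻¹,
    mul_mem (X.set.el_conj (X.j_fixA hk) e.2) (inv_mem e.2)⟩
  have hf : Function.Injective f := fun e e' h => by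
    have h' : k * (e : G) * k⁻¹ * (e : G)⁻¹ = k * (e' : G) * k⁻¹ * (e' : G)⁻¹ := congrArg Subtype.val h
    by_contra hne
    have hd : (e' : G)⁻¹ * e ≠ 1 := fun h1 => hne (Subtype.ext (inv_mul_eq_one.1 h1).symm)
    refine hk1 (X.j_eq_one_of_commute hk (mul_mem (inv_mem e'.2) e.2) hd (mul_inv_eq_iff_eq_mul.1 ?_))
    have hcc : Commute (k * (e' : G)⁻¹ * k⁻¹) (k * (e : G) * k⁻¹) :=
      el_commute (X.set.sz_el_le_cHull a (X.set.el_conj (X.j_fixA hk) e.2)) (X.set.el_conj (X.j_fixA hk) (inv_mem e'.2))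
    calc k * ((e' : G)⁻¹ * e) * k⁻¹ = k * (e' : G)⁻¹ * k⁻¹ * (k * (e : G) * k⁻¹ * (e : G)⁻¹) * e := by group
      _ = (e' : G)⁻¹ * e := by rw [h']; group
  obtain ⟨e, he⟩ := (Finite.injective_iff_surjective.1 hf) ⟨_, hg.2⟩
  have he' : k * (e : G) * k⁻¹ * (e : G)⁻¹ = g * u * g⁻¹ * u⁻¹ := congrArg Subtype.val he
  obtain ⟨n, hn, hne⟩ := hall e e.2
  have hnu : n * u * n⁻¹ = (e : G) * u := by rw [← hne, inv_mul_cancel_right]
  have huu : u ∈ cHull Z a := cPair_le_cHull _ _ X.u_mem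
  -- the quotient `m` of `n` by its conjugate differs from `g` by an element of the centraliser
  obtain ⟨m, hm⟩ : ∃ m, m = n⁻¹ * (k * n * k⁻¹) := ⟨_, rfl⟩
  have hmH : m ∈ cHull Z a := hm ▸ mul_mem (inv_mem hn.1) (X.j_conj_cHull hk hn.1)
  have hmu : m * u * m⁻¹ = g * u * g⁻¹ := by
    rw [hm, X.torus_quot hk hn.1 X.u_mem X.u_mem e.2 hnu, he', inv_mul_cancel_right]
  have hc : m⁻¹ * g ∈ cenAt Z a u := by
    refine mem_cenAt.2 ⟨mul_mem (inv_mem hmH) hg.1, ?_⟩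
    show m⁻¹ * g * u = u * (m⁻¹ * g)
    calc m⁻¹ * g * u = m⁻¹ * (g * u * g⁻¹) * g := by group
      _ = m⁻¹ * (m * u * m⁻¹) * g := by rw [hmu]
      _ = u * (m⁻¹ * g) := by group
  -- `m` centralises `x` modulo the members
  have hn2 : n * x * n⁻¹ ∈ cenAt Z a u := by
    have h1 := X.set.conj_cenAt (mem_cHull.1 hn.1).1 (X.pCen_le_cen hx)
    rwa [hnu, X.cen_eq_of_invol (mem_cenAt.2 ⟨mul_mem (X.set.sz_el_le_cHull a e.2) huu,
      (el_commute huu e.2).mul_left (Commute.refl u)⟩) (by rw [← hnu, orderOf_conj_eq]; exact X.invol) fun h =>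
        X.pair_notMem_el X.u_mem (orderOf_two_iff.1 X.invol).2 (by simpa using mul_mem (inv_mem e.2) h)] at h1
  obtain ⟨e₁, he₁, x₁, hx₁, -, hnx⟩ := X.invol_cen hn2 (by
    rw [← pow_two, conj_pow, pow_two, mul_self_of_orderOf_two hx2, mul_one, mul_inv_cancel])
  have hmx : m ∈ modEl Z a x := ⟨hmH, by
    rw [hm, X.torus_quot hk hn.1 hxP (mem_pCen.1 hx₁).1 he₁ hnx, mul_inv_cancel_right]
    exact mul_mem (X.set.el_conj (X.j_fixA hk) he₁) (inv_mem he₁)⟩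
  exact (mul_inv_cancel_left m g) ▸ mul_mem hmx (hCle hc)

end SzPair

end Cfsg.Agent.Invol.Aschbacher.Last
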