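import Cfsg.Agent.Lib.Invol.Aschbacher.Last.Glue

/-!
# An outside involution at two of its fixed points, case of order `q ^ 2`

The elements fixing two points and centralising the members there centralise the group of an outside involution of
the pair, hence fix its fixed points, and otherwise fix nothing.  They embed in that group, so every involution there
has a 2-group as centraliser among them.
-/

set_option autoImplicit false
set_option linter.unusedSectionVars false
set_option linter.style.haveILetI false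

namespace Cfsg.Agent.Invol.Aschbacher.Last

open MulAction Subgroup
open Cfsg.Agent.Invol.Bender (pairStab mem_pair conj_smul_smul)

universe u

variable {G : Type u} [Group G] [Finite G] {Ω : Type u} [MulAction G Ω] {Z : Set G}

/-- An outside involution at two of its fixed points in the case of order `q ^ 2`. -/
structure SzPair (Z : Set G) (u : G) (a b : Ω) (Q J : Subgroup G) : Prop where
  set : Setting G Ω Z
  pow : OthersPow Z Ω 2
  invol : orderOf u = 2
  notMem : u ∉ Z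
  ne : a ≠ b
  fixA : u • a = a
  fixB : u • b = b
  data : LineData Z u a b Q J
  square : LineSquare Z u a b Q J

theorem Setting.exists_szPair (X : Setting G Ω Z) (hk : OthersPow Z Ω 2) {u : G} (hu : orderOf u = 2)
    (huZ : u ∉ Z) {a b : Ω} (hab : a ≠ b) (ha : u • a = a) (hb : u • b = b) :
    ∃ Q J : Subgroup G, SzPair Z u a b Q J := by
  obtain ⟨Q, J, D, -, h, -⟩ := X.exists_lineData_pow hk hu huZ hab ha hb
  exact ⟨Q, J, X, hk, hu, huZ, hab, ha, hb, D, h rfl⟩

/-- `q + 1` does not divide `(q ^ 2 + 1) q ^ 2 (q - 1)`. -/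
theorem not_succ_dvd {q : ℕ} (hq : 4 ≤ q) : ¬ (q + 1) ∣ (q ^ 2 + 1) * (q ^ 2 * (q - 1)) := by
  intro h
  have h1 : ((q + 1 : ℕ) : ℤ) ∣ ((q ^ 2 + 1) * (q ^ 2 * (q - 1)) : ℕ) := Int.natCast_dvd_natCast.2 h
  push_cast [Nat.cast_sub (show 1 ≤ q by omega)] at h1
  have h2 : ((q : ℤ) + 1) ∣ 4 := by
    have h3 : (((q : ℤ) ^ 2 + 1) * ((q : ℤ) ^ 2 * ((q : ℤ) - 1))) =
        ((q : ℤ) + 1) * ((q : ℤ) ^ 4 - 2 * (q : ℤ) ^ 3 + 3 * (q : ℤ) ^ 2 - 4 * (q : ℤ) + 4) - 4 := by ring
    rw [h3] at h1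
    have h4 := dvd_sub (dvd_mul_right ((q : ℤ) + 1)
      ((q : ℤ) ^ 4 - 2 * (q : ℤ) ^ 3 + 3 * (q : ℤ) ^ 2 - 4 * (q : ℤ) + 4)) h1
    simpa only [sub_sub_self] using h4
  have := Int.le_of_dvd (by norm_num) h2
  omega

namespace SzPair

variable {u : G} {a b : Ω} {Q J : Subgroup G} (X : SzPair Z u a b Q J)
include X

theorem el_mul_self {e : G} (he : e ∈ el Z a) : e * e = 1 := by
  rcases X.set.mem_el.1 he with rfl | h
  · exact one_mul 1
  · exact mul_self_of_orderOf_two (X.set.hyp.invol e h.1)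

theorem el_fix {e : G} (he : e ∈ el Z a) : e • a = a := by
  rcases X.set.mem_el.1 he with rfl | h
  exacts [one_smul _ a, h.2]

theorem el_ne_one {e : G} (he : e ∈ el Z a) (h : e ≠ 1) : e ∈ zAt Z a := (X.set.mem_el.1 he).resolve_left h

theorem zAt_mem_el {e : G} (he : e ∈ zAt Z a) : e ∈ el Z a := X.set.mem_el.2 (Or.inr he)

theorem q_fix {x : G} (hx : x ∈ Q) : x • a = a := ((X.data.mem_q x).1 hx).2.1

theorem q_mem {x : G} (hx : x ∈ Q) : x ∈ lgen Z u := ((X.data.mem_q x).1 hx).1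

theorem j_mem {k : G} (hk : k ∈ J) : k ∈ lgen Z u := ((X.data.mem_j k).1 hk).1

theorem j_fixA {k : G} (hk : k ∈ J) : k • a = a := ((X.data.mem_j k).1 hk).2.1

theorem j_fixB {k : G} (hk : k ∈ J) : k • b = b := ((X.data.mem_j k).1 hk).2.2.1

theorem q_card : Nat.card Q = Nat.card (el Z a) ^ 2 := X.square.1

theorem four_le : 4 ≤ Nat.card (el Z a) := X.data.four_le

theorem mem_Z_of_invol {r : G} (hr : r ∈ lgen Z u) (hr2 : orderOf r = 2) : r ∈ Z :=
  haveI := X.set.faithful
  (X.set.hyp.frame_centralizer X.set.closed X.invol X.notMem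
    (X.set.twoRank X.invol X.notMem X.fixA)).sub.zonly r hr hr2

theorem eq_one_of_q_of_fix {x : G} (hx : x ∈ Q) (hxb : x • b = b) : x = 1 :=
  X.data.q_semireg x hx b X.fixB X.ne.symm hxb

theorem j_inter_q {k : G} (hk : k ∈ J) (hkQ : k ∈ Q) : k = 1 := X.eq_one_of_q_of_fix hkQ (X.j_fixB hk)

theorem j_eq_one_of_commute {k e : G} (hk : k ∈ J) (he : e ∈ el Z a) (hne : e ≠ 1) (hc : Commute k e) : k = 1 := by
  by_contra h
  exact hne (X.data.j_fpf k hk h e (X.data.el_le he) hc)

theorem fix_smul {g : G} (hg : Commute g u) {c : Ω} (hc : u • c = c) : u • g • c = g • c := by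
  rw [← mul_smul, ← hg.eq, mul_smul, hc]

/-- An element of the group fixing the point is a product from the two part and the torus. -/
theorem decomp {g : G} (hg : g ∈ lgen Z u) (hga : g • a = a) : ∃ x ∈ Q, ∃ k ∈ J, g = x * k := by
  obtain ⟨x, hx, hxb⟩ := X.data.q_trans (g • b) (X.fix_smul (commute_of_mem_lgen hg) X.fixB)
    fun e => X.ne (smul_left_cancel g (hga.trans e.symm))
  refine ⟨x, hx, x⁻¹ * g, X.square.2.1 _ (mul_mem (inv_mem (X.q_mem hx)) hg) ?_ ?_, (mul_inv_cancel_left x g).symm⟩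
  · rw [mul_smul, hga, inv_smul_eq_iff, X.q_fix hx]
  · rw [mul_smul, ← hxb, inv_smul_smul]

theorem ncard_fixed : {c : Ω | u • c = c}.ncard = Nat.card (el Z a) ^ 2 + 1 := by
  haveI := X.set.hyp.finite_points
  rw [← X.q_card, X.data.q_card, ← Set.ncard_insert_of_notMem (a := a) (fun h => h.2 rfl) (Set.toFinite _)]
  congr 1
  ext x
  exact ⟨fun hx => (eq_or_ne x a).imp id fun hne => ⟨hx, hne⟩, fun hx => hx.elim (fun e => e ▸ X.fixA) fun hx => hx.1⟩

theorem orbit_lgen : orbit (lgen Z u) a = {c : Ω | u • c = c} := by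
  ext c
  refine ⟨?_, fun hc => ?_⟩
  · rintro ⟨g, rfl⟩
    exact X.fix_smul (commute_of_mem_lgen g.2) X.fixA
  · obtain ⟨g, hg, hgc⟩ := X.set.hyp.exists_smul_lgen X.invol X.fixA hc
    exact ⟨⟨g, hg⟩, hgc⟩

theorem card_stab : Nat.card (stabilizer (lgen Z u) a) = Nat.card (el Z a) ^ 2 * Nat.card J := by
  rw [← X.q_card, ← Nat.card_prod]
  refine (Nat.card_eq_of_bijective (fun p : Q × J => (⟨⟨p.1.1 * p.2.1, mul_mem (X.q_mem p.1.2) (X.j_mem p.2.2)⟩,
    mem_stabilizer_iff.2 (show (p.1.1 * p.2.1) • a = a by rw [mul_smul, X.j_fixA p.2.2, X.q_fix p.1.2])⟩ :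
      stabilizer (lgen Z u) a)) ⟨?_, ?_⟩).symm
  · rintro ⟨⟨x, hx⟩, ⟨k, hk⟩⟩ ⟨⟨y, hy⟩, ⟨l, hl⟩⟩ h
    have h' : x * k = y * l := congrArg (fun g : stabilizer (lgen Z u) a => ((g : lgen Z u) : G)) h
    have h1 : y⁻¹ * x = l * k⁻¹ := by
      calc y⁻¹ * x = y⁻¹ * (x * k) * k⁻¹ := by group
        _ = l * k⁻¹ := by rw [h']; group
    have h2 := X.j_inter_q (mul_mem hl (inv_mem hk)) (h1 ▸ mul_mem (inv_mem hy) hx)
    have h3 : l = k := mul_inv_eq_one.1 h2
    subst h3
    have h4 : x = y := mul_right_cancel h'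
    subst h4
    rfl
  · rintro ⟨⟨g, hg⟩, hga⟩
    obtain ⟨x, hx, k, hk, e⟩ := X.decomp hg (mem_stabilizer_iff.1 hga)
    exact ⟨⟨⟨x, hx⟩, ⟨k, hk⟩⟩, Subtype.ext (Subtype.ext e.symm)⟩

theorem j_card : Nat.card J = Nat.card (el Z a) - 1 := by have := X.data.j_card; omega

theorem card_lgen :
    Nat.card (lgen Z u) = (Nat.card (el Z a) ^ 2 + 1) * (Nat.card (el Z a) ^ 2 * (Nat.card (el Z a) - 1)) := by
  rw [← (stabilizer (lgen Z u) a).card_mul_index, index_stabilizer, X.orbit_lgen, X.ncard_fixed, X.card_stab,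
    X.j_card, mul_comm]

/-- The group is generated by the members at one point and the swappers. -/
theorem lgen_eq : lgen Z u = Subgroup.closure (zAt Z a ∪ zSwap Z a b) := by
  classical
  haveI := X.set.hyp.finite_points
  have S := X.set.hyp
  obtain ⟨M, hM⟩ : ∃ M, M = Subgroup.closure (zAt Z a ∪ zSwap Z a b) := ⟨_, rfl⟩
  rw [← hM]
  have hle : M ≤ lgen Z u := by
    rw [hM, Subgroup.closure_le]
    rintro g (hg | hg)
    · exact X.set.mem_lgen_of_fix X.invol X.notMem X.fixA hg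
    · exact X.set.swap_mem_lgen X.invol X.ne X.fixA X.fixB hg
  refine le_antisymm ?_ hle
  have hEM : ∀ e ∈ el Z a, e ∈ M := fun e he =>
    (Subgroup.closure_mono Set.subset_union_left : el Z a ≤ _) he |> fun h => hM ▸ h
  obtain ⟨t, ht⟩ := S.zAt_nonempty a
  obtain ⟨s, hs⟩ := S.zAt_nonempty b
  obtain ⟨v, hvZ, -, -, hva⟩ := S.exists_swapper ht.1 hs.1 ht.2 hs.2 X.ne
  have hvv := mul_self_of_orderOf_two (S.invol v hvZ)
  have hvM : v ∈ M := hM ▸ Subgroup.subset_closure (Or.inr ⟨hvZ, hva⟩)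
  have hJM : J ≤ M := fun k hk => by
    have hvk := ((X.data.mem_j k).1 hk).2.2.2 v ⟨hvZ, hva⟩
    have h2 : orderOf (v * k) = 2 := orderOf_two_iff.2 ⟨by rw [← mul_assoc, hvk, inv_mul_cancel], fun e => X.ne (by
      calc a = (v * k) • a := by rw [e, one_smul]
        _ = b := by rw [mul_smul, X.j_fixA hk, hva])⟩
    have hmem : v * k ∈ M := hM ▸ Subgroup.subset_closure (Or.inr
      ⟨X.mem_Z_of_invol (mul_mem (X.set.swap_mem_lgen X.invol X.ne X.fixA X.fixB ⟨hvZ, hva⟩) (X.j_mem hk)) h2,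
        by rw [mul_smul, X.j_fixA hk, hva]⟩)
    rw [show k = v * (v * k) by rw [← mul_assoc, hvv, one_mul]]
    exact mul_mem hvM hmem
  by_cases hall : {c : Ω | u • c = c} ⊆ orbit M a
  · refine (Subgroup.closure_le _).2 fun z hz => ?_
    obtain ⟨c, hc⟩ := S.exists_fix hz.1
    obtain ⟨m, hm⟩ := hall (S.fix_of_commute hz.1 hc hz.2.symm)
    have hma : (m : G) • a = c := hm
    have h1 : (m : G)⁻¹ * z * (m : G)⁻¹⁻¹ ∈ zAt Z a := by
      have h0 := S.zAt_conj (g := (m : G)⁻¹) (⟨hz.1, hc⟩ : z ∈ zAt Z c)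
      rwa [inv_smul_eq_iff.2 hma.symm] at h0
    have h2 := mul_mem (mul_mem m.2 (hEM _ (X.zAt_mem_el h1))) (inv_mem m.2)
    rwa [show (m : G) * ((m : G)⁻¹ * z * (m : G)⁻¹⁻¹) * (m : G)⁻¹ = z by group] at h2
  · exfalso
    have horb : orbit M a = insert a ((fun e : G => e • b) '' (el Z a : Set G)) := by
      refine Set.Subset.antisymm (fun c hc => ?_) ?_
      · by_contra hcn
        obtain ⟨⟨m, hm⟩, rfl⟩ := hc
        have hca : m • a ≠ a := fun e => hcn (Set.mem_insert_iff.2 (Or.inl e))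
        obtain ⟨x, hx, hxc⟩ := X.data.q_trans _ (X.fix_smul (commute_of_mem_lgen (hle hm)) X.fixA) hca
        refine hall fun d hd => ?_
        rcases eq_or_ne d a with rfl | hda
        · exact mem_orbit_self _
        obtain ⟨y, hy, hyd⟩ := X.data.q_trans d hd hda
        by_cases hye : y ∈ el Z a
        · refine ⟨⟨y * v, mul_mem (hEM y hye) hvM⟩, ?_⟩
          show (y * v) • a = d
          rw [mul_smul, hva, hyd]
        have hxe : x ∉ el Z a := fun h => hcn (Set.mem_insert_iff.2 (Or.inr ⟨x, h, hxc⟩))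
        obtain ⟨k, hk, e, he, hyk⟩ := X.square.2.2.2 x hx hxe y hy hye
        refine ⟨⟨e * (k * m), mul_mem (hEM e he) (mul_mem (hJM hk) hm)⟩, ?_⟩
        show (e * (k * m)) • a = d
        have hkk : k * x * k⁻¹ ∈ Q := X.data.q_conj k (commute_of_mem_lgen (X.j_mem hk)) (X.j_fixA hk) x hx
        rw [mul_smul, mul_smul, show m • a = x • b from hxc.symm, ← hyd, hyk,
          ← (X.data.central e he _ hkk).eq, mul_smul e, mul_smul (k * x), mul_smul k,
          inv_smul_eq_iff.2 (X.j_fixB hk).symm]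
      · rintro c (rfl | ⟨e, he, rfl⟩)
        · exact mem_orbit_self _
        · refine ⟨⟨e * v, mul_mem (hEM e he) hvM⟩, ?_⟩
          show (e * v) • a = e • b
          rw [mul_smul, hva]
    have hcard : (orbit M a).ncard = Nat.card (el Z a) + 1 := by
      rw [horb, Set.ncard_insert_of_notMem _ (Set.toFinite _), Set.InjOn.ncard_image, ← Nat.card_coe_set_eq]
      · rfl
      · intro e he f hf hef
        refine (inv_mul_eq_one.1 (X.eq_one_of_q_of_fix (mul_mem (inv_mem (X.data.el_le he)) (X.data.el_le hf)) ?_))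
        rw [mul_smul, ← show e • b = f • b from hef, inv_smul_smul]
      · rintro ⟨e, he, hea⟩
        exact X.ne (smul_left_cancel e ((X.el_fix he).trans hea.symm))
    have h1 : (stabilizer M a).index ∣ Nat.card M := Subgroup.index_dvd_card _
    rw [index_stabilizer, hcard] at h1
    exact not_succ_dvd X.four_le ((h1.trans (Subgroup.card_dvd_of_le hle)).trans (by rw [X.card_lgen]))

/-- The pair subgroup centralises the group of the involution. -/
theorem commute_lgen {k : G} (hk : k ∈ cPair Z a b) {g : G} (hg : g ∈ lgen Z u) : Commute g k := by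
  refine Subgroup.mem_centralizer_singleton_iff.1 ((Subgroup.closure_le (Subgroup.centralizer ({k} : Set G))).2 ?_
    (X.lgen_eq ▸ hg))
  rintro z (hz | hz) <;> refine Subgroup.mem_centralizer_singleton_iff.2 ?_
  · exact ((mem_cPair.1 hk).2.2 z hz).eq
  · exact (X.set.commute_swap X.ne hk hz).eq

theorem fix_line {k : G} (hk : k ∈ cPair Z a b) {c : Ω} (hc : u • c = c) : k • c = c := by
  obtain ⟨g, hg, rfl⟩ := X.set.hyp.exists_smul_lgen X.invol X.fixA hc
  rw [← mul_smul, ← (X.commute_lgen hk hg).eq, mul_smul, (mem_cPair.1 hk).1]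

/-- The group of the involution is semiregular outside its fixed points. -/
theorem lgen_semireg {g : G} (hg : g ∈ lgen Z u) {x : Ω} (hx : u • x ≠ x) (hgx : g • x = x) : g = 1 := by
  classical
  have S := X.set.hyp
  obtain ⟨w, hw, hwu, hgw, -⟩ := X.set.exists_middle_fix X.invol X.notMem hx (commute_of_mem_lgen hg) hgx
  obtain ⟨c, hc⟩ := S.exists_fix hw
  have hgc : g • c = c := S.fix_of_commute hw hc hgw
  obtain ⟨h, hh, hhc⟩ := S.exists_smul_lgen X.invol (S.fix_of_commute hw hc hwu.symm) X.fixA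
  have hc' : h⁻¹ • a = c := inv_smul_eq_iff.2 hhc.symm
  obtain ⟨y, hy, k, hk, e⟩ := X.decomp (mul_mem (mul_mem hh hg) (inv_mem hh))
    (by rw [mul_smul, mul_smul, hc', hgc, hhc])
  have hw' : h * w * h⁻¹ ∈ zAt Z a := hhc ▸ S.zAt_conj ⟨hw, hc⟩
  have hk1 : k = 1 := by
    refine X.j_eq_one_of_commute hk (X.zAt_mem_el hw') (fun e => ?_) ?_
    · exact (orderOf_two_iff.1 (S.invol _ hw'.1)).2 e
    · have h1 := hgw.map (MulAut.conj h).toMonoidHom
      simp only [MulEquiv.coe_toMonoidHom, MulAut.conj_apply] at h1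
      rw [e] at h1
      rw [show k = y⁻¹ * (y * k) by group]
      exact (X.data.central _ (X.zAt_mem_el hw') _ hy).symm.inv_left.mul_left h1
  rw [hk1, mul_one] at e
  by_contra hne
  have hy1 : y ≠ 1 := fun h1 => hne (by
    rw [h1] at e
    calc g = h⁻¹ * (h * g * h⁻¹) * h := by group
      _ = 1 := by rw [e]; group)
  obtain ⟨n, hn⟩ := X.data.q_pGroup ⟨y, hy⟩
  have hex : ∃ n : ℕ, y ^ 2 ^ n = 1 := ⟨n, congrArg Subtype.val hn⟩
  obtain ⟨i, hi⟩ := Nat.exists_eq_succ_of_ne_zero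
    (show Nat.find hex ≠ 0 from fun h0 => hy1 (by have := Nat.find_spec hex; rwa [h0, pow_zero, pow_one] at this))
  have hi1 : y ^ 2 ^ i ≠ 1 := Nat.find_min hex (by omega)
  have hi2 : y ^ 2 ^ i * y ^ 2 ^ i = 1 := by
    have := Nat.find_spec hex
    rw [hi, pow_succ, pow_mul, pow_two] at this
    exact this
  have hmem := X.el_ne_one (X.data.invol_mem _ (pow_mem hy _) hi2) hi1
  have hfix : ∀ m : ℕ, y ^ m • h • x = h • x := fun m => by
    have h1 : y • h • x = h • x := by rw [← e, conj_smul_smul, hgx]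
    induction m with
    | zero => rw [pow_zero, one_smul]
    | succ m ih => rw [pow_succ, mul_smul, h1, ih]
  refine hx ?_
  have hxa : h • x = a := S.fix_unique hmem.1 (hfix _) hmem.2
  rw [← hhc] at hxa
  rw [smul_left_cancel h hxa]
  exact S.fix_of_commute hw hc hwu.symm

theorem ncard_moved : {c : Ω | u • c ≠ c}.ncard = Nat.card (lgen Z u) := by
  classical
  haveI := X.set.hyp.finite_points
  haveI := X.set.faithful
  have S := X.set.hyp
  have hc : cAt Z u a = zAt Z a :=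
    Set.ext fun e => ⟨fun h => h.1, fun h => ⟨h, X.set.cent u X.invol X.notMem a X.fixA e h⟩⟩
  have hm : (zAt Z a).ncard + 1 = Nat.card (el Z a) := by
    rw [← Set.ncard_insert_of_notMem (a := (1 : G)) (fun h => ?_) (Set.toFinite _), ← Nat.card_coe_set_eq]
    · exact (Nat.card_congr (Equiv.subtypeEquivRight fun g => X.set.mem_el)).symm
    · exact (orderOf_two_iff.1 (S.invol 1 h.1)).2 rfl
  have h4 := X.four_le
  have h := S.card_moved_mul X.set.closed X.set.comm X.invol X.notMem X.fixA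
    (by rw [hc]; omega)
  rw [hc, X.ncard_fixed, ← X.data.q_card, X.q_card, pow_two (Set.ncard (zAt Z a)), ← mul_assoc] at h
  rw [Nat.eq_of_mul_eq_mul_right (by omega) h, X.card_lgen, ← hm, Nat.add_sub_cancel]
  ring

/-- The group of the involution is transitive on the moved points. -/
theorem exists_lgen_moved {x y : Ω} (hx : u • x ≠ x) (hy : u • y ≠ y) : ∃ l ∈ lgen Z u, l • x = y := by
  haveI := X.set.hyp.finite_points
  have hmv : ∀ l : lgen Z u, u • (l : G) • x ≠ (l : G) • x := fun l h => hx (by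
    have h1 := X.fix_smul (commute_of_mem_lgen (inv_mem l.2)) h
    rwa [inv_smul_smul] at h1)
  have hinj : Function.Injective (fun l : lgen Z u => (⟨(l : G) • x, hmv l⟩ : {c : Ω | u • c ≠ c})) := fun l m h => by
    have h1 : (l : G) • x = (m : G) • x := congrArg Subtype.val h
    exact Subtype.ext (inv_mul_eq_one.1 (X.lgen_semireg (mul_mem (inv_mem l.2) m.2) hx
      (by rw [mul_smul, ← h1, inv_smul_smul])))
  obtain ⟨l, hl⟩ := ((Nat.bijective_iff_injective_and_card _).2
    ⟨hinj, by rw [Nat.card_coe_set_eq, X.ncard_moved]⟩).surjective ⟨y, hy⟩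
  exact ⟨l, l.2, congrArg Subtype.val hl⟩

/-- An element of the pair subgroup fixing a point moved by the involution is trivial. -/
theorem semireg {k : G} (hk : k ∈ cPair Z a b) {x : Ω} (hx : u • x ≠ x) (hkx : k • x = x) : k = 1 := by
  haveI := X.set.faithful
  refine FaithfulSMul.eq_of_smul_eq_smul (α := Ω) fun y => ?_
  rw [one_smul]
  by_cases hy : u • y = y
  · exact X.fix_line hk hy
  · obtain ⟨l, hl, rfl⟩ := X.exists_lgen_moved hx hy
    rw [← mul_smul, ← (X.commute_lgen hk hl).eq, mul_smul, hkx]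

theorem exists_moved : ∃ x : Ω, u • x ≠ x := by
  haveI := X.set.hyp.finite_points
  have h : 0 < {c : Ω | u • c ≠ c}.ncard := by rw [X.ncard_moved]; exact Nat.card_pos
  exact (Set.ncard_pos (Set.toFinite _)).1 h

/-- The pair subgroup embeds in the group of the involution. -/
theorem exists_embed : ∃ φ : cPair Z a b →* G, Function.Injective φ ∧ ∀ k, φ k ∈ lgen Z u := by
  classical
  obtain ⟨x, hx⟩ := X.exists_moved
  have hex : ∀ k : cPair Z a b, ∃ l : lgen Z u, (l : G) • x = (k : G) • x := fun k => by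
    obtain ⟨l, hl, h⟩ := X.exists_lgen_moved hx (y := (k : G) • x) (fun h => hx (by
      have h1 := X.fix_line (inv_mem k.2) h
      rw [inv_smul_smul] at h1
      rwa [← h1] at h))
    exact ⟨⟨l, hl⟩, h⟩
  choose f hf using hex
  have huniq : ∀ (k : cPair Z a b) (l : G), l ∈ lgen Z u → l • x = (k : G) • x → (f k : G) = l := fun k l hl h =>
    inv_mul_eq_one.1 (X.lgen_semireg (mul_mem (inv_mem (f k).2) hl) hx (by rw [mul_smul, h, ← hf k, inv_smul_smul]))
  refine ⟨MonoidHom.mk' (fun k => ((f k : G))⁻¹) fun j k => ?_, fun j k h => ?_, fun k => inv_mem (f k).2⟩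
  · show ((f (j * k) : G))⁻¹ = ((f j : G))⁻¹ * ((f k : G))⁻¹
    rw [← _root_.mul_inv_rev, inv_inj]
    refine huniq _ _ (mul_mem (f k).2 (f j).2) ?_
    rw [mul_smul, hf j, Subgroup.coe_mul, mul_smul, ← mul_smul, (X.commute_lgen j.2 (f k).2).eq, mul_smul, hf k]
  · have h' : (f j : G) = (f k : G) := inv_inj.1 h
    refine Subtype.ext (inv_mul_eq_one.1 (X.semireg (mul_mem (inv_mem j.2) k.2) hx ?_))
    rw [mul_smul, ← hf k, ← h', hf j, inv_smul_smul]

/-- A 2-subgroup of the group of the involution is conjugate into the two part. -/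
theorem exists_conj_q {Y : Subgroup G} (hY : IsPGroup 2 Y) (hle : Y ≤ lgen Z u) :
    ∃ h ∈ lgen Z u, ∀ y ∈ Y, h * y * h⁻¹ ∈ Q := by
  haveI := X.set.hyp.finite_points
  haveI : Fact (Nat.Prime 2) := ⟨Nat.prime_two⟩
  have hfix : ∀ (y : Y) (c : {c : Ω // u • c = c}), u • (y : G) • (c : Ω) = (y : G) • (c : Ω) := fun y c =>
    X.fix_smul (commute_of_mem_lgen (hle y.2)) c.2
  letI : MulAction Y {c : Ω // u • c = c} :=
    { smul := fun y c => ⟨(y : G) • (c : Ω), hfix y c⟩
      one_smul := fun c => Subtype.ext (one_smul G (c : Ω))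
      mul_smul := fun y z c => Subtype.ext (mul_smul (y : G) (z : G) (c : Ω)) }
  have hodd : ¬ 2 ∣ Nat.card {c : Ω // u • c = c} := by
    rw [show Nat.card {c : Ω // u • c = c} = Nat.card (el Z a) ^ 2 + 1 from
      (Nat.card_coe_set_eq {c : Ω | u • c = c}).trans X.ncard_fixed]
    obtain ⟨n, hn⟩ := (IsPGroup.to_le X.data.q_pGroup X.data.el_le).exists_card_eq
    have h4 := X.four_le
    rw [hn] at h4 ⊢
    rcases n with _ | n
    · norm_num at h4
    · intro hd
      have h2 : (2 : ℕ) ∣ (2 ^ (n + 1)) ^ 2 := dvd_pow (dvd_pow_self 2 (Nat.succ_ne_zero n)) (by norm_num)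
      exact absurd ((Nat.dvd_add_right h2).1 hd) (by norm_num)
  obtain ⟨c, hc⟩ := hY.nonempty_fixed_point_of_prime_not_dvd_card _ hodd
  obtain ⟨h, hh, hhc⟩ := X.set.hyp.exists_smul_lgen X.invol c.2 X.fixA
  refine ⟨h, hh, fun y hy => (X.data.mem_q _).2 ⟨mul_mem (mul_mem hh (hle hy)) (inv_mem hh), ?_, ?_⟩⟩
  · have h1 : y • (c : Ω) = c := congrArg Subtype.val (hc ⟨y, hy⟩)
    rw [mul_smul, mul_smul, inv_smul_eq_iff.2 hhc.symm, h1, hhc]
  · obtain ⟨i, hi⟩ := hY ⟨y, hy⟩
    exact ⟨i, by rw [conj_pow, show y ^ 2 ^ i = 1 from congrArg Subtype.val hi, mul_one, mul_inv_cancel]⟩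

/-- In the two part equal squares give equal cosets of the members. -/
theorem sq_inj {x y : G} (hx : x ∈ Q) (hy : y ∈ Q) (h : x * x = y * y) : x⁻¹ * y ∈ el Z a := by
  by_cases hxe : x ∈ el Z a
  · exact mul_mem (inv_mem hxe) (X.data.invol_mem y hy (by rw [← h, X.el_mul_self hxe]))
  have hye : y ∉ el Z a := fun hye => hxe (X.data.invol_mem x hx (by rw [h, X.el_mul_self hye]))
  obtain ⟨k, hk, e, he, hyk⟩ := X.square.2.2.2 x hx hxe y hy hye
  have hkx : k * x * k⁻¹ ∈ Q := X.data.q_conj k (commute_of_mem_lgen (X.j_mem hk)) (X.j_fixA hk) x hx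
  have hyy : y * y = k * (x * x) * k⁻¹ := by
    rw [hyk]
    calc k * x * k⁻¹ * e * (k * x * k⁻¹ * e) = k * x * k⁻¹ * (k * x * k⁻¹) * (e * e) := by
          rw [mul_assoc (k * x * k⁻¹) e, ← mul_assoc e (k * x * k⁻¹) e, (X.data.central e he _ hkx).eq]
          group
      _ = k * (x * x) * k⁻¹ := by rw [X.el_mul_self he]; group
  have hk1 : k = 1 := by
    refine X.j_eq_one_of_commute hk (X.data.sq_mem x hx) (fun h1 => hxe (X.data.invol_mem x hx h1)) ?_
    exact (mul_inv_eq_iff_eq_mul.1 (hyy.symm.trans h.symm))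
  rw [hyk, hk1, one_mul, inv_one, mul_one, inv_mul_cancel_left]
  exact he

/-- Only the members are central in the two part. -/
theorem center_q {z : G} (hz : z ∈ Q) (hc : ∀ x ∈ Q, Commute x z) : z ∈ el Z a := by
  by_contra hze
  obtain ⟨x, hx, y, hy, hne⟩ := X.square.2.2.1
  have hcen : ∀ y ∈ Q, ∀ x ∈ Q, Commute x y := by
    intro y hy x hx
    by_cases hye : y ∈ el Z a
    · exact (X.data.central y hye x hx).symm
    obtain ⟨k, hk, e, he, hyk⟩ := X.square.2.2.2 z hz hze y hy hye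
    have hkc : Commute k⁻¹ u := (commute_of_mem_lgen (X.j_mem hk)).inv_left
    have h1 : k⁻¹ * x * k⁻¹⁻¹ ∈ Q := X.data.q_conj _ hkc (inv_smul_eq_iff.2 (X.j_fixA hk).symm) x hx
    have h2 := (hc _ h1).map (MulAut.conj k).toMonoidHom
    simp only [MulEquiv.coe_toMonoidHom, MulAut.conj_apply] at h2
    rw [show k * (k⁻¹ * x * k⁻¹⁻¹) * k⁻¹ = x by group] at h2
    rw [hyk]
    exact h2.mul_right (X.data.central e he x hx).symm
  exact hne (hcen y hy x hx).eq

end SzPair

end Cfsg.Agent.Invol.Aschbacher.Last
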